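import Cfsg.Agent.Mrg.Omega.NearFF.Symp

section


/-!
# (BT), `|V/E| = 2`: there is no minimal pair with `|[E, b]| ≥ 4` for all `b` (project OMEGA, leaf N1)

Text: helper132, bb OMEGA #17318, Case 1 (5), (6).
-/

set_option autoImplicit false
set_option linter.unusedSectionVars false

namespace Cfsg.Agent.Omega.NearFF

open Subgroup Cfsg.Agent.Omega.Transv

variable {Y : Type*} [Group Y] {V : Type*} [AddCommGroup V] [Module (ZMod 2) V] [DistribMulAction Y V]

theorem dua_injF {g : Y} {φ ψ : Du V} (h : dua g φ = dua g ψ) : φ = ψ := by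
  rw [← dua_inv g φ, h, dua_inv]

theorem card_half [Finite V] (E : AddSubgroup V) (ψ : Du V) :
    Nat.card E ≤ 2 * Nat.card {u : V // u ∈ E ∧ ψ u = 0} := by
  classical
  by_cases h0 : ∃ e ∈ E, ψ e = 1
  · obtain ⟨e, he, he1⟩ := h0
    have h1 : Nat.card (Fin 2 × {u : V // u ∈ E ∧ ψ u = 0}) = 2 * Nat.card {u : V // u ∈ E ∧ ψ u = 0} := by
      rw [Nat.card_prod, Nat.card_fin]
    rw [← h1]
    refine Nat.card_le_card_of_injective (fun u : E => if hu : ψ u = 0 then
      ((0 : Fin 2), (⟨u, u.2, hu⟩ : {u : V // u ∈ E ∧ ψ u = 0})) else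
      ((1 : Fin 2), ⟨u + e, add_mem u.2 he, by rw [map_add, he1, eq_one_of_ne hu, one_add_one]⟩)) ?_
    intro u u' h2
    by_cases hu : ψ u = 0
    · by_cases hu' : ψ u' = 0
      · simp only [hu, hu', dif_pos] at h2
        exact Subtype.ext (congrArg (fun p => (p.2 : V)) h2)
      · simp only [hu, hu', dif_pos, dif_neg, not_false_iff] at h2
        have h3 : (0 : Fin 2) = 1 := congrArg Prod.fst h2
        exact absurd h3 (by decide)
    · by_cases hu' : ψ u' = 0
      · simp only [hu, hu', dif_pos, dif_neg, not_false_iff] at h2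
        have h3 : (1 : Fin 2) = 0 := congrArg Prod.fst h2
        exact absurd h3 (by decide)
      · simp only [hu, hu', dif_neg, not_false_iff] at h2
        have h3 : (u : V) + e = u' + e := congrArg (fun p => (p.2 : V)) h2
        exact Subtype.ext (add_right_cancel h3)
  · push Not at h0
    have h1 : Nat.card E ≤ Nat.card {u : V // u ∈ E ∧ ψ u = 0} :=
      Nat.card_le_card_of_injective (fun u : E => (⟨u, u.2, eq_zero_of_ne (h0 u u.2)⟩ :
        {u : V // u ∈ E ∧ ψ u = 0})) fun u u' h2 =>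
        Subtype.ext (congrArg (fun p : {u : V // u ∈ E ∧ ψ u = 0} => (p : V)) h2)
    omega

namespace MP

variable {φ : Du V} {B L : Subgroup Y} {w : V} (h : MP φ B L w)
include h

/-- `B` is transitive on `φ^L - φ` -/
theorem trans (hE : ∀ l ∈ L, φ (l • w) = 0) {x : Y} (hx : x ∈ L) (hne : dua x φ ≠ φ) {v : V}
    {A : Subgroup Y} (hA : Out φ B L w x v A) {y : Y} (hy : y ∈ L) (hney : dua y φ ≠ φ) :
    ∃ b ∈ B, dua y φ = dua (b * x) φ := by
  obtain ⟨t₁, h1, t₂, h2, h3, h4, h5⟩ := h.split hE hx hne (orb_mem_PW (w := w) hy)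
  have hw : Fx B (y⁻¹ • (y • w)) := by
    rw [inv_smul_smul]
    exact h.fixw
  have hyL : ¬ Fx L (y • w) := fun h0 => h.w_not ((fx_smul hy).1 h0)
  have h6 : ¬ Fx L t₂ := by
    intro h0
    refine hyL (h.fix_of2 hy hney ?_ hw)
    rw [h3]
    exact h4.add (h.fx_B h0)
  obtain ⟨b, hb, h7⟩ := hA.surj t₂ h2 h5 h6 t₁ h1 h4
  refine ⟨b, hb, ?_⟩
  by_contra hc
  refine hyL (h.fix_of3 hy (mul_mem (h.le hb) hx) hc hw ?_)
  have h8 : b • (y • w) = t₂ + (cm b t₂ + t₁) := by
    rw [h3, smul_add, h4 b hb, smul_eq_add_cm b t₂]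
    abel
  rw [mul_inv_rev, h.inv_B hb, mul_smul, h8, smul_add]
  exact h5.add (h.fx_B ((fx_smul (inv_mem hx)).2 h7))

theorem dua_b {b : Y} (hb : b ∈ B) (ψ : Du V) (u : V) : dua b ψ u = ψ u + ψ (cm b u) := by
  rw [dua_apply, h.inv_B hb, smul_eq_add_cm, map_add]

/-- **no minimal pair** with `|[E, b]| ≥ 4` for all `1 ≠ b ∈ B` -/
theorem false_of_big [Finite Y] [Finite V] (hbig : Big φ B) : False := by
  classical
  have hE := h.case2 hbig
  obtain ⟨x, hx, hne⟩ := h.ex
  obtain ⟨v, hv⟩ := exists_one h.ne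
  obtain ⟨A, hA⟩ := h.exists_out hE hx hne hv
  have htr := fun {y : Y} (hy : y ∈ L) (hney : dua y φ ≠ φ) => h.trans hE hx hne hA hy hney
  have h3 := fun {a : Y} (ha : a ∈ B) (hax : dua a (dua x φ) = dua x φ) => h.three hE hx hne ha hax
  -- `b₁, b₂`
  obtain ⟨a, haA, ha1⟩ := hA.ne
  have haB := hA.le haA
  have hk0 : ∀ b ∈ B, (b ∈ KL L φ ↔ cm a (cm b v) = 0) := by
    intro b hb
    rw [cm_comm (h.nb.comm a haB b hb)]
    exact ⟨fun h0 => hA.perp0 a haA b hb h0, fun h0 => hA.perp1 a haA ha1 b hb h0⟩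
  have hmul : ∀ b ∈ B, ∀ c ∈ B, cm a (cm (b * c) v) = cm a (cm b v) + cm a (cm c v) := by
    intro b hb c hc
    rw [cm_mul, cm_add, cm_add, cm_eq_zero.2 (h.nb.ed _ (h.nb.cm_mem hc v) b hb a haB), add_zero]
  obtain ⟨e₁, he₁, g1, -⟩ := hbig a haB ha1 0
  obtain ⟨e₂, he₂, g2, g3⟩ := hbig a haB ha1 (cm a e₁)
  obtain ⟨b₁, hb₁, hd₁⟩ := h.nb.surj _ e₁ hv he₁
  obtain ⟨b₂, hb₂, hd₂⟩ := h.nb.surj _ e₂ hv he₂
  have k1 : cm a (cm b₁ v) = cm a e₁ := h.cm_cm_of_fx haB hd₁
  have k2 : cm a (cm b₂ v) = cm a e₂ := h.cm_cm_of_fx haB hd₂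
  have n1 : b₁ ∉ KL L φ := by
    rw [hk0 b₁ hb₁, k1]
    exact g1
  have n2 : b₂ ∉ KL L φ := by
    rw [hk0 b₂ hb₂, k2]
    exact g2
  have n3 : b₁ * b₂ ∉ KL L φ := by
    rw [hk0 _ (mul_mem hb₁ hb₂), hmul b₁ hb₁ b₂ hb₂, k1, k2]
    exact fun h0 => g3 (eq_of_add h0).symm
  -- (5)
  obtain ⟨d, hd, hd1⟩ : ∃ d, Fx B d ∧ dua x φ d = 1 := by
    by_contra hc
    push Not at hc
    have h0 : ∀ d, Fx B d → dua x φ d = 0 := fun d hd => eq_zero_of_ne (hc d hd)
    have h1 : ∀ b ∈ B, b ∉ KL L φ → dua x φ (cm b v) = 1 := by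
      intro b hb hbK
      refine eq_one_of_ne fun h4 => hbK (h3 hb ?_)
      refine LinearMap.ext fun u => ?_
      rw [h.dua_b hb]
      have h5 : dua x φ (cm b u) = 0 := by
        rcases zmod_cases (φ u) with h6 | h6
        · exact h0 _ (h.nb.ed u h6 b hb)
        · have h7 : φ (u + v) = 0 := by rw [map_add, h6, hv, one_add_one]
          have h8 := h0 _ (h.nb.ed _ h7 b hb)
          rw [cm_add, map_add, h4, add_zero] at h8
          exact h8
      rw [h5, add_zero]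
    have h4 := h1 _ (mul_mem hb₁ hb₂) n3
    rw [cm_mul, map_add, map_add, h1 b₁ hb₁ n1, h1 b₂ hb₂ n2,
      h0 _ (h.nb.ed _ (h.nb.cm_mem hb₂ v) b₁ hb₁), add_zero, one_add_one] at h4
    exact one_ne h4.symm
  have hd' : ∀ y ∈ L, dua y φ ≠ φ → dua y φ d = 1 := by
    intro y hy hney
    obtain ⟨b, hb, h4⟩ := htr hy hney
    rw [h4, dua_mul, dua_apply, hd _ (inv_mem hb), hd1]
  -- (5')
  have hrad : ∀ b ∈ B, (∀ c ∈ B, dua x φ (cm c (cm b v)) = 0) → b ∈ KL L φ := by
    intro b hb hr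
    by_contra hbK
    have h4 : dua b (dua x φ) + dua x φ = φ := by
      refine (eq_of_hyper (φ := φ) (ψ := dua b (dua x φ) + dua x φ) fun e he => ?_).resolve_left ?_
      · obtain ⟨c, hc, h5⟩ := h.nb.surj v e hv he
        rw [LinearMap.add_apply, h.dua_b hb]
        have h6 : dua x φ (cm b e) = 0 := by
          rw [← h.cm_cm_of_fx hb h5, cm_comm (h.nb.comm b hb c hc)]
          exact hr c hc
        rw [h6, add_zero, add_self]
      · intro h0
        refine hbK (h3 hb (LinearMap.ext fun u => ?_))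
        have h5 := LinearMap.congr_fun h0 u
        rw [LinearMap.add_apply] at h5
        exact eq_of_add h5
    obtain ⟨c, hc, hcK, hbc⟩ : ∃ c ∈ B, c ∉ KL L φ ∧ b * c ∉ KL L φ := by
      by_cases h5 : b * b₁ ∈ KL L φ
      · refine ⟨b₂, hb₂, n2, fun h6 => n3 ?_⟩
        have h7 := mul_mem h5 h6
        have h8 : b * b₁ * (b * b₂) = b₁ * b₂ := by
          rw [h.nb.comm b hb b₁ hb₁, mul_assoc b₁ b, ← mul_assoc b b, h.nb.sq b hb, one_mul]
        rwa [h8] at h7
      · exact ⟨b₁, hb₁, n1, h5⟩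
    have hg : (c * x)⁻¹ ∈ L := inv_mem (mul_mem (h.le hc) hx)
    have e1 : dua (c * x)⁻¹ φ ≠ φ := by
      intro h0
      apply hne
      have h5 : dua c (dua x φ) = dua c φ := by
        rw [h.dua_B hc, ← dua_mul]
        conv_lhs => rw [← h0, ← dua_mul, mul_inv_cancel, dua_one]
      exact dua_injF h5
    have e2 : dua ((c * x)⁻¹ * x) φ ≠ φ := by
      intro h0
      apply hcK
      apply h3 hc
      rw [dua_mul] at h0
      have h5 : dua (c * x) (dua (c * x)⁻¹ (dua x φ)) = dua (c * x) φ := by rw [h0]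
      rw [← dua_mul, mul_inv_cancel, dua_one, dua_mul] at h5
      exact h5.symm
    have e3 : dua ((c * x)⁻¹ * (b * x)) φ ≠ φ := by
      intro h0
      apply hbc
      apply h3 (mul_mem hb hc)
      rw [dua_mul] at h0
      have h5 : dua (c * x) (dua (c * x)⁻¹ (dua (b * x) φ)) = dua (c * x) φ := by rw [h0]
      rw [← dua_mul, mul_inv_cancel, dua_one, dua_mul c] at h5
      rw [dua_mul b c, ← h5, ← dua_mul, ← mul_assoc, h.nb.sq b hb, one_mul]
    have e4 := hd' _ hg e1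
    have e5 := hd' _ (mul_mem hg hx) e2
    have e6 := hd' _ (mul_mem hg (mul_mem (h.le hb) hx)) e3
    rw [dua_mul] at e5 e6
    rw [dua_apply] at e4 e5 e6
    have e7 := LinearMap.congr_fun h4 (((c * x)⁻¹)⁻¹ • d)
    rw [LinearMap.add_apply, ← dua_mul, e6, e5, e4, one_add_one] at e7
    exact one_ne e7.symm
  -- (6)
  let El : V → Prop := fun u => ∀ y ∈ L, dua y φ u = 0
  have hEl1 : ∀ l ∈ L, ∀ u, El u → El (l • u) := by
    intro l hl u hu y hy
    have h4 := hu (l⁻¹ * y) (mul_mem (inv_mem hl) hy)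
    rw [dua_mul, dua_apply, inv_inv] at h4
    exact h4
  have hAf : ∀ a ∈ A, ∀ u, El u → a • u = u := by
    intro a ha u hu
    have haB := hA.le ha
    have hu0 : φ u = 0 := by
      have h4 := hu 1 (one_mem L)
      rwa [dua_one] at h4
    obtain ⟨b, hb, h4⟩ := h.nb.surj v u hv hu0
    have h5 : b ∈ KL L φ := by
      refine hrad b hb fun c hc => ?_
      have h6 := hu (c * x) (mul_mem (h.le hc) hx)
      rw [dua_mul, h.dua_b hc, hu x hx, zero_add] at h6
      rwa [h.cm_cm_of_fx hc h4]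
    rw [← cm_eq_zero, ← h.cm_cm_of_fx haB h4, cm_comm (h.nb.comm a haB b hb)]
    exact hA.perp0 a ha b hb h5
  have hAc : ∀ a ∈ A, ∀ u, El (cm a u) := by
    intro a ha u y hy
    rw [cm_def, map_add, stabF_apply (mem_stabF.2 (hA.KL a ha y hy)), add_self]
  have hXf : ∀ a ∈ A, ∀ u, El u → (x * a * x⁻¹) • u = u := by
    intro a ha u hu
    rw [mul_smul, mul_smul, hAf a ha _ (hEl1 _ (inv_mem hx) u hu), smul_inv_smul]
  have hXc : ∀ a ∈ A, ∀ u, El (cm (x * a * x⁻¹) u) := by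
    intro a ha u
    rw [smul_cm_inv]
    exact hEl1 x hx _ (hAc a ha _)
  have hcom : ∀ a ∈ A, ∀ c ∈ A, a * (x * c * x⁻¹) = x * c * x⁻¹ * a := by
    intro a ha c hc
    refine h.faith.ext fun u => ?_
    rw [mul_smul a, mul_smul (x * c * x⁻¹) a, smul_eq_add_cm (x * c * x⁻¹) u, smul_add,
      hAf a ha _ (hXc c hc u),
      smul_eq_add_cm a u, smul_add, hXf c hc _ (hAc a ha u), smul_eq_add_cm (x * c * x⁻¹) u]
    abel
  have hti : ∀ a ∈ A, ∀ c ∈ A, a = x * c * x⁻¹ → c = 1 := by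
    intro a ha c hc h4
    by_contra hc1
    have h5 : a • d = d := hd a (hA.le ha)
    rw [h4, mul_smul, mul_smul] at h5
    have h6 : c • (x⁻¹ • d) = x⁻¹ • d := by rw [eq_inv_smul_iff, h5]
    have h7 := h.nb.fix (hA.le hc) hc1 h6
    rw [dua_apply, h7] at hd1
    exact one_ne hd1.symm
  have hAcomm : ∀ a ∈ A, ∀ b ∈ A, a * b = b * a := fun a ha b hb =>
    h.nb.comm a (hA.le ha) b (hA.le hb)
  let K : Subgroup Y :=
    { carrier := {k | ∃ a ∈ A, ∃ c ∈ A, k = a * (x * c * x⁻¹)}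
      one_mem' := ⟨1, one_mem A, 1, one_mem A, by group⟩
      mul_mem' := by
        rintro _ _ ⟨a, ha, c, hc, rfl⟩ ⟨a', ha', c', hc', rfl⟩
        refine ⟨a * a', mul_mem ha ha', c * c', mul_mem hc hc', ?_⟩
        calc a * (x * c * x⁻¹) * (a' * (x * c' * x⁻¹))
            = a * (x * c * x⁻¹ * a') * (x * c' * x⁻¹) := by group
          _ = a * (a' * (x * c * x⁻¹)) * (x * c' * x⁻¹) := by rw [hcom a' ha' c hc]
          _ = a * a' * (x * (c * c') * x⁻¹) := by group
      inv_mem' := by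
        rintro _ ⟨a, ha, c, hc, rfl⟩
        refine ⟨a⁻¹, inv_mem ha, c⁻¹, inv_mem hc, ?_⟩
        rw [hcom a ha c hc]
        group }
  have hKc : ∀ a ∈ K, ∀ b ∈ K, a * b = b * a := by
    rintro _ ⟨a, ha, c, hc, rfl⟩ _ ⟨a', ha', c', hc', rfl⟩
    calc a * (x * c * x⁻¹) * (a' * (x * c' * x⁻¹))
        = a * (x * c * x⁻¹ * a') * (x * c' * x⁻¹) := by group
      _ = a * (a' * (x * c * x⁻¹)) * (x * c' * x⁻¹) := by rw [hcom a' ha' c hc]
      _ = a * a' * (x * (c * c') * x⁻¹) := by group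
      _ = a' * a * (x * (c' * c) * x⁻¹) := by rw [hAcomm a ha a' ha', hAcomm c hc c' hc']
      _ = a' * (a * (x * c' * x⁻¹)) * (x * c * x⁻¹) := by group
      _ = a' * (x * c' * x⁻¹ * a) * (x * c * x⁻¹) := by rw [hcom a ha c' hc']
      _ = a' * (x * c' * x⁻¹) * (a * (x * c * x⁻¹)) := by group
  have hK2 : ∀ a ∈ K, a * a = 1 := by
    rintro _ ⟨a, ha, c, hc, rfl⟩
    calc a * (x * c * x⁻¹) * (a * (x * c * x⁻¹))
        = a * (x * c * x⁻¹ * a) * (x * c * x⁻¹) := by group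
      _ = a * (a * (x * c * x⁻¹)) * (x * c * x⁻¹) := by rw [hcom a ha c hc]
      _ = a * a * (x * (c * c) * x⁻¹) := by group
      _ = 1 := by rw [h.nb.sq a (hA.le ha), h.nb.sq c (hA.le hc)]; group
  have hKcard : Nat.card A * Nat.card A = Nat.card K := by
    rw [← Nat.card_prod]
    refine Nat.card_congr (Equiv.ofBijective
      (fun p : A × A => (⟨p.1 * (x * p.2 * x⁻¹), p.1, p.1.2, p.2, p.2.2, rfl⟩ : K)) ⟨?_, ?_⟩)
    · rintro ⟨⟨a, ha⟩, c, hc⟩ ⟨⟨a', ha'⟩, c', hc'⟩ h4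
      have h5 : a * (x * c * x⁻¹) = a' * (x * c' * x⁻¹) := congrArg Subtype.val h4
      have h6 : a'⁻¹ * a = x * (c' * c⁻¹) * x⁻¹ := by
        have h7 : a'⁻¹ * a = a'⁻¹ * (a * (x * c * x⁻¹)) * (x * c * x⁻¹)⁻¹ := by group
        rw [h7, h5]
        group
      have h7 := hti _ (mul_mem (inv_mem ha') ha) _ (mul_mem hc' (inv_mem hc)) h6
      have h8 : c' = c := by rwa [mul_inv_eq_one] at h7
      subst h8
      rw [mul_inv_cancel, mul_one, mul_inv_cancel] at h6
      have h9 : a' = a := inv_mul_eq_one.1 h6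
      subst h9
      rfl
    · rintro ⟨_, a, ha, c, hc, rfl⟩
      exact ⟨(⟨a, ha⟩, ⟨c, hc⟩), rfl⟩
  have hKne : K ≠ ⊥ := by
    intro h0
    have h4 : a ∈ K := ⟨a, haA, 1, one_mem A, by group⟩
    rw [h0, mem_bot] at h4
    exact ha1 h4
  have hoff := h.noff K hKne hKc hK2
  have hElK : Nat.card {u : V // El u} ≤ Nat.card {u : V // Fx K u} := by
    refine Nat.card_le_card_of_injective (fun u : {u : V // El u} => (⟨u, ?_⟩ : {u : V // Fx K u})) ?_
    · rintro _ ⟨a, ha, c, hc, rfl⟩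
      rw [mul_smul, hXf c hc _ u.2, hAf a ha _ u.2]
    · intro u u' h4
      exact Subtype.ext (congrArg (fun p : {u : V // Fx K u} => (p : V)) h4)
  obtain ⟨E, hE', hEc⟩ := h.card_VH hv (inf_le_left : B ⊓ KL L φ ≤ B)
  have hEE : Nat.card {u : V // u ∈ E ∧ dua x φ u = 0} ≤ Nat.card {u : V // El u} := by
    refine Nat.card_le_card_of_injective (fun u : {u : V // u ∈ E ∧ dua x φ u = 0} =>
      (⟨u, ?_⟩ : {u : V // El u})) ?_
    · obtain ⟨u, hu, hux⟩ := u
      obtain ⟨b, hb, h4⟩ := (hE' u).1 hu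
      have hu0 : φ u = 0 := by
        have h5 := h.phi_of_fx h4
        rwa [map_add, h.nb.cm_mem hb.1, zero_add] at h5
      intro y hy
      change dua y φ u = 0
      by_cases hney : dua y φ = φ
      · rw [hney, hu0]
      · obtain ⟨c, hc, h5⟩ := htr hy hney
        rw [h5, dua_mul, h.dua_b hc, hux, zero_add, ← h.cm_cm_of_fx hc h4,
          cm_comm (h.nb.comm c hc b hb.1), cm_def, map_add,
          stabF_apply (mem_stabF.2 (hb.2 x hx)), add_self]
    · intro u u' h4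
      exact Subtype.ext (congrArg (fun p : {u : V // El u} => (p : V)) h4)
  have hhalf := card_half E (dua x φ)
  have hV := h.card_V
  rw [← hA.card] at hV
  -- `4 ≤ |A|`
  have h4A : 4 * Nat.card ((B ⊓ KL L φ : Subgroup Y)) ≤ Nat.card B := by
    let B₁ : Subgroup Y :=
      { carrier := {b | b ∈ B ∧ (cm a (cm b v) = 0 ∨ cm a (cm b v) = cm a e₁)}
        one_mem' := ⟨one_mem B, Or.inl (by rw [cm_one, cm_zero])⟩
        mul_mem' := by
          rintro b c ⟨hb, hb'⟩ ⟨hc, hc'⟩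
          refine ⟨mul_mem hb hc, ?_⟩
          rw [hmul b hb c hc]
          rcases hb' with h4 | h4 <;> rcases hc' with h5 | h5 <;> rw [h4, h5]
          · left; rw [add_zero]
          · right; rw [zero_add]
          · right; rw [add_zero]
          · left; rw [add_self]
        inv_mem' := by
          rintro b ⟨hb, hb'⟩
          rw [h.inv_B hb]
          exact ⟨hb, hb'⟩ }
    have h4 : 2 * Nat.card ((B ⊓ KL L φ : Subgroup Y)) ≤ Nat.card B₁ :=
      card_two_le (fun b hb => ⟨hb.1, Or.inl ((hk0 b hb.1).1 hb.2)⟩) (k := b₁) ⟨hb₁, Or.inr k1⟩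
        (fun h5 => n1 h5.2)
    have h5 : 2 * Nat.card B₁ ≤ Nat.card B :=
      card_two_le (fun b hb => hb.1) (k := b₂) hb₂ (fun h6 => by
        rcases h6.2 with h7 | h7
        · exact g2 (by rw [← k2, h7])
        · exact g3 (by rw [← k2, h7]))
    omega
  have hpos : 0 < Nat.card ((B ⊓ KL L φ : Subgroup Y)) := Nat.card_pos
  have h4A' : 4 ≤ Nat.card A := by
    rw [← hA.card] at h4A
    exact le_of_mul_le_mul_right h4A hpos
  -- final count
  have hf1 : Nat.card A * Nat.card A * Nat.card {u : V // El u} < Nat.card V := by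
    rw [hKcard]
    exact lt_of_le_of_lt (Nat.mul_le_mul_left _ hElK) hoff
  have hf2 : Nat.card V ≤ 4 * Nat.card A * Nat.card {u : V // El u} := by
    rw [hV]
    calc 2 * (Nat.card A * Nat.card ((B ⊓ KL L φ : Subgroup Y)) * Nat.card {d : V // Fx B d})
        = 2 * Nat.card A * Nat.card E := by rw [hEc]; ring
      _ ≤ 2 * Nat.card A * (2 * Nat.card {u : V // u ∈ E ∧ dua x φ u = 0}) := Nat.mul_le_mul_left _ hhalf
      _ ≤ 2 * Nat.card A * (2 * Nat.card {u : V // El u}) :=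
          Nat.mul_le_mul_left _ (Nat.mul_le_mul_left _ hEE)
      _ = 4 * Nat.card A * Nat.card {u : V // El u} := by ring
  have hf3 : 4 * Nat.card A * Nat.card {u : V // El u} ≤ Nat.card A * Nat.card A * Nat.card {u : V // El u} :=
    Nat.mul_le_mul_right _ (Nat.mul_le_mul_right _ h4A')
  omega

end MP

end Cfsg.Agent.Omega.NearFF

end

section


/-!
# (BT), `|V/E| = 2`: existence of minimal pairs (project OMEGA, leaf N1)

Text: helper132 (bb OMEGA #17318), (MIN).

* `Dat.exists_mp` : `Dat → MP`.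
-/

set_option autoImplicit false
set_option linter.unusedSectionVars false

namespace Cfsg.Agent.Omega.NearFF

open Subgroup Cfsg.Agent.Omega.Transv

section grp

variable {Γ : Type*} [Group Γ] [Finite Γ]

/-- a 2-group inside a subgroup over a Sylow 2-subgroup `P` is conjugate there into `P` -/
theorem sylow_conj (P : Sylow 2 Γ) {K : Subgroup Γ} (hK : (P : Subgroup Γ) ≤ K) {R : Subgroup Γ}
    (hR : IsPGroup 2 R) (hRK : R ≤ K) : ∃ k ∈ K, ∀ r ∈ R, k⁻¹ * r * k ∈ P := by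
  have : Fact (Nat.Prime 2) := ⟨Nat.prime_two⟩
  let TK : Sylow 2 K := P.subtype hK
  have hRK' : IsPGroup 2 (R.subgroupOf K) := hR.comap_of_injective K.subtype Subtype.coe_injective
  obtain ⟨Q, hQ⟩ := hRK'.exists_le_sylow
  obtain ⟨k, hk⟩ := MulAction.exists_smul_eq K TK Q
  refine ⟨k, k.2, fun r hr => ?_⟩
  have h1 : (⟨r, hRK hr⟩ : K) ∈ (Q : Subgroup K) := hQ (mem_subgroupOf.mpr hr)
  rw [← hk, Sylow.coe_subgroup_smul, Subgroup.mem_pointwise_smul_iff_inv_smul_mem] at h1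
  have h2 : ((k⁻¹ * ⟨r, hRK hr⟩ * k : K)) ∈ (TK : Subgroup K) := by
    have h3 : (MulAut.conj k)⁻¹ • (⟨r, hRK hr⟩ : K) = k⁻¹ * ⟨r, hRK hr⟩ * k := by
      rw [← map_inv, MulAut.smul_def, MulAut.conj_apply, inv_inv]
    rwa [h3] at h1
  exact h2

/-- `P ∩ N` is Sylow in the normal subgroup `N`: Frattini -/
theorem frattini_inf (P : Sylow 2 Γ) (N : Subgroup Γ) [N.Normal] :
    normalizer (((P : Subgroup Γ) ⊓ N : Subgroup Γ) : Set Γ) ⊔ N = ⊤ := by
  have : Fact (Nat.Prime 2) := ⟨Nat.prime_two⟩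
  have hd : ¬ 2 ∣ (P : Subgroup Γ).relIndex N := by
    have h1 := relIndex_mul_relIndex ((P : Subgroup Γ) ⊓ N) N ((P : Subgroup Γ) ⊔ N) inf_le_right le_sup_right
    have h2 := relIndex_mul_relIndex ((P : Subgroup Γ) ⊓ N) P ((P : Subgroup Γ) ⊔ N) inf_le_left le_sup_left
    rw [inf_relIndex_left, ← relIndex_sup_right (H := (P : Subgroup Γ)) (K := N), ← h1,
      inf_relIndex_right, mul_comm] at h2
    have h3 : (N.relIndex ((P : Subgroup Γ) ⊔ N)) ≠ 0 := index_ne_zero_of_finite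
    have h4 := Nat.eq_of_mul_eq_mul_right (Nat.pos_of_ne_zero h3) h2
    rw [← h4]
    intro h5
    exact P.not_dvd_index (h5.trans (relIndex_dvd_index_of_le le_sup_left))
  let Q : Sylow 2 N := (P.2.comap_subtype (K := N)).toSylow hd
  have hQ : (Q : Subgroup N) = (P : Subgroup Γ).subgroupOf N := rfl
  have h1 := Q.normalizer_sup_eq_top
  rw [hQ, subgroupOf_map_subtype] at h1
  exact h1

theorem isPGroup_zpowers_of_sq {y : Γ} (hy : y * y = 1) : IsPGroup 2 (zpowers y) := by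
  rintro ⟨w, hw⟩
  obtain ⟨n, rfl⟩ := mem_zpowers_iff.mp hw
  refine ⟨1, Subtype.ext ?_⟩
  rw [pow_one]
  change (y ^ n) ^ 2 = 1
  rw [← zpow_natCast, ← zpow_mul, mul_comm, zpow_mul, zpow_natCast, pow_two, hy, one_zpow]

end grp

variable {Y : Type*} [Group Y] {V : Type*} [AddCommGroup V] [Module (ZMod 2) V] [DistribMulAction Y V]

theorem dua_conj_eq {φ : Du V} {x b : Y} : dua (x⁻¹ * b * x) φ = φ ↔ dua b (dua x φ) = dua x φ := by
  rw [dua_mul, dua_mul]
  constructor
  · intro h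
    have h1 : dua x (dua x⁻¹ (dua b (dua x φ))) = dua x φ := by rw [h]
    rwa [← dua_mul, mul_inv_cancel, dua_one] at h1
  · intro h
    rw [h, ← dua_mul, inv_mul_cancel, dua_one]

namespace Dat

variable {T : Sylow 2 Y} {M : Subgroup Y} {z : V} {f : V → Du V} {Q : V → Subgroup Y}
  {BB : V → Set (Subgroup Y)} (h : Dat T M z f Q BB)
include h

theorem exists_move : ∃ g : Y, f (g • z) ≠ f z := by
  by_contra hc
  push Not at hc
  apply h.ne
  rw [eq_top_iff]
  intro g _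
  apply h.stab_le
  rw [mem_stabF, ← h.f_orbit]
  exact hc g

/-- **(MIN)**: minimal pairs exist. -/
theorem exists_mp [Finite Y] [Finite V] {B : Subgroup Y} (hB : B ∈ BB z) :
    ∃ (B' : Subgroup Y) (L : Subgroup Y) (w : V), B' ∈ BB z ∧ MP (f z) B' L w := by
  classical
  have : Fact (Nat.Prime 2) := ⟨Nat.prime_two⟩
  -- the minimal pair
  have hex : ∃ n : ℕ, ∃ B₁ ∈ BB z, ∃ g : Y, ∃ C₁ ∈ BB (g • z), f (g • z) ≠ f z ∧
      Nat.card (B₁ ⊔ C₁ : Subgroup Y) = n := by
    obtain ⟨g, hg⟩ := h.exists_move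
    exact ⟨_, B, hB, g, _, h.bb_smul g z (MulAction.mem_orbit_self z) B hB, hg, rfl⟩
  obtain ⟨B₁, hB₁, g, C₁, hC₁, hne, hcard⟩ := Nat.find_spec hex
  have hmin : ∀ B₂ ∈ BB z, ∀ k : Y, ∀ C₂ ∈ BB (k • z), f (k • z) ≠ f z →
      Nat.card (B₁ ⊔ C₁ : Subgroup Y) ≤ Nat.card (B₂ ⊔ C₂ : Subgroup Y) := by
    intro B₂ hB₂ k C₂ hC₂ hk
    rw [hcard]
    exact Nat.find_min' hex ⟨B₂, hB₂, k, C₂, hC₂, hk, rfl⟩
  set L := B₁ ⊔ C₁ with hL
  have hBL : B₁ ≤ L := le_sup_left
  have hN := h.bb B₁ hB₁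
  -- generation
  have hgen : ∀ x ∈ L, dua x (f z) ≠ f z → ∀ H : Subgroup Y, B₁ ≤ H → (∀ b ∈ B₁, x * b * x⁻¹ ∈ H) → L ≤ H := by
    intro x hx hxne H h1 h2
    have h3 : B₁.map (MulAut.conj x).toMonoidHom ∈ BB (x • z) :=
      h.bb_smul x z (MulAction.mem_orbit_self z) B₁ hB₁
    have h4 := hmin B₁ hB₁ x _ h3 (by rwa [h.f_orbit])
    have h5 : B₁ ⊔ B₁.map (MulAut.conj x).toMonoidHom ≤ L := by
      refine sup_le hBL ?_
      rintro _ ⟨b, hb, rfl⟩
      exact mul_mem (mul_mem hx (hBL hb)) (inv_mem hx)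
    have h6 : B₁ ⊔ B₁.map (MulAut.conj x).toMonoidHom = L := eq_of_le_of_card_ge h5 h4
    rw [← h6]
    refine sup_le h1 ?_
    rintro _ ⟨b, hb, rfl⟩
    exact h2 b hb
  have hmv : ∃ x ∈ L, dua x (f z) ≠ f z := by
    by_contra hc
    push Not at hc
    have h1 : C₁ ≤ stabF Y (f ((1 : Y) • z)) := by
      intro c hc'
      rw [one_smul, mem_stabF]
      exact hc c (le_sup_right (a := B₁) hc')
    have h2 := h.bb_fix hC₁ h1
    rw [one_smul] at h2
    exact hne h2.symm
  -- a Sylow 2-subgroup of `L` over `B₁`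
  have hB2 : IsPGroup 2 (B₁.subgroupOf L) :=
    (h.B_two hB₁).comap_of_injective L.subtype Subtype.coe_injective
  obtain ⟨P, hP⟩ := hB2.exists_le_sylow
  have hTL : IsPGroup 2 ((P : Subgroup L).map L.subtype) := P.2.map _
  obtain ⟨k, -, hk⟩ := sylow_conj T (K := ⊤) le_top hTL le_top
  have hPw : ∀ r ∈ (P : Subgroup L), (r : Y) • (k • z) = k • z := by
    intro r hr
    have h1 := h.z_fix _ (hk _ ⟨r, hr, rfl⟩)
    change (k⁻¹ * (r : Y) * k) • z = z at h1
    rwa [mul_smul, mul_smul, inv_smul_eq_iff] at h1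
  have hBP : ∀ b (hb : b ∈ B₁), (⟨b, hBL hb⟩ : L) ∈ (P : Subgroup L) := fun b hb => hP (mem_subgroupOf.mpr hb)
  have hfix : Fx B₁ (k • z) := fun b hb => hPw _ (hBP b hb)
  have hfw : f (k • z) = f z := h.star B₁ hB₁ _ ⟨k, rfl⟩ hfix
  have hstab : ∀ l : Y, l • (k • z) = k • z → dua l (f z) = f z := by
    intro l hl
    have h1 := h.f_smul l (k • z) ⟨k, rfl⟩
    rw [hl, hfw] at h1
    exact h1.symm
  refine ⟨B₁, L, k • z, hB₁, ?_⟩
  exact
    { faith := h.faith
      ne := h.f_ne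
      nb := hN
      le := hBL
      ex := hmv
      min := hgen
      fixw := hfix
      stab := fun l _ hl => hstab l hl
      syl := by
        intro x hx b hb hbx
        have h1 : dua (x⁻¹ * b * x) (f z) = f z := dua_conj_eq.mpr hbx
        have hxb : x⁻¹ * b * x ∈ L := mul_mem (mul_mem (inv_mem hx) (hBL hb)) hx
        let K : Subgroup L := (stabF Y (f z)).subgroupOf L
        have hPK : (P : Subgroup L) ≤ K := by
          intro r hr
          rw [mem_subgroupOf, mem_stabF]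
          exact hstab _ (hPw r hr)
        have hR : IsPGroup 2 (zpowers (⟨x⁻¹ * b * x, hxb⟩ : L)) := by
          refine isPGroup_zpowers_of_sq ?_
          refine Subtype.ext ?_
          change x⁻¹ * b * x * (x⁻¹ * b * x) = 1
          rw [show x⁻¹ * b * x * (x⁻¹ * b * x) = x⁻¹ * (b * b) * x by group, hN.sq b hb]
          group
        obtain ⟨l, hl, hl'⟩ := sylow_conj P hPK hR (zpowers_le.mpr (mem_subgroupOf.mpr h1))
        refine ⟨x * l, mul_mem hx l.2, ?_, ?_⟩
        · rw [dua_mul]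
          rw [show dua (l : Y) (f z) = f z from hl]
        · have h2 := hPw _ (hl' _ (mem_zpowers _))
          have h3 : ((l⁻¹ * ⟨x⁻¹ * b * x, hxb⟩ * l : L) : Y) = (x * l)⁻¹ * b * (x * l) := by
            simp only [Subgroup.coe_mul, Subgroup.coe_inv]
            group
          rw [h3, mul_smul, mul_smul, inv_smul_eq_iff] at h2
          exact h2
      core := by
        intro b hb hbc x hx
        let N : Subgroup L :=
          { carrier := {l | ∀ x ∈ L, dua (l : Y) (dua x (f z)) = dua x (f z)}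
            mul_mem' := by
              intro a c ha hc x hx
              rw [Subgroup.coe_mul, dua_mul, hc x hx, ha x hx]
            one_mem' := by
              intro x hx
              rw [Subgroup.coe_one, dua_one]
            inv_mem' := by
              intro a ha x hx
              have h1 := ha x hx
              conv_lhs => rw [← h1]
              rw [Subgroup.coe_inv, ← dua_mul, inv_mul_cancel, dua_one] }
        have hNn : N.Normal := by
          refine ⟨fun n hn l x hx => ?_⟩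
          have h1 := hn ((l : Y)⁻¹ * x) (mul_mem (inv_mem l.2) hx)
          rw [dua_mul] at h1
          rw [Subgroup.coe_mul, Subgroup.coe_mul, Subgroup.coe_inv, dua_mul, dua_mul, h1, ← dua_mul,
            mul_inv_cancel, dua_one]
        have hfr := frattini_inf P N
        set R : Subgroup L := (P : Subgroup L) ⊓ N with hR
        have hPR : (P : Subgroup L) ≤ normalizer (R : Set L) := by
          intro r hr
          rw [mem_normalizer_iff]
          intro s
          rw [hR, mem_inf, mem_inf]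
          constructor
          · rintro ⟨h1, h2⟩
            exact ⟨(P : Subgroup L).mul_mem ((P : Subgroup L).mul_mem hr h1) ((P : Subgroup L).inv_mem hr),
              hNn.conj_mem _ h2 _⟩
          · rintro ⟨h1, h2⟩
            refine ⟨?_, ?_⟩
            · have h3 := (P : Subgroup L).mul_mem ((P : Subgroup L).mul_mem ((P : Subgroup L).inv_mem hr) h1) hr
              rwa [show r⁻¹ * (r * s * r⁻¹) * r = s by group] at h3
            · have h3 := hNn.conj_mem _ h2 r⁻¹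
              rwa [show r⁻¹ * (r * s * r⁻¹) * r⁻¹⁻¹ = s by group] at h3
        -- `N_L(R) = L`
        have hmv' : ∃ x : L, x ∈ normalizer (R : Set L) ∧ dua (x : Y) (f z) ≠ f z := by
          by_contra hc
          push Not at hc
          obtain ⟨x, hx, hxne⟩ := hmv
          have h1 : (normalizer (R : Set L) ⊔ N : Subgroup L) ≤ (stabF Y (f z)).subgroupOf L := by
            refine sup_le (fun y hy => mem_subgroupOf.mpr (hc y hy)) fun y hy => mem_subgroupOf.mpr ?_
            have h2 := hy 1 (one_mem _)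
            rwa [dua_one] at h2
          rw [hfr] at h1
          exact hxne (mem_subgroupOf.mp (h1 (mem_top (⟨x, hx⟩ : L))))
        obtain ⟨x₀, hx₀, hx₀ne⟩ := hmv'
        have hall : L ≤ (normalizer (R : Set L)).map L.subtype := by
          refine hgen x₀ x₀.2 hx₀ne _ (fun b hb => ⟨⟨b, hBL hb⟩, hPR (hBP b hb), rfl⟩) fun b hb => ?_
          exact ⟨x₀ * ⟨b, hBL hb⟩ * x₀⁻¹, mul_mem (mul_mem hx₀ (hPR (hBP b hb))) (inv_mem hx₀), rfl⟩
        have hxR : (⟨x, hx⟩ : L) ∈ normalizer (R : Set L) := by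
          obtain ⟨y, hy, e⟩ := hall hx
          have : y = ⟨x, hx⟩ := Subtype.ext e
          rwa [← this]
        have hbR : (⟨b, hBL hb⟩ : L) ∈ R := ⟨hBP b hb, hbc⟩
        have h1 : (⟨x, hx⟩ : L)⁻¹ * ⟨b, hBL hb⟩ * ⟨x, hx⟩ ∈ R := (mem_normalizer_iff''.mp hxR _).mp hbR
        have h2 := hPw _ h1.1
        simp only [Subgroup.coe_mul, Subgroup.coe_inv] at h2
        rw [mul_smul, mul_smul, inv_smul_eq_iff] at h2
        exact h2
      noff := h.noff }

end Dat

end Cfsg.Agent.Omega.NearFF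

end
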