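import Cfsg.Agent.Mrg.Omega.NearFF.Geo
import Cfsg.Agent.GTwoFour.Tools

section


/-!
# THEOREM BT2 (helper318, bb 13091): steps (4) and (5)

If `x, y, x + y` are points and `x, y` are not perpendicular then all vectors are points; this is impossible.
-/

set_option autoImplicit false

namespace Cfsg.Agent.Omega.NearFF

open Subgroup Transv

variable {Y : Type*} [Group Y] {V : Type*} [AddCommGroup V] [Module (ZMod 2) V] [DistribMulAction Y V]

/-- the four-group of two commuting involutions -/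
def four {a b : Y} (ha : a * a = 1) (hb : b * b = 1) (hab : a * b = b * a) : Subgroup Y where
  carrier := {g | g = 1 ∨ g = a ∨ g = b ∨ g = a * b}
  one_mem' := Or.inl rfl
  mul_mem' := by
    have h1 : a * (a * b) = b := by rw [← mul_assoc, ha, one_mul]
    have h2 : b * (a * b) = a := by rw [hab, ← mul_assoc, hb, one_mul]
    have h3 : a * b * a = b := by rw [hab, mul_assoc, ha, mul_one]
    have h4 : a * b * b = a := by rw [mul_assoc, hb, mul_one]
    have h5 : a * b * (a * b) = 1 := by rw [mul_assoc, h2, ha]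
    rintro g k (rfl | rfl | rfl | rfl) (rfl | rfl | rfl | rfl) <;> simp [ha, hb, h1, h2, h3, h4, h5, ← hab]
  inv_mem' := by
    have h5 : a * b * (a * b) = 1 := by
      have h2 : b * (a * b) = a := by rw [hab, ← mul_assoc, hb, one_mul]
      rw [mul_assoc, h2, ha]
    rintro g (rfl | rfl | rfl | rfl)
    · exact Or.inl inv_one
    · exact Or.inr (Or.inl (inv_eq_of_mul_eq_one_left ha))
    · exact Or.inr (Or.inr (Or.inl (inv_eq_of_mul_eq_one_left hb)))
    · exact Or.inr (Or.inr (Or.inr (inv_eq_of_mul_eq_one_left h5)))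

theorem mem_four {a b : Y} {ha : a * a = 1} {hb : b * b = 1} {hab : a * b = b * a} {g : Y} :
    g ∈ four ha hb hab ↔ g = 1 ∨ g = a ∨ g = b ∨ g = a * b := Iff.rfl

theorem card_four {a b : Y} {ha : a * a = 1} {hb : b * b = 1} {hab : a * b = b * a} (h1 : a ≠ 1) (h2 : b ≠ 1)
    (h3 : a ≠ b) : Nat.card (four ha hb hab) = 4 := by
  classical
  have h4 : ((four ha hb hab : Subgroup Y) : Set Y) = (({1, a, b, a * b} : Finset Y) : Set Y) := by
    ext g
    simp only [Finset.coe_insert, Finset.coe_singleton, Set.mem_insert_iff, Set.mem_singleton_iff]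
    exact Iff.rfl
  have h5 : a * b ≠ 1 := fun h => h3 (by rw [← mul_one a, ← hb, ← mul_assoc, h, one_mul])
  have h6 : a * b ≠ a := fun h => h2 (mul_eq_left.mp h)
  have h7 : a * b ≠ b := fun h => h1 (mul_eq_right.mp h)
  have h8 : Nat.card (four ha hb hab) = (({1, a, b, a * b} : Finset Y) : Set Y).ncard := by
    rw [← h4]
    rfl
  rw [h8, Set.ncard_coe_finset, Finset.card_insert_of_notMem, Finset.card_insert_of_notMem,
    Finset.card_insert_of_notMem, Finset.card_singleton]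
  · simp only [Finset.mem_singleton]
    exact h7.symm
  · simp only [Finset.mem_insert, Finset.mem_singleton, not_or]
    exact ⟨h3, h6.symm⟩
  · simp only [Finset.mem_insert, Finset.mem_singleton, not_or]
    exact ⟨h1.symm, h2.symm, h5.symm⟩

theorem comp {g k : Y} {x y x' y' : V} {χ ψ χ' ψ' : Du V} (hg : ∀ u, g • u = u + χ u • x + ψ u • y)
    (hk : ∀ u, k • u = u + χ' u • x' + ψ' u • y') (h1 : χ x' = 0) (h2 : χ y' = 0) (h3 : ψ x' = 0)
    (h4 : ψ y' = 0) (u : V) : (g * k) • u = u + (χ u • x + ψ u • y) + (χ' u • x' + ψ' u • y') := by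
  rw [mul_smul, hk u, hg, map_add, map_add, map_smul, map_smul, map_add, map_add, map_smul, map_smul, h1, h2, h3, h4,
    smul_zero, smul_zero]
  simp only [add_zero]
  abel

theorem comp_self (hf : Faith Y V) {g : Y} {x y : V} {χ ψ : Du V} (hg : ∀ u, g • u = u + χ u • x + ψ u • y)
    (h1 : χ x = 0) (h2 : χ y = 0) (h3 : ψ x = 0) (h4 : ψ y = 0) : g * g = 1 := by
  refine hf _ fun u => ?_
  rw [comp hg hg h1 h2 h3 h4, add_assoc, add_self, add_zero]

theorem comp_comm (hf : Faith Y V) {g k : Y} {x y x' y' : V} {χ ψ χ' ψ' : Du V}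
    (hg : ∀ u, g • u = u + χ u • x + ψ u • y)
    (hk : ∀ u, k • u = u + χ' u • x' + ψ' u • y') (h1 : χ x' = 0) (h2 : χ y' = 0) (h3 : ψ x' = 0)
    (h4 : ψ y' = 0) (h5 : χ' x = 0) (h6 : χ' y = 0) (h7 : ψ' x = 0)
    (h8 : ψ' y = 0) : g * k = k * g := by
  refine hf.ext fun u => ?_
  rw [comp hg hk h1 h2 h3 h4, comp hk hg h5 h6 h7 h8]
  abel

/-- the fixed vectors of `u ↦ u + χ u • x + ψ u • y` -/
theorem comp_fix {g : Y} {x y : V} {χ ψ : Du V} (hx : x ≠ 0) (hy : y ≠ 0) (hne : x ≠ y)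
    (hg : ∀ u, g • u = u + χ u • x + ψ u • y) (u : V) : g • u = u ↔ χ u = 0 ∧ ψ u = 0 := by
  rw [hg, add_assoc, add_eq_left]
  constructor
  · intro h
    rcases zmod_cases (χ u) with h1 | h1
    · refine ⟨h1, ?_⟩
      refine eq_zero_of_ne fun h2 => hy ?_
      rwa [h1, h2, zero_smul, zero_add, one_smul] at h
    · exfalso
      rcases zmod_cases (ψ u) with h2 | h2
      · rw [h1, h2, zero_smul, add_zero, one_smul] at h
        exact hx h
      · rw [h1, h2, one_smul, one_smul] at h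
        exact hne (eq_of_add h)
  · rintro ⟨h1, h2⟩
    rw [h1, h2, zero_smul, zero_smul, add_zero]

/-- two different functionals cut out a subspace of index 4 -/
theorem card_two [Finite V] {χ ψ : Du V} (h1 : χ ≠ 0) (h2 : ψ ≠ 0) (h3 : χ ≠ ψ) (W : Submodule (ZMod 2) V)
    (hW : ∀ u, u ∈ W ↔ χ u = 0 ∧ ψ u = 0) : Nat.card V = 4 * Nat.card W := by
  let L : V →ₗ[ZMod 2] ZMod 2 × ZMod 2 := χ.prod ψ
  -- there is a vector with `χ = 1`, `ψ = 0`, and one with `χ = 0`, `ψ = 1`
  have key : ∀ {χ ψ : Du V}, χ ≠ 0 → ψ ≠ 0 → χ ≠ ψ → ∃ u, χ u = 1 ∧ ψ u = 0 := by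
    intro χ ψ h1 h2 h3
    by_contra hcon
    push Not at hcon
    obtain ⟨v, hv⟩ := exists_one h1
    have hv' := eq_one_of_ne (hcon v hv)
    apply h3
    ext u
    rcases zmod_cases (χ u) with h4 | h4
    · have h5 : χ (v + u) = 1 := by rw [map_add, hv, h4, add_zero]
      have h6 := eq_one_of_ne (hcon _ h5)
      rw [map_add, hv'] at h6
      rw [h4]
      exact (add_eq_left.mp h6).symm
    · rw [h4, eq_one_of_ne (hcon u h4)]
  obtain ⟨a, ha1, ha2⟩ := key h1 h2 h3
  obtain ⟨b, hb1, hb2⟩ := key h2 h1 (Ne.symm h3)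
  let F : W × (ZMod 2 × ZMod 2) → V := fun p => (p.1 : V) + (p.2.1 • a + p.2.2 • b)
  have e1 : ∀ p, χ (F p) = p.2.1 := by
    rintro ⟨⟨w, hw⟩, c, d⟩
    change χ (w + (c • a + d • b)) = c
    rw [map_add, map_add, map_smul, map_smul, ha1, hb2, ((hW w).mp hw).1, smul_eq_mul, mul_one, smul_zero, zero_add,
      add_zero]
  have e2 : ∀ p, ψ (F p) = p.2.2 := by
    rintro ⟨⟨w, hw⟩, c, d⟩
    change ψ (w + (c • a + d • b)) = d
    rw [map_add, map_add, map_smul, map_smul, ha2, hb1, ((hW w).mp hw).2, smul_zero, smul_eq_mul, mul_one, zero_add,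
      zero_add]
  have hF : Function.Bijective F := by
    constructor
    · rintro p q hpq
      have h4 : p.2.1 = q.2.1 := by rw [← e1, ← e1, hpq]
      have h5 : p.2.2 = q.2.2 := by rw [← e2, ← e2, hpq]
      have h6 : p.2 = q.2 := Prod.ext h4 h5
      have h7 : (p.1 : V) + (p.2.1 • a + p.2.2 • b) = q.1 + (q.2.1 • a + q.2.2 • b) := hpq
      rw [h6] at h7
      exact Prod.ext (Subtype.ext (add_right_cancel h7)) h6
    · intro u
      refine ⟨⟨⟨u + (χ u • a + ψ u • b), ?_⟩, χ u, ψ u⟩, ?_⟩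
      · rw [hW]
        constructor
        · rw [map_add, map_add, map_smul, map_smul, ha1, hb2, smul_eq_mul, mul_one, smul_zero, add_zero, add_self]
        · rw [map_add, map_add, map_smul, map_smul, ha2, hb1, smul_zero, smul_eq_mul, mul_one, zero_add, add_self]
      · exact add_add_self _ _
  rw [← Nat.card_congr (Equiv.ofBijective F hF), Nat.card_prod, Nat.card_prod, Nat.card_zmod]
  omega

namespace Geo

variable {T : Sylow 2 Y} {U : Subgroup Y} {z : V} {Om : Set V} {f : V → Du V}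

/-- `|V| > 4` -/
theorem exists_perp (h : Geo Y V T U z Om f) : ∃ e, f z e = 0 ∧ e ≠ 0 ∧ e ≠ z := by
  by_contra hcon
  push Not at hcon
  have hp := h.pnt z h.zO
  have hcon' : ∀ e, f z e = 0 → e = 0 ∨ e = z := by
    intro e he
    by_cases h0 : e = 0
    · exact Or.inl h0
    · exact Or.inr (hcon e he h0)
  obtain ⟨v, hv⟩ := exists_one hp.nz
  have hT : ∀ t ∈ T, t • v = v := by
    intro t ht
    have h1 : f z (t • v + v) = 0 := by
      rw [map_add, h.f_of_fix h.zO (h.z_fix t ht), hv, one_add_one]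
    rcases hcon' _ h1 with h2 | h2
    · exact eq_of_add h2
    · exfalso
      have h3 : t • v = v + z := by rw [← h2, add_comm v, add_add_self]
      refine h.nt t z (f z) ⟨hp.ne, hp.nz, fun u => ?_⟩
      rcases zmod_cases (f z u) with h4 | h4
      · rw [h4, zero_smul, add_zero]
        rcases hcon' u h4 with h5 | h5
        · rw [h5, smul_zero]
        · rw [h5, h.z_fix t ht]
      · have h5 : f z (u + v) = 0 := by rw [map_add, h4, hv, one_add_one]
        rw [h4, one_smul]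
        rcases hcon' _ h5 with h6 | h6
        · rw [eq_of_add h6, h3]
        · have h7 : u = v + z := by rw [← h6, ← add_assoc, Fr.cancel_right]
          rw [h7, smul_add, h3, h.z_fix t ht]
  rcases h.z_uniq v hT with h1 | h1
  · rw [h1, map_zero] at hv
    exact one_ne hv.symm
  · rw [h1, hp.self] at hv
    exact one_ne hv.symm

/-- (4) -/
theorem all [Finite Y] [Finite V] (h : Geo Y V T U z Om f) {x y : V} (hx : x ∈ Om) (hy : y ∈ Om)
    (hs : y + x ∈ Om) (h1 : f x y = 1) {u : V} (hu : u ≠ 0) : u ∈ Om := by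
  have hA : ∀ u, f x u = 1 → u ∈ Om := by
    intro u hu
    obtain ⟨b, hb, c, h2⟩ := h.hit hx h1 hu
    rcases zmod_cases c with hc | hc
    · rw [h2, hc, zero_smul, add_zero]
      exact h.smul b y hy
    · have h3 : u = b • (y + x) := by rw [h2, hc, one_smul, smul_add, hb.1]
      rw [h3]
      exact h.smul b _ hs
  have hB : ∀ w ∈ Om, ∀ u, f w u = 1 → u ∈ Om := by
    intro w hw u hu
    obtain ⟨g, hg⟩ := h.trans x hx
    obtain ⟨k, hk⟩ := h.trans w hw
    have h2 : (k * g⁻¹) • x = w := by rw [mul_smul, ← hg, inv_smul_smul, hk]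
    have h3 := h.conj (k * g⁻¹) x hx ((k * g⁻¹)⁻¹ • u)
    rw [h2, smul_inv_smul, hu] at h3
    have h4 := hA _ h3.symm
    have h5 := h.smul (k * g⁻¹) _ h4
    rwa [smul_inv_smul] at h5
  by_contra hcon
  let W : Submodule (ZMod 2) V :=
    { carrier := {u | ∀ w ∈ Om, f w u = 0}
      zero_mem' := fun w _ => map_zero _
      add_mem' := fun {a b} ha hb w hw => by rw [map_add, ha w hw, hb w hw, add_zero]
      smul_mem' := fun c a ha w hw => by rw [map_smul, ha w hw, smul_zero] }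
  have hW : Inv Y W := by
    intro g v hv w hw
    have h2 := h.conj g _ (h.smul g⁻¹ w hw) v
    rw [smul_inv_smul] at h2
    rw [h2]
    exact hv _ (h.smul g⁻¹ w hw)
  have huW : u ∈ W := fun w hw => eq_zero_of_ne fun h2 => hcon (hB w hw u h2)
  let := subAct hW
  have h2 : (⟨u, huW⟩ : W) ≠ 0 := fun h3 => hu (congrArg Subtype.val h3)
  obtain ⟨w0, hw0, hT⟩ := exists_fixed (Q := T) T.isPGroup' h2
  have h3 : (w0 : V) ≠ 0 := fun h4 => hw0 (Subtype.ext h4)
  have h4 : (w0 : V) = z :=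
    (h.z_uniq w0 fun t ht => congrArg Subtype.val (hT ⟨t, ht⟩)).resolve_left h3
  have h5 : z ∈ W := by
    rw [← h4]
    exact w0.2
  obtain ⟨w, hw, h6⟩ := h.exists_far h.zO
  rw [h.symm h.zO hw, h5 w hw] at h6
  exact one_ne h6.symm

/-! ### all vectors are points -/

section Full

variable (h : Geo Y V T U z Om f) (hall : ∀ u : V, u ≠ 0 → u ∈ Om)

include h in
theorem f_zero : f 0 = 0 := h.zero 0 fun h0 => (h.pnt 0 h0).ne rfl

include h hall in
theorem f_self (x : V) : f x x = 0 := by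
  by_cases hx : x = 0
  · rw [hx, map_zero]
  · exact (h.pnt x (hall x hx)).self

variable [Finite Y] [Finite V]

include h hall in
theorem f_symm (x y : V) : f x y = f y x := by
  by_cases hx : x = 0
  · rw [hx, h.f_zero, map_zero]
    rfl
  · by_cases hy : y = 0
    · rw [hy, h.f_zero, map_zero]
      rfl
    · exact h.symm (hall x hx) (hall y hy)

include h hall in
theorem f_add (x y u : V) : f (x + y) u = f x u + f y u := by
  rw [h.f_symm hall, map_add, h.f_symm hall u x, h.f_symm hall u y]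

include h hall in
/-- `f x` determines `x` -/
theorem f_inj {x y : V} (hxy : ∀ u, f x u = f y u) : x = y := by
  by_contra hne
  have h1 : x + y ≠ 0 := fun h0 => hne (eq_of_add h0)
  obtain ⟨u, hu⟩ := exists_one (h.pnt _ (hall _ h1)).nz
  rw [h.f_add hall, hxy, add_self] at hu
  exact one_ne hu.symm

include h hall in
theorem bxy {x y : V} (hx : x ≠ 0) (hy : y ≠ 0) (hne : x ≠ y) (hxy : f x y = 0) :
    ∃ b ∈ KK Y x (f x), ∃ k : ZMod 2, ∀ u, b • u = u + f x u • y + f y u • x + (k * f x u) • x := by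
  have hxO := hall x hx
  have hyO := hall y hy
  have hp := h.pnt x hxO
  obtain ⟨v, hv⟩ := exists_one hp.nz
  obtain ⟨b, hb, c, h2⟩ := h.hit hxO hv (u := v + y) (by rw [map_add, hv, hxy, add_zero])
  have h3 := eq_add_smul h2
  have hfx : ∀ e, f x e = 0 → b • e = e → f y e = 0 := by
    intro e he hbe
    by_cases h0 : e = 0
    · rw [h0, map_zero]
    · have h4 := h.conj b e (hall e h0) v
      rw [hbe, h3, map_add, map_add, map_smul, h.f_symm hall e x, he, smul_zero, add_zero, h.f_symm hall e y] at h4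
      exact add_eq_left.mp h4
  have hfx1 : ∀ e, f x e = 0 → b • e = e + x → f y e = 1 := by
    intro e0 he0 hbe0
    refine eq_one_of_ne fun h4 => hne (h.f_inj hall fun u => ?_)
    have h5 : ∀ e, f x e = 0 → f y e = 0 := by
      intro e he
      rcases hb.2.2 e he with h6 | h6
      · exact hfx e he h6
      · have h7 := hfx (e + e0) (by rw [map_add, he, he0, add_zero])
          (by rw [smul_add, h6, hbe0, add_add_add_comm, add_self, add_zero])
        rwa [map_add, h4, add_zero] at h7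
    obtain ⟨w, hw⟩ := exists_one (h.pnt y hyO).nz
    have h6 : f x w = 1 := eq_one_of_ne fun h7 => by
      rw [h5 w h7] at hw
      exact one_ne hw.symm
    rcases zmod_cases (f x u) with h7 | h7
    · rw [h7, h5 u h7]
    · have h8 := h5 (u + w) (by rw [map_add, h7, h6, one_add_one])
      rw [map_add, hw] at h8
      rw [h7]
      exact (eq_of_add h8).symm
  have hE : ∀ e, f x e = 0 → b • e = e + f y e • x := by
    intro e he
    rcases hb.2.2 e he with h4 | h4
    · rw [hfx e he h4, zero_smul, add_zero, h4]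
    · rw [hfx1 e he h4, one_smul, h4]
  refine ⟨b, hb, c + f y v, fun u => ?_⟩
  rcases zmod_cases (f x u) with h4 | h4
  · rw [hE u h4, h4, zero_smul, mul_zero, zero_smul, add_zero, add_zero]
  · have h5 : f x (u + v) = 0 := by rw [map_add, h4, hv, one_add_one]
    have h6 : u = v + (u + v) := by rw [add_comm v, add_add_self]
    have h7 : b • u = b • v + (u + v + f y (u + v) • x) := by
      rw [← hE _ h5, ← smul_add, ← h6]
    rw [h7, h3, h4, one_smul, mul_one, map_add, add_smul, add_smul]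
    have h8 : v + y + c • x + (u + v + (f y u • x + f y v • x)) =
      u + y + f y u • x + (c • x + f y v • x) + (v + v) := by abel
    rw [h8, add_self, add_zero]

include h hall in
/-- (5) -/
theorem not_all : False := by
  -- `k = 0` for all pairs
  have hk0 : ∀ x y : V, x ≠ 0 → y ≠ 0 → x ≠ y → f x y = 0 → ∃ b : Y, ∀ u, b • u = u + f x u • y + f y u • x := by
    intro x y hx hy hne hxy
    have hp := h.pnt x (hall x hx)
    have hq := h.pnt y (hall y hy)
    have hyx : f y x = 0 := by rw [h.f_symm hall, hxy]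
    obtain ⟨b, hb, k, hbu⟩ := h.bxy hall hx hy hne hxy
    obtain ⟨b', hb', k', hbu'⟩ := h.bxy hall hy hx (Ne.symm hne) hyx
    rcases zmod_cases k with hk | hk
    · exact ⟨b, fun u => by rw [hbu, hk, zero_mul, zero_smul, add_zero]⟩
    · exfalso
      -- `b * b' : u ↦ u + k f x u • x + k' f y u • y`
      have hby : b • y = y := by
        rw [hbu, hxy, hq.self, mul_zero, zero_smul, zero_smul, add_zero, add_zero, add_zero]
      have hprod : ∀ u, (b * b') • u = u + f x u • x + (k' * f y u) • y := by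
        intro u
        rw [mul_smul, hbu' u, smul_add, smul_add, smul_add, smul_zmod, smul_zmod, smul_zmod, hb.1, hby, hbu u, hk,
          one_mul]
        have h1 : u + f x u • y + f y u • x + f x u • x + f y u • x + f x u • y + (k' * f y u) • y =
          u + f x u • x + (k' * f y u) • y + (f x u • y + f x u • y) + (f y u • x + f y u • x) := by abel
        rw [h1, add_self, add_self, add_zero, add_zero]
      have hk' : k' = 1 := by
        refine eq_one_of_ne fun h2 => ?_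
        exact h.nt (b * b') x (f x) ⟨hx, hp.nz, fun u => by rw [hprod, h2, zero_mul, zero_smul, add_zero]⟩
      have hg1 : ∀ u, (b * b') • u = u + f x u • x + f y u • y := by
        intro u
        rw [hprod, hk', one_mul]
      -- the pair `x, x + y`
      have hs : x + y ≠ 0 := fun h0 => hne (eq_of_add h0)
      have hxs : x ≠ x + y := fun h0 => hy (left_eq_add.mp h0)
      have hfs : f x (x + y) = 0 := by rw [map_add, hp.self, hxy, add_zero]
      have hfs' : f (x + y) x = 0 := by rw [h.f_symm hall, hfs]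
      obtain ⟨c, hc, l, hcu⟩ := h.bxy hall hx hs hxs hfs
      obtain ⟨c', hc', l', hcu'⟩ := h.bxy hall hs hx (Ne.symm hxs) hfs'
      have hl : l = 1 := by
        refine eq_one_of_ne fun hl0 => ?_
        refine h.nt (b * c) x (f x) ⟨hx, hp.nz, fun u => ?_⟩
        have hbs : b • (x + y) = x + y := by rw [smul_add, hb.1, hby]
        rw [mul_smul, hcu u, smul_add, smul_add, smul_add, smul_zmod, smul_zmod, smul_zmod, hb.1, hbs, hbu u, hk, hl0,
          one_mul, zero_mul, zero_smul, add_zero, h.f_add hall, add_smul, smul_add]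
        have h1 : u + f x u • y + f y u • x + f x u • x + (f x u • x + f x u • y) + (f x u • x + f y u • x) =
          u + f x u • x + (f x u • y + f x u • y) + (f y u • x + f y u • x) + (f x u • x + f x u • x) := by abel
        rw [h1, add_self, add_self, add_self, add_zero, add_zero, add_zero]
      have hcs : c • (x + y) = x + y := by
        rw [hcu, hfs, (h.pnt _ (hall _ hs)).self, mul_zero, zero_smul, zero_smul, add_zero, add_zero,
          add_zero]
      have hprod2 : ∀ u, (c * c') • u = u + f x u • x + (l' * f (x + y) u) • (x + y) := by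
        intro u
        rw [mul_smul, hcu' u, smul_add, smul_add, smul_add, smul_zmod, smul_zmod, smul_zmod, hc.1, hcs, hcu u, hl,
          one_mul]
        have h1 : u + f x u • (x + y) + f (x + y) u • x + f x u • x + f (x + y) u • x + f x u • (x + y) +
            (l' * f (x + y) u) • (x + y) =
          u + f x u • x + (l' * f (x + y) u) • (x + y) + (f x u • (x + y) + f x u • (x + y)) +
            (f (x + y) u • x + f (x + y) u • x) := by abel
        rw [h1, add_self, add_self, add_zero, add_zero]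
      have hl' : l' = 1 := by
        refine eq_one_of_ne fun h2 => ?_
        exact h.nt (c * c') x (f x) ⟨hx, hp.nz, fun u => by rw [hprod2, h2, zero_mul, zero_smul, add_zero]⟩
      have hg2 : ∀ u, (c * c') • u = u + f x u • x + f (x + y) u • (x + y) := by
        intro u
        rw [hprod2, hl', one_mul]
      -- the four-group
      have hsy : f (x + y) y = 0 := by rw [h.f_add hall, hxy, hq.self, add_zero]
      have hsx : f (x + y) x = 0 := hfs'
      have hss : f (x + y) (x + y) = 0 := (h.pnt _ (hall _ hs)).self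
      have hys : f y (x + y) = 0 := by rw [h.f_symm hall, hsy]
      have e1 : b * b' * (b * b') = 1 := comp_self h.faith hg1 hp.self hxy hyx hq.self
      have e2 : c * c' * (c * c') = 1 := comp_self h.faith hg2 hp.self hfs hsx hss
      have e3 : b * b' * (c * c') = c * c' * (b * b') :=
        comp_comm h.faith hg1 hg2 hp.self hfs hyx hys hp.self hxy hsx hsy
      have hfxy : f x ≠ f y := fun h1 => hne (h.f_inj hall fun u => by rw [h1])
      have m1 := comp_fix hx hy hne hg1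
      have m2 := comp_fix hx hs hxs hg2
      obtain ⟨v, hv⟩ := exists_one hp.nz
      have n1 : b * b' ≠ 1 := by
        intro h1
        have h2 := (m1 v).mp (by rw [h1, one_smul])
        rw [hv] at h2
        exact one_ne h2.1
      have n2 : c * c' ≠ 1 := by
        intro h1
        have h2 := (m2 v).mp (by rw [h1, one_smul])
        rw [hv] at h2
        exact one_ne h2.1
      have n3 : b * b' ≠ c * c' := by
        intro h1
        obtain ⟨w, hw⟩ := exists_one hq.nz
        have h2 := hg1 w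
        rw [h1, hg2 w, h.f_add hall, hw, one_smul, add_assoc, add_assoc] at h2
        have h3 := add_left_cancel (add_left_cancel h2)
        rcases zmod_cases (f x w) with h4 | h4
        · rw [h4, zero_add, one_smul] at h3
          exact hx (add_eq_right.mp h3)
        · rw [h4, one_add_one, zero_smul] at h3
          exact hy h3.symm
      refine h.nf (four e1 e2 e3) (card_four n1 n2 n3) ?_ (card_two hp.nz hq.nz hfxy _ fun u => ?_)
      · rintro g (rfl | rfl | rfl | rfl)
        · exact one_mul 1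
        · exact e1
        · exact e2
        · rw [mul_assoc, ← mul_assoc (c * c'), ← e3, mul_assoc (b * b'), e2, mul_one, e1]
      · rw [mem_fixS]
        constructor
        · intro h1
          exact (m1 u).mp (h1 _ (Or.inr (Or.inl rfl)))
        · rintro h1
          have h2 := (m1 u).mpr h1
          have h3 := (m2 u).mpr ⟨h1.1, by rw [h.f_add hall, h1.1, h1.2, add_zero]⟩
          rintro g (rfl | rfl | rfl | rfl)
          · exact one_smul _ u
          · exact h2
          · exact h3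
          · rw [mul_smul, h3, h2]
  -- the end
  obtain ⟨y, hzy, hy0, hyz⟩ := h.exists_perp
  have hz0 := (h.pnt z h.zO).ne
  have hz := (h.pnt z h.zO)
  have hyO := hall y hy0
  have key : ∀ y', f z y' = 0 → f y y' = 0 := by
    intro y' hy'
    by_cases c1 : y' = 0
    · rw [c1, map_zero]
    by_cases c2 : y' = z
    · rw [c2, h.f_symm hall, hzy]
    by_cases c3 : y = y'
    · rw [← c3, h.f_self hall]
    by_cases c4 : y + y' = z
    · have h1 : y' = y + z := by rw [← c4, ← add_assoc, add_self, zero_add]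
      rw [h1, map_add, h.f_self hall, h.f_symm hall, hzy, add_zero]
    have hs : y + y' ≠ 0 := fun h0 => c3 (eq_of_add h0)
    obtain ⟨b1, hb1⟩ := hk0 z y hz0 hy0 (Ne.symm hyz) hzy
    obtain ⟨b2, hb2⟩ := hk0 z y' hz0 c1 (Ne.symm c2) hy'
    obtain ⟨b3, hb3⟩ := hk0 z (y + y') hz0 hs (Ne.symm c4) (by rw [map_add, hzy, hy', add_zero])
    refine eq_zero_of_ne fun hk => ?_
    have hk' : f y' y = 1 := by rw [h.f_symm hall, hk]
    have a1 : b1 • y' = y' + z := by rw [hb1, hy', hk, zero_smul, one_smul, add_zero]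
    have a2 : b1 • z = z := by rw [hb1, hz.self, h.f_symm hall y z, hzy, zero_smul, zero_smul, add_zero, add_zero]
    have a3 : b3 • y = y + z := by
      rw [hb3, hzy, h.f_add hall, h.f_self hall, hk', zero_smul, zero_add, one_smul, add_zero]
    have a4 : b3 • y' = y' + z := by
      rw [hb3, hy', h.f_add hall, h.f_self hall, hk, zero_smul, add_zero, add_zero, one_smul]
    have a5 : b3 • z = z := by
      rw [hb3, hz.self, h.f_add hall, h.f_symm hall y z, h.f_symm hall y' z, hzy, hy', add_zero, zero_smul, zero_smul,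
        add_zero, add_zero]
    refine h.nt (b3 * (b1 * b2)) z (f z) ⟨hz0, hz.nz, fun u => ?_⟩
    have s1 : (b1 * b2) • u = u + f z u • y + f y u • z + f z u • (y' + z) + f y' u • z := by
      rw [mul_smul, hb2 u, smul_add, smul_add, smul_zmod, smul_zmod, a1, a2, hb1 u]
    rw [mul_smul b3, s1, smul_add, smul_add,
      smul_add, smul_add, smul_zmod, smul_zmod, smul_zmod, smul_zmod, smul_add b3 y' z, a3, a4, a5, hb3 u,
      h.f_add hall]
    simp only [smul_add, add_smul]
    have h1 : u + (f z u • y + f z u • y') + (f y u • z + f y' u • z) + (f z u • y + f z u • z) + f y u • z +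
        (f z u • y' + f z u • z + f z u • z) + f y' u • z =
      u + f z u • z + (f z u • y + f z u • y) + (f z u • y' + f z u • y') + (f y u • z + f y u • z) +
        (f y' u • z + f y' u • z) + (f z u • z + f z u • z) := by abel
    rw [h1, add_self, add_self, add_self, add_self, add_self, add_zero, add_zero, add_zero, add_zero, add_zero]
  obtain ⟨w, hw⟩ := exists_one (h.pnt y hyO).nz
  have h6 : f z w = 1 := eq_one_of_ne fun h7 => by
    rw [key w h7] at hw
    exact one_ne hw.symm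
  refine hyz (h.f_inj hall fun u => ?_)
  rcases zmod_cases (f z u) with h7 | h7
  · rw [h7, key u h7]
  · have h8 := key (u + w) (by rw [map_add, h7, h6, one_add_one])
    rw [map_add, hw] at h8
    rw [h7]
    exact eq_of_add h8

end Full

/-- (NH) -/
theorem nh [Finite Y] [Finite V] (h : Geo Y V T U z Om f) {x y : V} (hx : x ∈ Om) (hy : y ∈ Om)
    (hs : y + x ∈ Om) : f x y = 0 :=
  eq_zero_of_ne fun h1 => h.not_all fun _ hu => h.all hx hy hs h1 hu

end Geo

end Cfsg.Agent.Omega.NearFF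

end

section


/-!
# THEOREM BT2 (helper318, bb 13091): a line through `z` is impossible
-/

set_option autoImplicit false
set_option linter.unusedSectionVars false

namespace Cfsg.Agent.Omega.NearFF

open Subgroup Transv
open scoped Pointwise

variable {Y : Type*} [Group Y] {V : Type*} [AddCommGroup V] [Module (ZMod 2) V] [DistribMulAction Y V]

/-- the points in the block of `z` -/
def Del (U : Subgroup Y) (z : V) : Set V := {u | ∃ g ∈ U, g • z = u}

namespace Geo

variable {T : Sylow 2 Y} {U : Subgroup Y} {z : V} {Om : Set V} {f : V → Du V}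

/-- `C_Y(z) ≤ U` -/
theorem stab_le (h : Geo Y V T U z Om f) {g : Y} (hg : g • z = z) : g ∈ U := by
  rcases h.max (MulAction.stabilizer Y z) (fun t ht => h.z_fix t ht) with h1 | h1
  · exact h1 hg
  · exfalso
    obtain ⟨y, hy, h2⟩ := h.exists_far h.zO
    obtain ⟨k, hk⟩ := h.trans y hy
    have h3 : k ∈ MulAction.stabilizer Y z := by
      rw [h1]
      exact mem_top k
    have h4 : k • z = z := h3
    rw [← hk, h4, (h.pnt z h.zO).self] at h2
    exact one_ne h2.symm

theorem z_del : z ∈ Del U z := ⟨1, one_mem _, one_smul _ _⟩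

theorem del_le (h : Geo Y V T U z Om f) {d : V} (hd : d ∈ Del U z) : d ∈ Om := by
  obtain ⟨g, -, rfl⟩ := hd
  exact h.smul g z h.zO

theorem del_smul {g : Y} (hg : g ∈ U) {d : V} (hd : d ∈ Del U z) : g • d ∈ Del U z := by
  obtain ⟨k, hk, rfl⟩ := hd
  exact ⟨g * k, mul_mem hg hk, mul_smul g k z⟩

/-- the block property -/
theorem block (h : Geo Y V T U z Om f) {d : V} (hd : d ∈ Del U z) {g : Y} (hg : g • d ∈ Del U z) : g ∈ U := by
  obtain ⟨k, hk, rfl⟩ := hd
  obtain ⟨l, hl, h1⟩ := hg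
  have h2 : (l⁻¹ * g * k) • z = z := by rw [mul_smul, mul_smul, ← h1, inv_smul_smul]
  have h3 := h.stab_le h2
  have h4 : g = l * (l⁻¹ * g * k) * k⁻¹ := by group
  rw [h4]
  exact mul_mem (mul_mem hl h3) (inv_mem hk)

theorem KK_le (h : Geo Y V T U z Om f) {d : V} (hd : d ∈ Del U z) {b : Y} (hb : b ∈ KK Y d (f d)) : b ∈ U :=
  h.block hd (by rwa [hb.1])

theorem del_add [Finite Y] [Finite V] (h : Geo Y V T U z Om f) {x y : V} (hx : x ∈ Del U z) (hy : y ∈ Del U z)
    (hxy : f x y = 0) (hne : y ≠ x) : y + x ∈ Del U z := by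
  obtain ⟨b, hb, h1⟩ := h.move (h.del_le hx) hxy (h.pnt y (h.del_le hy)).ne hne
  rw [← h1]
  exact del_smul (h.KK_le hx hb) hy

/-- (A1) -/
theorem line_del [Finite Y] [Finite V] (h : Geo Y V T U z Om f) {w : V} (hw : w ∈ Om) (hzw : f z w = 0)
    (hne : w ≠ z) (hT : ∀ t ∈ T, t • w = w ∨ t • w = w + z) : w ∈ Del U z := by
  have hz := h.pnt z h.zO
  have hwz : f w z = 0 := by rw [h.symm hw h.zO, hzw]
  have hN : ∀ g : Y, g • z = z → (g • w = w ∨ g • w = w + z) →
      g ∈ MulAction.stabilizer Y ({z, w, w + z} : Set V) := by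
    intro g h1 h2
    rw [MulAction.mem_stabilizer_set' (Set.toFinite _)]
    rintro u (rfl | rfl | rfl)
    · rw [h1]
      exact Or.inl rfl
    · rcases h2 with h2 | h2
      · rw [h2]
        exact Or.inr (Or.inl rfl)
      · rw [h2]
        exact Or.inr (Or.inr rfl)
    · rw [smul_add, h1]
      rcases h2 with h2 | h2
      · rw [h2]
        exact Or.inr (Or.inr rfl)
      · rw [h2, add_add_self]
        exact Or.inr (Or.inl rfl)
  have hNU : MulAction.stabilizer Y ({z, w, w + z} : Set V) ≤ U := by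
    rcases h.max (MulAction.stabilizer Y ({z, w, w + z} : Set V)) (fun t ht => hN t (h.z_fix t ht) (hT t ht)) with
      h1 | h1
    · exact h1
    · exfalso
      obtain ⟨y, hy, h2⟩ := h.exists_far h.zO
      obtain ⟨k, hk⟩ := h.trans y hy
      have h3 : k ∈ MulAction.stabilizer Y ({z, w, w + z} : Set V) := by
        rw [h1]
        exact mem_top k
      rw [MulAction.mem_stabilizer_set' (Set.toFinite _)] at h3
      have h4 : k • z ∈ ({z, w, w + z} : Set V) := h3 (Or.inl rfl)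
      rw [hk] at h4
      rcases h4 with h4 | h4 | h4
      · rw [h4, hz.self] at h2
        exact one_ne h2.symm
      · rw [h4, hzw] at h2
        exact one_ne h2.symm
      · rw [h4, map_add, hz.self, hzw, add_zero] at h2
        exact one_ne h2.symm
  obtain ⟨b, hb, h1⟩ := h.move hw hwz hz.ne (Ne.symm hne)
  have hbU : b ∈ U := by
    apply hNU
    rw [MulAction.mem_stabilizer_set' (Set.toFinite _)]
    rintro u (rfl | rfl | rfl)
    · rw [h1, add_comm]
      exact Or.inr (Or.inr rfl)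
    · rw [hb.1]
      exact Or.inr (Or.inl rfl)
    · rw [smul_add, h1, hb.1, add_comm w (z + w), add_add_self]
      exact Or.inl rfl
  obtain ⟨c, hc, h2⟩ := h.move h.zO hzw (h.pnt w hw).ne hne
  have h3 : w + z ∈ Del U z := ⟨b, hbU, by rw [h1, add_comm]⟩
  have h4 : w = c⁻¹ • (w + z) := by rw [← h2, inv_smul_smul]
  rw [h4]
  exact del_smul (inv_mem (h.KK_le z_del hc)) h3

/-- (A4) -/
theorem no_far [Finite Y] [Finite V] (h : Geo Y V T U z Om f) {w0 : V} (hw0 : w0 ∈ Om) (hzw : f z w0 = 0)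
    (hne : w0 ≠ z) {y0 : V} (hy0 : y0 ∈ Del U z) (h1 : f z y0 = 1) : False := by
  have hz := h.pnt z h.zO
  have hyO := h.del_le hy0
  have h1' : f y0 z = 1 := by rw [h.symm hyO h.zO, h1]
  have hA : ∀ y' ∈ Om, f z y' = 0 → f y0 y' = 0 → y' ∈ Del U z := by
    intro y' hy' h2 h3
    have hne' : y' ≠ y0 := fun h4 => by
      rw [h4, h1] at h2
      exact one_ne h2
    obtain ⟨b, hb, c, h4⟩ := h.hit h.zO h1 (u := y0 + y') (by rw [map_add, h1, h2, add_zero])
    rcases zmod_cases c with hc | hc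
    · rw [hc, zero_smul, add_zero] at h4
      have h5 : y0 + y' ∈ Del U z := by
        rw [h4]
        exact del_smul (h.KK_le z_del hb) hy0
      have h6 := h.del_add hy0 h5 (by rw [map_add, (h.pnt y0 hyO).self, h3, add_zero])
        (fun h7 => (h.pnt y' hy').ne (add_eq_left.mp h7))
      rwa [Fr.cancel_right] at h6
    · exfalso
      rw [hc, one_smul] at h4
      have h5 : y' + y0 ∈ Om := h.line hyO hy' h3 hne'
      have h6 : y' + y0 + z ∈ Om := by
        rw [add_comm y' y0, h4, add_add_self]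
        exact h.smul b y0 hyO
      have h7 := h.nh h.zO h5 h6
      rw [map_add, h2, h1, zero_add] at h7
      exact one_ne h7
  have hB : ∀ y' ∈ Om, f z y' = 0 → y' ∈ Del U z := by
    intro y' hy' h2
    by_cases h3 : f y0 y' = 0
    · exact hA y' hy' h2 h3
    · by_cases h4 : y' = z
      · rw [h4]
        exact z_del
      · have h5 : y' + z ∈ Del U z := hA _ (h.line h.zO hy' h2 h4) (by rw [map_add, h2, hz.self, add_zero])
          (by rw [map_add, eq_one_of_ne h3, h1', one_add_one])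
        have h6 := h.del_add z_del h5 (by rw [map_add, h2, hz.self, add_zero])
          (fun h7 => (h.pnt y' hy').ne (add_eq_right.mp h7))
        rwa [add_add_self] at h6
  have hC : ∀ d ∈ Del U z, ∀ y' ∈ Om, f d y' = 0 → y' ∈ Del U z := by
    rintro d ⟨g, hg, rfl⟩ y' hy' h2
    have h3 := h.conj g z h.zO (g⁻¹ • y')
    rw [smul_inv_smul, h2] at h3
    have h4 := hB _ (h.smul g⁻¹ y' hy') h3.symm
    have h5 := del_smul hg h4
    rwa [smul_inv_smul] at h5
  have hD : ∀ y ∈ Om, y ∈ Del U z := by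
    intro y hy
    by_cases h2 : f z y = 0
    · exact hB y hy h2
    · have h3 : f y z = 1 := by rw [h.symm hy h.zO, eq_one_of_ne h2]
      by_cases h4 : f y w0 = 0
      · exact hC w0 (hB w0 hw0 hzw) y hy (by rw [h.symm hw0 hy, h4])
      · have h5 : w0 + z ∈ Om := h.line h.zO hw0 hzw hne
        refine hC _ (hB _ h5 (by rw [map_add, hzw, hz.self, add_zero])) y hy ?_
        rw [h.symm h5 hy, map_add, eq_one_of_ne h4, h3, one_add_one]
  apply h.ne
  rw [eq_top_iff]
  intro g _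
  exact h.block z_del (hD _ (h.smul g z h.zO))

end Geo

end Cfsg.Agent.Omega.NearFF

end

section


/-!
# THEOREM BT2 (helper318, bb 13091): the block of `z`, the line fixed by `T`
-/

set_option autoImplicit false
set_option linter.unusedSectionVars false

namespace Cfsg.Agent.Omega.NearFF

open Subgroup Transv

variable {Y : Type*} [Group Y] {V : Type*} [AddCommGroup V] [Module (ZMod 2) V] [DistribMulAction Y V]

namespace Geo

variable {T : Sylow 2 Y} {U : Subgroup Y} {z : V} {Om : Set V} {f : V → Du V}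

/-- two vectors of `E_z` are separated by the group of `z` -/
theorem separate [Finite Y] [Finite V] (h : Geo Y V T U z Om f) {y y2 : V} (h1 : f z y = 0) (h2 : f z y2 = 0)
    (hy0 : y2 ≠ 0) (hyz : y2 ≠ z) (hs0 : y + y2 ≠ 0) (hsz : y + y2 ≠ z) :
    ∃ a ∈ KK Y z (f z), a • y = y ∧ a • y2 = y2 + z := by
  have hz0 := (h.pnt z h.zO).ne
  obtain ⟨b1, hb1, e1⟩ := h.move h.zO h2 hy0 hyz
  rcases hb1.2.2 y h1 with e2 | e2
  · exact ⟨b1, hb1, e2, e1⟩
  · obtain ⟨b2, hb2, e3⟩ := h.move h.zO (e := y + y2) (by rw [map_add, h1, h2, add_zero]) hs0 hsz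
    rw [smul_add] at e3
    rcases hb2.2.2 y h1 with e4 | e4
    · refine ⟨b2, hb2, e4, ?_⟩
      rw [e4, add_assoc] at e3
      exact add_left_cancel e3
    · rcases hb2.2.2 y2 h2 with e5 | e5
      · refine ⟨b1 * b2, mul_mem hb1 hb2, ?_, ?_⟩
        · rw [mul_smul, e4, smul_add, e2, hb1.1, add_add_self]
        · rw [mul_smul, e5, e1]
      · exfalso
        rw [e4, e5] at e3
        have e6 : y + z + (y2 + z) = y + y2 := by
          rw [add_add_add_comm, add_self, add_zero]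
        rw [e6] at e3
        exact hz0 (left_eq_add.mp e3)

/-- (A5) -/
theorem card_le [Finite Y] [Finite V] (h : Geo Y V T U z Om f) (hD : ∀ d ∈ Del U z, f z d = 0) {w : V}
    (hw : w ∈ Del U z) (hwz : w ≠ z) : Nat.card (KK Y z (f z)) ≤ 4 := by
  have hz := h.pnt z h.zO
  obtain ⟨y0, hy0, h1⟩ := h.exists_far h.zO
  have h1' : f y0 z = 1 := by rw [h.symm hy0 h.zO, h1]
  have hzw := hD w hw
  have hwz' : w + z ∈ Del U z := h.del_add z_del hw hzw hwz
  have hy0D : y0 ∉ Del U z := fun h2 => by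
    rw [hD y0 h2] at h1
    exact one_ne h1.symm
  have hd : ∃ d ∈ Del U z, f y0 d = 0 := by
    rcases zmod_cases (f y0 w) with h2 | h2
    · exact ⟨w, hw, h2⟩
    · exact ⟨w + z, hwz', by rw [map_add, h2, h1', one_add_one]⟩
  obtain ⟨d, ⟨u, hu, rfl⟩, h2⟩ := hd
  have hyO := h.smul u⁻¹ y0 hy0
  have hyz : f z (u⁻¹ • y0) = 0 := by
    rw [← h.conj u z h.zO, smul_inv_smul, h.symm (h.smul u z h.zO) hy0, h2]
  have hyD : u⁻¹ • y0 ∉ Del U z := fun h3 => hy0D (by
    have h4 := del_smul hu h3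
    rwa [smul_inv_smul] at h4)
  generalize u⁻¹ • y0 = y at hyO hyz hyD
  obtain ⟨g, rfl⟩ := h.trans y hyO
  -- all points of the block are perpendicular
  have hDD : ∀ d ∈ Del U z, ∀ d' ∈ Del U z, f d d' = 0 := by
    rintro d ⟨k, hk, rfl⟩ d' hd'
    have h3 := h.conj k z h.zO (k⁻¹ • d')
    rw [smul_inv_smul] at h3
    rw [h3]
    exact hD _ (del_smul (inv_mem hk) hd')
  -- the block of `g • z` does not contain `z`
  have hgz : ∀ d ∈ Del U z, g • d ≠ z := by
    intro d hd h3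
    apply hyD
    refine del_smul (h.block hd ?_) z_del
    rw [h3]
    exact z_del
  -- an element fixing `g • z` preserves its block
  have hblk : ∀ a : Y, a • g • z = g • z → ∀ d ∈ Del U z, ∃ d' ∈ Del U z, a • g • d = g • d' := by
    intro a ha d hd
    refine ⟨(g⁻¹ * a * g) • d, del_smul (h.stab_le ?_) hd, ?_⟩
    · rw [mul_smul, mul_smul, ha, inv_smul_smul]
    · rw [mul_smul, mul_smul, smul_inv_smul]
  have hone : ∀ d ∈ Del U z, d ≠ z → f z (g • d) = 1 := by
    intro d hd hdz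
    refine eq_one_of_ne fun h3 => ?_
    have hdO := h.del_le hd
    have hdd : d + z ∈ Del U z := h.del_add z_del hd (hD d hd) hdz
    have e1 : g • z + g • d = g • (d + z) := by rw [smul_add, add_comm]
    have e2 : g • d ≠ 0 := (h.pnt _ (h.smul g d hdO)).ne
    have e3 : g • z + g • d ≠ 0 := by
      rw [e1]
      exact (h.pnt _ (h.smul g _ (h.del_le hdd))).ne
    have e4 : g • z + g • d ≠ z := by
      rw [e1]
      exact hgz _ hdd
    obtain ⟨a, ha, e5, e6⟩ := h.separate hyz h3 e2 (hgz d hd) e3 e4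
    obtain ⟨d', hd', e7⟩ := hblk a e5 d hd
    rw [e6] at e7
    have hne : d' ≠ d := by
      intro e8
      rw [e8] at e7
      exact hz.ne (add_eq_left.mp e7)
    have e9 := h.del_add hd hd' (hDD d hd d' hd') hne
    apply hgz _ e9
    rw [smul_add, ← e7, Fr.cancel_right]
  -- elements of the group of `z` fixing `g • z`
  have hgw := hone w hw hwz
  have htwo : ∀ a ∈ KK Y z (f z), a • g • z = g • z → a • g • w = g • w ∨ a • g • w = g • w + g • z := by
    intro a ha e1
    obtain ⟨d', hd', e2⟩ := hblk a e1 w hw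
    rw [e2]
    by_cases e3 : d' = w
    · rw [e3]
      exact Or.inl rfl
    · right
      have e4 := h.del_add hw hd' (hDD w hw d' hd') e3
      by_cases e5 : d' + w = z
      · rw [← smul_add, ← e5, add_comm d' w, ← add_assoc, add_self, zero_add]
      · exfalso
        have e6 := hone _ e4 e5
        rw [smul_add, map_add, hgw, ← e2, ha.2.1, hgw, one_add_one] at e6
        exact zero_ne_one' e6
  classical
  have := Fintype.ofFinite (KK Y z (f z))
  rw [Nat.card_eq_fintype_card, ← Finset.card_univ]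
  have hinj : ∀ a ∈ KK Y z (f z), ∀ a' ∈ KK Y z (f z), a • g • w = a' • g • w → a = a' := by
    intro a ha a' ha' e1
    have e2 : a'⁻¹ * a = 1 := h.free h.zO (mul_mem (inv_mem ha') ha) hgw (by rw [mul_smul, e1, inv_smul_smul])
    exact (inv_mul_eq_one.mp e2).symm
  have hmaps : ∀ a ∈ (Finset.univ : Finset (KK Y z (f z))), (a : Y) • g • z ∈ ({g • z, g • z + z} : Finset V) := by
    intro a _
    rw [Finset.mem_insert, Finset.mem_singleton]
    exact a.2.2.2 _ hyz
  have hcard := Finset.card_le_mul_card_image_of_maps_to hmaps 2 (by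
    intro v hv
    rcases Finset.eq_empty_or_nonempty
      (Finset.filter (fun a : KK Y z (f z) => (a : Y) • g • z = v) Finset.univ) with e1 | ⟨a0, ha0⟩
    · rw [e1]
      exact Nat.zero_le _
    · rw [Finset.mem_filter] at ha0
      refine le_trans (Finset.card_le_card_of_injOn (fun a : KK Y z (f z) => (a : Y) • g • w)
        (t := {(a0 : Y) • g • w, (a0 : Y) • (g • w + g • z)}) ?_ ?_) Finset.card_le_two
      · intro a ha
        rw [Finset.mem_coe, Finset.mem_filter] at ha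
        rw [Finset.mem_coe, Finset.mem_insert, Finset.mem_singleton]
        have e2 : ((a0 : Y)⁻¹ * a) • g • z = g • z := by rw [mul_smul, ha.2, ← ha0.2, inv_smul_smul]
        have e3 := htwo _ (mul_mem (inv_mem a0.2) a.2) e2
        rw [mul_smul, inv_smul_eq_iff, inv_smul_eq_iff] at e3
        exact e3
      · intro a _ a' _ e2
        exact Subtype.ext (hinj a a.2 a' a'.2 e2))
  have h5 : ({g • z, g • z + z} : Finset V).card ≤ 2 := Finset.card_le_two
  omega

end Geo

end Cfsg.Agent.Omega.NearFF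

end

section


/-!
# THEOREM BT2 (helper318, bb 13091): `T` fixes a line on `z`
-/

set_option autoImplicit false
set_option linter.unusedSectionVars false

namespace Cfsg.Agent.Omega.NearFF

open Subgroup Transv

variable {Y : Type*} [Group Y] {V : Type*} [AddCommGroup V] [Module (ZMod 2) V] [DistribMulAction Y V]

/-- a finite set with an involution fixing exactly one element has odd order -/
theorem odd_of {α : Type*} [Finite α] {S : Set α} {w : α} (hw : w ∈ S) (g : α → α)
    (hg : ∀ u ∈ S, u ≠ w → g u ∈ S ∧ g u ≠ w ∧ g u ≠ u ∧ g (g u) = u) : ¬ 2 ∣ Nat.card S := by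
  classical
  have := Fintype.ofFinite α
  have h1 : ∑ u ∈ S.toFinset.erase w, (1 : ZMod 2) = 0 := by
    refine Finset.sum_involution (fun u _ => g u) ?_ ?_ ?_ ?_
    · intro u hu
      exact one_add_one
    · intro u hu _
      rw [Finset.mem_erase, Set.mem_toFinset] at hu
      exact (hg u hu.2 hu.1).2.2.1
    · intro u hu
      rw [Finset.mem_erase, Set.mem_toFinset] at hu ⊢
      exact ⟨(hg u hu.2 hu.1).2.1, (hg u hu.2 hu.1).1⟩
    · intro u hu
      rw [Finset.mem_erase, Set.mem_toFinset] at hu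
      exact (hg u hu.2 hu.1).2.2.2
  rw [Finset.sum_const, nsmul_eq_mul, mul_one, ZMod.natCast_eq_zero_iff] at h1
  have h2 := Finset.card_erase_add_one (Set.mem_toFinset.mpr hw)
  rw [Nat.card_eq_fintype_card, ← Set.toFinset_card]
  omega

namespace Geo

variable {T : Sylow 2 Y} {U : Subgroup Y} {z : V} {Om : Set V} {f : V → Du V}

theorem card_K (h : Geo Y V T U z Om f) {x : V} (hx : x ∈ Om) :
    Nat.card (KK Y x (f x)) = Nat.card (KK Y z (f z)) := by
  obtain ⟨g, rfl⟩ := h.trans x hx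
  rw [h.f_smul h.zO, card_KK_conj]

/-- (A3) -/
theorem exists_line [Finite Y] [Finite V] (h : Geo Y V T U z Om f) (h4 : 4 < Nat.card (KK Y z (f z))) {w0 : V}
    (hw0 : w0 ∈ Om) (hzw : f z w0 = 0) (hne : w0 ≠ z) :
    ∃ w ∈ Om, f z w = 0 ∧ w ≠ z ∧ ∀ t ∈ T, t • w = w ∨ t • w = w + z := by
  classical
  have hz := h.pnt z h.zO
  obtain ⟨y0, hy0, h1⟩ := h.exists_far h.zO
  have h1' : f y0 z = 1 := by rw [h.symm hy0 h.zO, h1]
  let S : Set V := {u | u ∈ Om ∧ f z u = 0 ∧ f y0 u = 0}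
  have hSz : ∀ u ∈ S, u ≠ z := by
    rintro u ⟨-, -, h2⟩ h3
    rw [h3, h1'] at h2
    exact one_ne h2
  obtain ⟨w, hwS⟩ : ∃ w, w ∈ S := by
    rcases zmod_cases (f y0 w0) with h2 | h2
    · exact ⟨w0, hw0, hzw, h2⟩
    · exact ⟨w0 + z, h.line h.zO hw0 hzw hne, by rw [map_add, hzw, hz.self, add_zero],
        by rw [map_add, h2, h1', one_add_one]⟩
  have hw := h.pnt w hwS.1
  have hwz : f w z = 0 := by rw [h.symm hwS.1 h.zO, hwS.2.1]
  have hwy : f w y0 = 0 := by rw [h.symm hwS.1 hy0, hwS.2.2]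
  -- an element of `K_w` fixing `z` and `y0`
  obtain ⟨a, ha, ha1, haz, hay⟩ : ∃ a ∈ KK Y w (f w), a ≠ 1 ∧ a • z = z ∧ a • y0 = y0 := by
    have := Fintype.ofFinite (KK Y w (f w))
    have h5 : Fintype.card (Bool × Bool) < Fintype.card (KK Y w (f w)) := by
      rw [← Nat.card_eq_fintype_card (α := KK Y w (f w)), h.card_K hwS.1]
      simpa using h4
    obtain ⟨b, b', h6, h7⟩ := Fintype.exists_ne_map_eq_of_card_lt
      (fun b : KK Y w (f w) => (decide ((b : Y) • z = z), decide ((b : Y) • y0 = y0))) h5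
    have h8 := congrArg Prod.fst h7
    have h9 := congrArg Prod.snd h7
    simp only [decide_eq_decide] at h8 h9
    have key : ∀ e, f w e = 0 → ((b : Y) • e = e ↔ (b' : Y) • e = e) → ((b : Y)⁻¹ * b') • e = e := by
      intro e he h10
      rw [mul_smul, inv_smul_eq_iff]
      rcases b.2.2.2 e he with h11 | h11
      · rw [h11, h10.mp h11]
      · rcases b'.2.2.2 e he with h12 | h12
        · rw [h12, h10.mpr h12]
        · rw [h11, h12]
    refine ⟨(b : Y)⁻¹ * b', mul_mem (inv_mem b.2) b'.2, ?_, key z hwz h8, key y0 hwy h9⟩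
    intro h10
    exact h6 (Subtype.ext (inv_mul_eq_one.mp h10))
  have haa : a * a = 1 := hw.sq a ha
  have hodd : ¬ 2 ∣ Nat.card S := by
    refine odd_of hwS (fun u => if f w u = 0 then u + w else a • u) ?_
    rintro u hu hne
    by_cases h5 : f w u = 0
    · have h6 : f w (u + w) = 0 := by rw [map_add, h5, hw.self, add_zero]
      simp only [if_pos h5, if_pos h6]
      refine ⟨⟨h.line hwS.1 hu.1 h5 hne, by rw [map_add, hu.2.1, hwS.2.1, add_zero],
        by rw [map_add, hu.2.2, hwS.2.2, add_zero]⟩, ?_, ?_, add_add_self _ _⟩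
      · intro h7
        exact (h.pnt u hu.1).ne (add_eq_right.mp h7)
      · intro h7
        exact hw.ne (add_eq_left.mp h7)
    · have h5' := eq_one_of_ne h5
      have h6 : ¬ f w (a • u) = 0 := by rwa [ha.2.1]
      simp only [if_neg h5, if_neg h6]
      refine ⟨⟨h.smul a u hu.1, ?_, ?_⟩, ?_, ?_, ?_⟩
      · rw [h.f_of_fix h.zO haz, hu.2.1]
      · rw [h.f_of_fix hy0 hay, hu.2.2]
      · intro h7
        rw [h7, hw.self] at h6
        exact h6 rfl
      · intro h7
        exact ha1 (h.free hwS.1 ha h5' h7)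
      · rw [← mul_smul, haa, one_smul]
  -- the action of `T`
  have hstar : ∀ t ∈ T, ∀ u ∈ S, t • u + f y0 (t • u) • z ∈ S := by
    rintro t ht u hu
    have h5 : f z (t • u) = 0 := by rw [h.f_of_fix h.zO (h.z_fix t ht), hu.2.1]
    rcases zmod_cases (f y0 (t • u)) with h6 | h6
    · rw [h6, zero_smul, add_zero]
      exact ⟨h.smul t u hu.1, h5, h6⟩
    · have h7 : t • u ≠ z := by
        intro h8
        apply hSz u hu
        rw [← inv_smul_smul t u, h8, inv_smul_eq_iff, h.z_fix t ht]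
      rw [h6, one_smul]
      exact ⟨h.line h.zO (h.smul t u hu.1) h5 h7, by rw [map_add, h5, hz.self, add_zero],
        by rw [map_add, h6, h1', one_add_one]⟩
  let act : MulAction T S :=
    { smul := fun t u => ⟨(t : Y) • (u : V) + f y0 ((t : Y) • (u : V)) • z, hstar t t.2 u u.2⟩
      one_smul := by
        rintro ⟨u, hu⟩
        apply Subtype.ext
        change (1 : Y) • u + f y0 ((1 : Y) • u) • z = u
        rw [one_smul, hu.2.2, zero_smul, add_zero]
      mul_smul := by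
        rintro ⟨t, ht⟩ ⟨s, hs⟩ ⟨u, hu⟩
        apply Subtype.ext
        change (t * s) • u + f y0 ((t * s) • u) • z = t • (s • u + f y0 (s • u) • z) +
          f y0 (t • (s • u + f y0 (s • u) • z)) • z
        rw [mul_smul, smul_add, smul_zmod, h.z_fix t ht, map_add, map_smul (f := f y0) (c := f y0 (s • u)), h1',
          smul_eq_mul, mul_one, add_smul]
        have h5 : t • s • u + f y0 (s • u) • z + (f y0 (t • s • u) • z + f y0 (s • u) • z) =
          t • s • u + f y0 (t • s • u) • z + (f y0 (s • u) • z + f y0 (s • u) • z) := by abel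
        rw [h5, add_self, add_zero] }
  have : Fact (Nat.Prime 2) := ⟨Nat.prime_two⟩
  obtain ⟨⟨v, hv⟩, hfix⟩ := T.isPGroup'.nonempty_fixed_point_of_prime_not_dvd_card S hodd
  refine ⟨v, hv.1, hv.2.1, hSz v hv, fun t ht => ?_⟩
  have h5 : t • v + f y0 (t • v) • z = v := congrArg Subtype.val (hfix ⟨t, ht⟩)
  rcases zmod_cases (f y0 (t • v)) with h6 | h6
  · rw [h6, zero_smul, add_zero] at h5
    exact Or.inl h5
  · right
    rw [h6, one_smul] at h5
    conv_rhs => rw [← h5, add_add_self]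

/-- two points of `E_z` which are not perpendicular -/
theorem exists_pair [Finite Y] [Finite V] (h : Geo Y V T U z Om f) {y0 : V} (hy0 : y0 ∈ Om) (h1 : f z y0 = 1)
    {w0 : V} (hw0 : w0 ∈ Om) (hzw : f z w0 = 0) (hne : w0 ≠ z) :
    ∃ w1 ∈ Om, ∃ w2 ∈ Om, f z w1 = 0 ∧ f z w2 = 0 ∧ f y0 w1 = 0 ∧ f y0 w2 = 0 ∧ f w1 w2 = 1 := by
  have hz := h.pnt z h.zO
  have h1' : f y0 z = 1 := by rw [h.symm hy0 h.zO, h1]
  -- first two points of `E_z`
  have hA : ∃ w1 ∈ Om, ∃ w2 ∈ Om, f z w1 = 0 ∧ f z w2 = 0 ∧ f w1 w2 = 1 := by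
    by_contra hcon
    push Not at hcon
    have hB : ∀ x ∈ Om, ∀ w1 ∈ Om, ∀ w2 ∈ Om, f x w1 = 0 → f x w2 = 0 → f w1 w2 = 0 := by
      intro x hx w1 hw1 w2 hw2 h2 h3
      obtain ⟨g, rfl⟩ := h.trans x hx
      have h4 := h.conj g z h.zO (g⁻¹ • w1)
      rw [smul_inv_smul, h2] at h4
      have h5 := h.conj g z h.zO (g⁻¹ • w2)
      rw [smul_inv_smul, h3] at h5
      have h6 := hcon _ (h.smul g⁻¹ w1 hw1) _ (h.smul g⁻¹ w2 hw2) h4.symm h5.symm
      rw [h.conj g⁻¹ w1 hw1] at h6
      exact eq_zero_of_ne h6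
    -- a point of `E_z` perpendicular to `y0`
    have hC : ∃ w ∈ Om, f z w = 0 ∧ f y0 w = 0 := by
      rcases zmod_cases (f y0 w0) with h2 | h2
      · exact ⟨w0, hw0, hzw, h2⟩
      · exact ⟨w0 + z, h.line h.zO hw0 hzw hne, by rw [map_add, hzw, hz.self, add_zero],
          by rw [map_add, h2, h1', one_add_one]⟩
    obtain ⟨w, hw, h2, h3⟩ := hC
    have h4 := hB w hw z h.zO y0 hy0 (by rw [h.symm hw h.zO, h2]) (by rw [h.symm hw hy0, h3])
    rw [h1] at h4
    exact one_ne h4
  obtain ⟨w1, hw1, w2, hw2, h2, h3, h4⟩ := hA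
  have hne1 : w1 ≠ z := by
    intro h5
    rw [h5, h3] at h4
    exact one_ne h4.symm
  have hne2 : w2 ≠ z := by
    intro h5
    rw [h5, h.symm hw1 h.zO, h2] at h4
    exact one_ne h4.symm
  -- move `w1` into `E_y0`
  have hD : ∀ w1 ∈ Om, f z w1 = 0 → w1 ≠ z → ∃ w1' ∈ Om, f z w1' = 0 ∧ f y0 w1' = 0 ∧
      ∀ w ∈ Om, f z w = 0 → f w w1' = f w w1 := by
    intro w1 hw1 h2 hne1
    rcases zmod_cases (f y0 w1) with h5 | h5
    · exact ⟨w1, hw1, h2, h5, fun w _ _ => rfl⟩
    · refine ⟨w1 + z, h.line h.zO hw1 h2 hne1, by rw [map_add, h2, hz.self, add_zero],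
        by rw [map_add, h5, h1', one_add_one], fun w hw hzw => ?_⟩
      rw [map_add, h.symm hw h.zO, hzw, add_zero]
  obtain ⟨w1', hw1', h5, h6, h7⟩ := hD w1 hw1 h2 hne1
  obtain ⟨w2', hw2', h8, h9, h10⟩ := hD w2 hw2 h3 hne2
  refine ⟨w1', hw1', w2', hw2', h5, h8, h6, h9, ?_⟩
  rw [h10 w1' hw1' h5, h.symm hw1' hw2, h7 w2 hw2 h3, h.symm hw2 hw1, h4]

end Geo

end Cfsg.Agent.Omega.NearFF

end

section


/-!
# THEOREM BT2 (helper318, bb 13091): no line on `z`
-/

set_option autoImplicit false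
set_option linter.unusedSectionVars false

namespace Cfsg.Agent.Omega.NearFF

open Subgroup Transv

variable {Y : Type*} [Group Y] {V : Type*} [AddCommGroup V] [Module (ZMod 2) V] [DistribMulAction Y V]

namespace Geo

variable {T : Sylow 2 Y} {U : Subgroup Y} {z : V} {Om : Set V} {f : V → Du V}

/-- coordinates in the case `|V| ≤ 16` -/
theorem coord [Finite Y] [Finite V] (h : Geo Y V T U z Om f) (hc : Nat.card V ≤ 16) {y0 w1 w2 : V} (hy0 : y0 ∈ Om)
    (h1 : f z y0 = 1) (hw1 : w1 ∈ Om) (hw2 : w2 ∈ Om) (e1 : f z w1 = 0) (e2 : f z w2 = 0) (e3 : f y0 w1 = 0)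
    (e4 : f y0 w2 = 0) (e5 : f w1 w2 = 1) (v : V) :
    v = f y0 v • z + f z v • y0 + f w2 v • w1 + f w1 v • w2 := by
  have s0 : f z z = 0 := (h.pnt z h.zO).self
  have s1 : f y0 y0 = 0 := (h.pnt y0 hy0).self
  have s2 : f w1 w1 = 0 := (h.pnt w1 hw1).self
  have s3 : f w2 w2 = 0 := (h.pnt w2 hw2).self
  have t1 : f y0 z = 1 := by rw [h.symm hy0 h.zO, h1]
  have t2 : f w1 z = 0 := by rw [h.symm hw1 h.zO, e1]
  have t3 : f w2 z = 0 := by rw [h.symm hw2 h.zO, e2]
  have t4 : f w1 y0 = 0 := by rw [h.symm hw1 hy0, e3]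
  have t5 : f w2 y0 = 0 := by rw [h.symm hw2 hy0, e4]
  have t6 : f w2 w1 = 1 := by rw [h.symm hw2 hw1, e5]
  let F : (ZMod 2 × ZMod 2) × (ZMod 2 × ZMod 2) → V := fun p =>
    p.1.1 • z + p.1.2 • y0 + p.2.1 • w1 + p.2.2 • w2
  have k1 : ∀ p, f y0 (F p) = p.1.1 := by
    rintro ⟨⟨a, b⟩, c, d⟩
    change f y0 (a • z + b • y0 + c • w1 + d • w2) = a
    simp only [map_add, map_smul, t1, s1, e3, e4, add_zero, smul_eq_mul, mul_one,
      mul_zero]
  have k2 : ∀ p, f z (F p) = p.1.2 := by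
    rintro ⟨⟨a, b⟩, c, d⟩
    change f z (a • z + b • y0 + c • w1 + d • w2) = b
    simp only [map_add, map_smul, s0, h1, e1, e2, add_zero, smul_eq_mul, mul_one,
      mul_zero, zero_add]
  have k3 : ∀ p, f w2 (F p) = p.2.1 := by
    rintro ⟨⟨a, b⟩, c, d⟩
    change f w2 (a • z + b • y0 + c • w1 + d • w2) = c
    simp only [map_add, map_smul, t3, t5, t6, s3, add_zero, smul_eq_mul, mul_one,
      mul_zero, zero_add]
  have k4 : ∀ p, f w1 (F p) = p.2.2 := by
    rintro ⟨⟨a, b⟩, c, d⟩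
    change f w1 (a • z + b • y0 + c • w1 + d • w2) = d
    simp only [map_add, map_smul, t2, t4, e5, s2, add_zero, smul_eq_mul, mul_one,
      mul_zero, zero_add]
  have hF : Function.Injective F := by
    intro p q hpq
    refine Prod.ext (Prod.ext ?_ ?_) (Prod.ext ?_ ?_)
    · rw [← k1, ← k1, hpq]
    · rw [← k2, ← k2, hpq]
    · rw [← k3, ← k3, hpq]
    · rw [← k4, ← k4, hpq]
  have hcard : Nat.card ((ZMod 2 × ZMod 2) × (ZMod 2 × ZMod 2)) = 16 := by
    rw [Nat.card_prod, Nat.card_prod, Nat.card_zmod]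
  have hle := Nat.card_le_card_of_injective F hF
  have hb := (Nat.bijective_iff_injective_and_card F).mpr ⟨hF, by omega⟩
  obtain ⟨p, hp⟩ := hb.2 v
  rw [← hp, k1, k2, k3, k4]

/-- (A6) -/
theorem fix_line [Finite Y] [Finite V] (h : Geo Y V T U z Om f) (hc : Nat.card V ≤ 16) {y0 w1 w2 : V} (hy0 : y0 ∈ Om)
    (h1 : f z y0 = 1) (hw1 : w1 ∈ Om) (hw2 : w2 ∈ Om) (e1 : f z w1 = 0) (e2 : f z w2 = 0) (e3 : f y0 w1 = 0)
    (e4 : f y0 w2 = 0) (e5 : f w1 w2 = 1) (t : Y) (ht : t • z = z) : t • w1 = w1 ∨ t • w1 = w1 + z := by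
  have hz := h.pnt z h.zO
  have hco := h.coord hc hy0 h1 hw1 hw2 e1 e2 e3 e4 e5
  have t1 : f y0 z = 1 := by rw [h.symm hy0 h.zO, h1]
  have t2 : f w1 z = 0 := by rw [h.symm hw1 h.zO, e1]
  have t3 : f w2 z = 0 := by rw [h.symm hw2 h.zO, e2]
  have hn : w1 + w2 ∉ Om := by
    intro h2
    have h3 := h.nh hw1 hw2 (by rwa [add_comm])
    rw [e5] at h3
    exact one_ne h3
  have n1 : w1 ≠ z := by
    intro h2
    rw [h2, e2] at e5
    exact one_ne e5.symm
  have n2 : w2 ≠ z := by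
    intro h2
    rw [h2, t2] at e5
    exact one_ne e5.symm
  -- the points of `E_z`
  have hE : ∀ u ∈ Om, f z u = 0 → u ≠ z → (u = w1 ∨ u = w1 + z) ∨ (u = w2 ∨ u = w2 + z) := by
    intro u hu h2 h3
    have h4 := hco u
    rw [h2, zero_smul, add_zero] at h4
    rcases zmod_cases (f w2 u) with c1 | c1
    · rcases zmod_cases (f w1 u) with c2 | c2
      · exfalso
        rw [c1, c2, zero_smul, zero_smul, add_zero, add_zero] at h4
        rcases zmod_cases (f y0 u) with c3 | c3
        · rw [c3, zero_smul] at h4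
          exact (h.pnt u hu).ne h4
        · rw [c3, one_smul] at h4
          exact h3 h4
      · right
        rw [c1, c2, zero_smul, one_smul, add_zero] at h4
        rcases zmod_cases (f y0 u) with c3 | c3
        · rw [c3, zero_smul, zero_add] at h4
          exact Or.inl h4
        · rw [c3, one_smul, add_comm] at h4
          exact Or.inr h4
    · rcases zmod_cases (f w1 u) with c2 | c2
      · left
        rw [c1, c2, zero_smul, one_smul, add_zero] at h4
        rcases zmod_cases (f y0 u) with c3 | c3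
        · rw [c3, zero_smul, zero_add] at h4
          exact Or.inl h4
        · rw [c3, one_smul, add_comm] at h4
          exact Or.inr h4
      · exfalso
        rw [c1, c2, one_smul, one_smul] at h4
        rcases zmod_cases (f y0 u) with c3 | c3
        · rw [c3, zero_smul, zero_add] at h4
          rw [h4] at hu
          exact hn hu
        · rw [c3, one_smul] at h4
          have h5 := h.line h.zO hu h2 h3
          have h6 : u + z = w1 + w2 := by
            rw [h4, add_assoc z w1 w2, Fr.cancel_right]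
          rw [h6] at h5
          exact hn h5
  have hT : ∀ w ∈ Om, f z w = 0 → w ≠ z →
      (t • w = w1 ∨ t • w = w1 + z) ∨ (t • w = w2 ∨ t • w = w2 + z) := by
    intro w hw h2 h3
    refine hE _ (h.smul t w hw) (by rw [h.f_of_fix h.zO ht, h2]) ?_
    intro h4
    apply h3
    rw [← inv_smul_smul t w, h4, inv_smul_eq_iff, ht]
  rcases hT w1 hw1 e1 n1 with h2 | h2
  · exact h2
  · exfalso
    -- then `t` swaps the two lines
    have h3 : t • w2 = w1 ∨ t • w2 = w1 + z := by
      rcases hT w2 hw2 e2 n2 with h3 | h3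
      · exact h3
      · exfalso
        have h4 : t • (w1 + w2) = 0 ∨ t • (w1 + w2) = z := by
          rw [smul_add]
          rcases h2 with h2 | h2 <;> rcases h3 with h3 | h3 <;> rw [h2, h3]
          · exact Or.inl (add_self _)
          · right
            rw [← add_assoc, add_self, zero_add]
          · right
            exact Fr.cancel_right _ _
          · exact Or.inl (add_self _)
        have h5 : w1 + w2 = 0 ∨ w1 + w2 = z := by
          rcases h4 with h4 | h4
          · left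
            rw [← inv_smul_smul t (w1 + w2), h4, smul_zero]
          · right
            rw [← inv_smul_smul t (w1 + w2), h4, inv_smul_eq_iff, ht]
        have h6 : f w1 (w1 + w2) = 1 := by rw [map_add, (h.pnt w1 hw1).self, e5, zero_add]
        rcases h5 with h5 | h5
        · rw [h5, map_zero] at h6
          exact one_ne h6.symm
        · rw [h5, t2] at h6
          exact one_ne h6.symm
    -- straighten `t` on `y0`
    have h4 : f z (t • y0) = 1 := by rw [h.f_of_fix h.zO ht, h1]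
    obtain ⟨b, hb, c, h5⟩ := h.hit h.zO h1 h4
    have hc0 : c = 0 := by
      refine eq_zero_of_ne fun hc1 => ?_
      have h6 : b • y0 = t • y0 + z := by rw [h5, hc1, one_smul, add_add_self]
      have h7 : t • y0 + z ∈ Om := by
        rw [← h6]
        exact h.smul b y0 hy0
      have h8 := h.nh h.zO (h.smul t y0 hy0) h7
      rw [h4] at h8
      exact one_ne h8
    rw [hc0, zero_smul, add_zero] at h5
    have hb' : b⁻¹ ∈ KK Y z (f z) := inv_mem hb
    have g0 : (b⁻¹ * t) • y0 = y0 := by rw [mul_smul, h5, inv_smul_smul]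
    have gz : (b⁻¹ * t) • z = z := by rw [mul_smul, ht, hb'.1]
    have swap : ∀ w w' : V, f z w' = 0 → f y0 w = 0 → f y0 w' = 0 → (t • w = w' ∨ t • w = w' + z) →
        (b⁻¹ * t) • w = w' := by
      intro w w' q1 q2 q3 q4
      have q5 : (b⁻¹ * t) • w = w' ∨ (b⁻¹ * t) • w = w' + z := by
        rw [mul_smul]
        rcases q4 with q4 | q4
        · rw [q4]
          exact hb'.2.2 w' q1
        · rw [q4, smul_add, hb'.1]
          rcases hb'.2.2 w' q1 with q6 | q6
          · rw [q6]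
            exact Or.inr rfl
          · rw [q6, add_add_self]
            exact Or.inl rfl
      refine q5.resolve_right fun q6 => ?_
      have q7 := h.f_of_fix hy0 g0 w
      rw [q6, map_add, q3, t1, q2, zero_add] at q7
      exact one_ne q7
    have g1 := swap w1 w2 e2 e3 e4 h2
    have g2 := swap w2 w1 e1 e4 e3 h3
    refine h.nt (b⁻¹ * t) (w1 + w2) (f w1 + f w2) ⟨?_, ?_, fun v => ?_⟩
    · intro h6
      have h7 : w1 = w2 := eq_of_add h6
      rw [h7, (h.pnt w2 hw2).self] at e5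
      exact one_ne e5.symm
    · intro h6
      have h7 : (f w1 + f w2) w2 = 0 := by rw [h6]; rfl
      rw [LinearMap.add_apply, e5, (h.pnt w2 hw2).self, add_zero] at h7
      exact one_ne h7
    · have h6 : (b⁻¹ * t) • v = f y0 v • z + f z v • y0 + f w2 v • w2 + f w1 v • w1 := by
        conv_lhs => rw [hco v]
        rw [smul_add, smul_add, smul_add, smul_zmod, smul_zmod, smul_zmod, smul_zmod, gz, g0, g1, g2]
      have h7 : f y0 v • z + f z v • y0 + f w2 v • w2 + f w1 v • w1 =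
        f y0 v • z + f z v • y0 + f w2 v • w1 + f w1 v • w2 +
          (f w1 v • w1 + f w1 v • w2 + (f w2 v • w1 + f w2 v • w2)) := by
        have h8 : f y0 v • z + f z v • y0 + f w2 v • w1 + f w1 v • w2 +
            (f w1 v • w1 + f w1 v • w2 + (f w2 v • w1 + f w2 v • w2)) =
          f y0 v • z + f z v • y0 + f w2 v • w2 + f w1 v • w1 + (f w2 v • w1 + f w2 v • w1) +
            (f w1 v • w2 + f w1 v • w2) := by abel
        rw [h8, add_self, add_self, add_zero, add_zero]
      rw [h6, h7, ← hco v, LinearMap.add_apply, add_smul, smul_add, smul_add]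

/-- (6), (8): `z` is the only point of `E_z` -/
theorem only_z [Finite Y] [Finite V] (h : Geo Y V T U z Om f) : ∀ w ∈ Om, f z w = 0 → w = z := by
  intro w0 hw0 hzw
  by_contra hne
  have hz := h.pnt z h.zO
  -- it is enough to find a line in the block and a contradiction when the block is singular
  have key : ∀ w ∈ Del U z, w ≠ z → (∀ d ∈ Del U z, f z d = 0) := by
    intro w _ _ d hd
    exact eq_zero_of_ne fun h1 => h.no_far hw0 hzw hne hd h1
  rcases Nat.lt_or_ge 4 (Nat.card (KK Y z (f z))) with h4 | h4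
  · obtain ⟨w, hw, h1, h2, h3⟩ := h.exists_line h4 hw0 hzw hne
    have h5 := h.line_del hw h1 h2 h3
    have h6 := h.card_le (key w h5 h2) h5 h2
    omega
  · have hc : Nat.card V ≤ 16 := by
      have h5 := hz.card
      omega
    obtain ⟨y0, hy0, h1⟩ := h.exists_far h.zO
    obtain ⟨w1, hw1, w2, hw2, e1, e2, e3, e4, e5⟩ := h.exists_pair hy0 h1 hw0 hzw hne
    have e6 : f w2 w1 = 1 := by rw [h.symm hw2 hw1, e5]
    have n1 : w1 ≠ z := by
      intro h2
      rw [h2, e2] at e5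
      exact one_ne e5.symm
    have n2 : w2 ≠ z := by
      intro h2
      rw [h2, e1] at e6
      exact one_ne e6.symm
    have d1 := h.line_del hw1 e1 n1 fun t ht =>
      h.fix_line hc hy0 h1 hw1 hw2 e1 e2 e3 e4 e5 t (h.z_fix t ht)
    have d2 := h.line_del hw2 e2 n2 fun t ht =>
      h.fix_line hc hy0 h1 hw2 hw1 e2 e1 e4 e3 e6 t (h.z_fix t ht)
    have h5 := key w1 d1 n1
    obtain ⟨g, hg, h6⟩ := d1
    have h7 := h.conj g z h.zO (g⁻¹ • w2)
    rw [smul_inv_smul, h6, e5, h5 _ (del_smul (inv_mem hg) d2)] at h7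
    exact one_ne h7

end Geo

end Cfsg.Agent.Omega.NearFF

end

section


/-!
# THEOREM BT2 (helper318, bb 13091): five points
-/

set_option autoImplicit false
set_option linter.unusedSectionVars false

namespace Cfsg.Agent.Omega.NearFF

open Subgroup Transv

variable {Y : Type*} [Group Y] {V : Type*} [AddCommGroup V] [Module (ZMod 2) V] [DistribMulAction Y V]

/-- the permutations of the five vectors induced by the group -/
def HH (Y : Type*) [Group Y] [DistribMulAction Y V] (w : Fin 5 → V) : Subgroup (Equiv.Perm (Fin 5)) where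
  carrier := {σ | ∃ g : Y, ∀ i, g • w i = w (σ i)}
  one_mem' := ⟨1, fun i => one_smul _ _⟩
  mul_mem' := by
    rintro σ τ ⟨g, hg⟩ ⟨k, hk⟩
    refine ⟨g * k, fun i => ?_⟩
    rw [mul_smul, hk, hg]
    rfl
  inv_mem' := by
    rintro σ ⟨g, hg⟩
    refine ⟨g⁻¹, fun i => ?_⟩
    rw [inv_smul_eq_iff, hg]
    exact congrArg w (σ.apply_symm_apply i).symm

theorem mem_HH {w : Fin 5 → V} {σ : Equiv.Perm (Fin 5)} : σ ∈ HH Y w ↔ ∃ g : Y, ∀ i, g • w i = w (σ i) := Iff.rfl

/-- the conclusion of THEOREM BT2: `V` is the natural `O₄⁻(2)`-module for `Y ≅ A₅`, given by the five singular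
vectors -/
structure FivePts (Y : Type*) {V : Type*} [Group Y] [AddCommGroup V] [Module (ZMod 2) V] [DistribMulAction Y V]
    (z : V) (w : Fin 5 → V) : Prop where
  inj : Function.Injective w
  zero : w 0 = z
  range : Set.range w = MulAction.orbit Y z
  sum : ∑ i, w i = 0
  card : Nat.card V = 16
  span : Submodule.span (ZMod 2) (Set.range w) = ⊤
  /-- `Y` acts as a group of even permutations of the five vectors ... -/
  act : ∀ g : Y, ∃ σ ∈ alternatingGroup (Fin 5), ∀ i, g • w i = w (σ i)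
  /-- ... and all even permutations occur -/
  onto : ∀ σ ∈ alternatingGroup (Fin 5), ∃ g : Y, ∀ i, g • w i = w (σ i)

namespace Geo

variable {T : Sylow 2 Y} {U : Subgroup Y} {z : V} {Om : Set V} {f : V → Du V}

theorem far [Finite Y] [Finite V] (h : Geo Y V T U z Om f) {x y : V} (hx : x ∈ Om) (hy : y ∈ Om) (hne : x ≠ y) :
    f x y = 1 := by
  refine eq_one_of_ne fun h1 => hne ?_
  obtain ⟨g, rfl⟩ := h.trans x hx
  have h2 := h.conj g z h.zO (g⁻¹ • y)
  rw [smul_inv_smul, h1] at h2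
  have h3 := h.only_z _ (h.smul g⁻¹ y hy) h2.symm
  rw [← h3, smul_inv_smul]

/-- the five points -/
theorem exists_five [Finite Y] [Finite V] (h : Geo Y V T U z Om f) :
    ∃ w : Fin 5 → V, Function.Injective w ∧ w 0 = z ∧ Set.range w = Om ∧ ∑ i, w i = 0 ∧ Nat.card V = 16 := by
  have hz := h.pnt z h.zO
  obtain ⟨y0, hy0, h1⟩ := h.exists_far h.zO
  have hy := h.pnt y0 hy0
  have h1' : f y0 z = 1 := by rw [h.symm hy0 h.zO, h1]
  have hzy : z + y0 ∉ Om := by
    intro h2
    have h3 := h.nh h.zO hy0 (by rwa [add_comm])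
    rw [h1] at h3
    exact one_ne h3
  have uz : ∀ r, f z r = 0 → f z (z + y0 + r) = 1 := by
    intro r hr
    rw [map_add, map_add, hz.self, h1, hr, zero_add, add_zero]
  have uy : ∀ r, f y0 r = 0 → f y0 (z + y0 + r) = 1 := by
    intro r hr
    rw [map_add, map_add, hy.self, h1', hr, add_zero, add_zero]
  have hR : ∀ r, r ≠ 0 → f z r = 0 → f y0 r = 0 → z + y0 + r ∈ Om := by
    intro r hr0 hr1 hr2
    obtain ⟨b, hb, c, h2⟩ := h.hit h.zO h1 (u := y0 + r) (by rw [map_add, h1, hr1, add_zero])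
    rcases zmod_cases c with hc | hc
    · exfalso
      rw [hc, zero_smul, add_zero] at h2
      have h3 : y0 + r ∈ Om := by
        rw [h2]
        exact h.smul b y0 hy0
      have h4 := h.far hy0 h3 (fun h5 => hr0 (left_eq_add.mp h5))
      rw [map_add, hy.self, hr2, add_zero] at h4
      exact one_ne h4.symm
    · rw [hc, one_smul] at h2
      have h3 : z + y0 + r = b • y0 := by rw [add_assoc, h2, add_comm, add_add_self]
      rw [h3]
      exact h.smul b y0 hy0
  have f1 : ∀ r, r ≠ 0 → f z r = 0 → f y0 r = 0 → f (z + y0 + r) z = 1 := by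
    intro r hr0 hr1 hr2
    rw [h.symm (hR r hr0 hr1 hr2) h.zO, uz r hr1]
  have f2 : ∀ r, r ≠ 0 → f z r = 0 → f y0 r = 0 → f (z + y0 + r) y0 = 1 := by
    intro r hr0 hr1 hr2
    rw [h.symm (hR r hr0 hr1 hr2) hy0, uy r hr2]
  have f3 : ∀ r, r ≠ 0 → f z r = 0 → f y0 r = 0 → ∀ r', r' ≠ 0 → f z r' = 0 → f y0 r' = 0 → r ≠ r' →
      f (z + y0 + r) r' = 1 := by
    intro r hr0 hr1 hr2 r' hr0' hr1' hr2' hne
    have h2 := h.far (hR r hr0 hr1 hr2) (hR r' hr0' hr1' hr2') (fun h3 => hne (add_left_cancel h3))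
    rwa [map_add, map_add, f1 r hr0 hr1 hr2, f2 r hr0 hr1 hr2, one_add_one, zero_add] at h2
  -- a first vector
  obtain ⟨r1, hr10, hr11, hr12⟩ : ∃ r, r ≠ 0 ∧ f z r = 0 ∧ f y0 r = 0 := by
    obtain ⟨e, he, he0, hez⟩ := h.exists_perp
    refine ⟨e + f y0 e • z, ?_, by rw [map_add, map_smul, he, hz.self, smul_zero, add_zero],
      by rw [map_add, map_smul, h1', smul_eq_mul, mul_one, add_self]⟩
    rcases zmod_cases (f y0 e) with h2 | h2
    · rw [h2, zero_smul, add_zero]
      exact he0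
    · rw [h2, one_smul]
      exact fun h3 => hez (eq_of_add h3)
  have hr1z : r1 ≠ z := by
    intro h2
    rw [h2, h1'] at hr12
    exact one_ne hr12
  -- a second one
  obtain ⟨r2, hr20, hr21, hr22, hr12ne⟩ : ∃ r, r ≠ 0 ∧ f z r = 0 ∧ f y0 r = 0 ∧ r1 ≠ r := by
    obtain ⟨b, hb, h2⟩ := h.move h.zO hr11 hr10 hr1z
    have hbO := h.smul b y0 hy0
    have h3 : b • y0 ≠ y0 := by
      intro h4
      have h5 := h.free h.zO hb h1 h4
      rw [h5, one_smul] at h2
      exact hz.ne (left_eq_add.mp h2)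
    refine ⟨b • y0 + (z + y0), ?_, ?_, ?_, ?_⟩
    · intro h4
      have h5 := eq_of_add h4
      rw [h5] at hbO
      exact hzy hbO
    · rw [map_add, map_add, hb.2.1, h1, hz.self, zero_add, one_add_one]
    · rw [map_add, map_add, h.far hy0 hbO (Ne.symm h3), h1', hy.self, add_zero, one_add_one]
    · intro h4
      have h5 : b • y0 = z + y0 + r1 := by rw [h4, add_comm (z + y0), add_add_self]
      have h6 : b • b • y0 = y0 := by rw [← mul_smul, hz.sq b hb, one_smul]
      rw [h5, smul_add, smul_add, hb.1, h5, h2] at h6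
      have h7 : z + (z + y0 + r1) + (r1 + z) = y0 + z + (z + z) + (r1 + r1) := by abel
      rw [h7, add_self, add_self, add_zero, add_zero] at h6
      exact hz.ne (add_eq_left.mp h6)
  have hs0 : r1 + r2 ≠ 0 := fun h2 => hr12ne (eq_of_add h2)
  have hs1 : f z (r1 + r2) = 0 := by rw [map_add, hr11, hr21, add_zero]
  have hs2 : f y0 (r1 + r2) = 0 := by rw [map_add, hr12, hr22, add_zero]
  have hRall : ∀ r, f z r = 0 → f y0 r = 0 → r = 0 ∨ r = r1 ∨ r = r2 ∨ r = r1 + r2 := by
    intro r h2 h3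
    by_contra hcon
    push Not at hcon
    obtain ⟨c0, c1, c2, c3⟩ := hcon
    have h4 := f3 r c0 h2 h3 _ hs0 hs1 hs2 c3
    rw [map_add, f3 r c0 h2 h3 _ hr10 hr11 hr12 c1, f3 r c0 h2 h3 _ hr20 hr21 hr22 c2, one_add_one] at h4
    exact one_ne h4.symm
  have hOm : ∀ u ∈ Om, u = z ∨ u = y0 ∨ u = z + y0 + r1 ∨ u = z + y0 + r2 ∨ u = z + y0 + (r1 + r2) := by
    intro u hu
    by_cases c1 : z = u
    · exact Or.inl c1.symm
    by_cases c2 : y0 = u
    · exact Or.inr (Or.inl c2.symm)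
    have h2 : f z (u + (z + y0)) = 0 := by
      rw [map_add, map_add, h.far h.zO hu c1, hz.self, h1, zero_add, one_add_one]
    have h3 : f y0 (u + (z + y0)) = 0 := by
      rw [map_add, map_add, h.far hy0 hu c2, hy.self, h1', add_zero, one_add_one]
    have h4 : ∀ r, u + (z + y0) = r → u = z + y0 + r := by
      intro r hr
      rw [← hr, add_comm (z + y0), add_add_self]
    rcases hRall _ h2 h3 with h5 | h5 | h5 | h5
    · exfalso
      have h6 := h4 0 h5
      rw [add_zero] at h6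
      rw [h6] at hu
      exact hzy hu
    · exact Or.inr (Or.inr (Or.inl (h4 _ h5)))
    · exact Or.inr (Or.inr (Or.inr (Or.inl (h4 _ h5))))
    · exact Or.inr (Or.inr (Or.inr (Or.inr (h4 _ h5))))
  -- inequalities
  have n01 : z ≠ y0 := by
    intro h2
    rw [← h2, hz.self] at h1
    exact one_ne h1.symm
  have nz : ∀ r, f z r = 0 → z ≠ z + y0 + r := by
    intro r hr h2
    have h3 := uz r hr
    rw [← h2, hz.self] at h3
    exact one_ne h3.symm
  have ny : ∀ r, f y0 r = 0 → y0 ≠ z + y0 + r := by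
    intro r hr h2
    have h3 := uy r hr
    rw [← h2, hy.self] at h3
    exact one_ne h3.symm
  have n02 := nz r1 hr11
  have n03 := nz r2 hr21
  have n04 := nz _ hs1
  have n12 := ny r1 hr12
  have n13 := ny r2 hr22
  have n14 := ny _ hs2
  have n23 : z + y0 + r1 ≠ z + y0 + r2 := fun h2 => hr12ne (add_left_cancel h2)
  have n24 : z + y0 + r1 ≠ z + y0 + (r1 + r2) := fun h2 => hr20 (left_eq_add.mp (add_left_cancel h2))
  have n34 : z + y0 + r2 ≠ z + y0 + (r1 + r2) := fun h2 => hr10 (right_eq_add.mp (add_left_cancel h2))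
  refine ⟨![z, y0, z + y0 + r1, z + y0 + r2, z + y0 + (r1 + r2)], ?_, rfl, ?_, ?_, ?_⟩
  · intro i j hij
    fin_cases i <;> fin_cases j <;> first
      | rfl
      | exact absurd hij n01
      | exact absurd hij n02
      | exact absurd hij n03
      | exact absurd hij n04
      | exact absurd hij n12
      | exact absurd hij n13
      | exact absurd hij n14
      | exact absurd hij n23
      | exact absurd hij n24
      | exact absurd hij n34
      | exact absurd hij.symm n01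
      | exact absurd hij.symm n02
      | exact absurd hij.symm n03
      | exact absurd hij.symm n04
      | exact absurd hij.symm n12
      | exact absurd hij.symm n13
      | exact absurd hij.symm n14
      | exact absurd hij.symm n23
      | exact absurd hij.symm n24
      | exact absurd hij.symm n34
  · ext u
    constructor
    · rintro ⟨i, rfl⟩
      fin_cases i
      · exact h.zO
      · exact hy0
      · exact hR _ hr10 hr11 hr12
      · exact hR _ hr20 hr21 hr22
      · exact hR _ hs0 hs1 hs2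
    · intro hu
      rcases hOm u hu with h2 | h2 | h2 | h2 | h2
      · exact ⟨0, h2.symm⟩
      · exact ⟨1, h2.symm⟩
      · exact ⟨2, h2.symm⟩
      · exact ⟨3, h2.symm⟩
      · exact ⟨4, h2.symm⟩
  · rw [Fin.sum_univ_five]
    change z + y0 + (z + y0 + r1) + (z + y0 + r2) + (z + y0 + (r1 + r2)) = 0
    have h2 : z + y0 + (z + y0 + r1) + (z + y0 + r2) + (z + y0 + (r1 + r2)) =
      (z + z) + (z + z) + (y0 + y0) + (y0 + y0) + (r1 + r1) + (r2 + r2) := by abel
    rw [h2]
    simp only [add_self]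
  · classical
    have h2 := card_two hz.nz hy.nz (fun h3 => by
      rw [h3, hy.self] at h1
      exact one_ne h1.symm) (LinearMap.ker (f z) ⊓ LinearMap.ker (f y0)) (fun u => by
        rw [Submodule.mem_inf, LinearMap.mem_ker, LinearMap.mem_ker])
    have h3 : ((LinearMap.ker (f z) ⊓ LinearMap.ker (f y0) : Submodule (ZMod 2) V) : Set V) =
        (({0, r1, r2, r1 + r2} : Finset V) : Set V) := by
      ext u
      simp only [Finset.coe_insert, Finset.coe_singleton, Set.mem_insert_iff, Set.mem_singleton_iff,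
        SetLike.mem_coe, Submodule.mem_inf, LinearMap.mem_ker]
      constructor
      · rintro ⟨h3, h4⟩
        exact hRall u h3 h4
      · rintro (rfl | rfl | rfl | rfl)
        · exact ⟨map_zero _, map_zero _⟩
        · exact ⟨hr11, hr12⟩
        · exact ⟨hr21, hr22⟩
        · exact ⟨hs1, hs2⟩
    have h4 : Nat.card (LinearMap.ker (f z) ⊓ LinearMap.ker (f y0) : Submodule (ZMod 2) V) =
        (({0, r1, r2, r1 + r2} : Finset V) : Set V).ncard := by
      rw [← h3]
      rfl
    have h5 : r1 ≠ r1 + r2 := fun h6 => hr20 (left_eq_add.mp h6)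
    have h7 : r2 ≠ r1 + r2 := fun h6 => hr10 (right_eq_add.mp h6)
    rw [h2, h4, Set.ncard_coe_finset, Finset.card_insert_of_notMem, Finset.card_insert_of_notMem,
      Finset.card_insert_of_notMem, Finset.card_singleton]
    · simp only [Finset.mem_singleton]
      exact h7
    · simp only [Finset.mem_insert, Finset.mem_singleton, not_or]
      exact ⟨hr12ne, h5⟩
    · simp only [Finset.mem_insert, Finset.mem_singleton, not_or]
      exact ⟨hr10.symm, hr20.symm, hs0.symm⟩

/-- a double transposition -/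
theorem dbl [Finite Y] [Finite V] (h : Geo Y V T U z Om f) {w : Fin 5 → V} (hw : Function.Injective w)
    (hr : Set.range w = Om) :
    ∃ b : Y, b • w 2 = w 2 ∧ b • w 0 = w 4 ∧ b • w 4 = w 0 ∧ b • w 1 = w 3 ∧ b • w 3 = w 1 := by
  have hO : ∀ i, w i ∈ Om := fun i => by
    rw [← hr]
    exact ⟨i, rfl⟩
  have hf : ∀ i j, i ≠ j → f (w i) (w j) = 1 := fun i j hij => h.far (hO i) (hO j) (fun h1 => hij (hw h1))
  obtain ⟨b, hb, c, h1⟩ := h.hit (hO 2) (hf 2 0 (by decide)) (hf 2 4 (by decide))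
  have hc : c = 0 := by
    refine eq_zero_of_ne fun hc => ?_
    rw [hc, one_smul] at h1
    have h2 : w 4 + w 2 ∈ Om := by
      rw [h1, add_add_self]
      exact h.smul b _ (hO 0)
    have h3 := h.nh (hO 2) (hO 4) h2
    rw [hf 2 4 (by decide)] at h3
    exact one_ne h3
  rw [hc, zero_smul, add_zero] at h1
  have hbb : ∀ v : V, b • b • v = v := fun v => by
    rw [← mul_smul, (h.pnt _ (hO 2)).sq b hb, one_smul]
  have h4 : b • w 4 = w 0 := by rw [h1, hbb]
  have hinj : ∀ i j, b • w i = b • w j → i = j := by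
    intro i j h2
    apply hw
    rw [← hbb (w i), h2, hbb]
  obtain ⟨j, hj⟩ : b • w 1 ∈ Set.range w := by
    rw [hr]
    exact h.smul b _ (hO 1)
  have h3 : b • w 1 = w 3 := by
    fin_cases j
    · exfalso
      have h5 := hinj 1 4 (by rw [← hj, h4]; rfl)
      exact absurd h5 (by decide)
    · exfalso
      have h5 := h.free (hO 2) hb (hf 2 1 (by decide)) hj.symm
      rw [h5, one_smul] at h1
      exact absurd (hw h1) (by decide)
    · exfalso
      have h5 := hinj 1 2 (by rw [← hj, hb.1]; rfl)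
      exact absurd h5 (by decide)
    · exact hj.symm
    · exfalso
      have h5 := hinj 1 0 (by rw [← hj, ← h1]; rfl)
      exact absurd h5 (by decide)
  exact ⟨b, hb.1, h1.symm, h4, h3, by rw [← h3, hbb]⟩

/-- no transposition -/
theorem no_swap [Finite Y] [Finite V] (h : Geo Y V T U z Om f) {w : Fin 5 → V} (hw : Function.Injective w)
    (hr : Set.range w = Om) : Equiv.swap (0 : Fin 5) 1 ∉ HH Y w := by
  rintro ⟨g, hg⟩
  have hO : ∀ i, w i ∈ Om := fun i => by
    rw [← hr]
    exact ⟨i, rfl⟩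
  have hf : ∀ i j, i ≠ j → f (w i) (w j) = 1 := fun i j hij => h.far (hO i) (hO j) (fun h1 => hij (hw h1))
  have hs : ∀ i, f (w i) (w i) = 0 := fun i => (h.pnt _ (hO i)).self
  refine h.nt g (w 0 + w 1) (f (w 0) + f (w 1)) ⟨?_, ?_, fun v => ?_⟩
  · intro h1
    exact absurd (hw (eq_of_add h1)) (by decide)
  · intro h1
    have h2 : (f (w 0) + f (w 1)) (w 0) = 0 := by rw [h1]; rfl
    rw [LinearMap.add_apply, hs, hf 1 0 (by decide), zero_add] at h2
    exact one_ne h2
  · let L : V →ₗ[ZMod 2] V := LinearMap.id + (f (w 0) + f (w 1)).smulRight (w 0 + w 1)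
    have h1 := h.span (LinearMap.eqLocus (lin g : V →ₗ[ZMod 2] V) L) (by
      intro x hx
      rw [← hr] at hx
      obtain ⟨i, rfl⟩ := hx
      change g • w i = w i + (f (w 0) (w i) + f (w 1) (w i)) • (w 0 + w 1)
      rw [hg]
      have key : ∀ i, i ≠ 0 → i ≠ 1 → w (Equiv.swap (0 : Fin 5) 1 i) =
          w i + (f (w 0) (w i) + f (w 1) (w i)) • (w 0 + w 1) := by
        intro i h0 h1
        rw [Equiv.swap_apply_of_ne_of_ne h0 h1, hf 0 i (Ne.symm h0), hf 1 i (Ne.symm h1), one_add_one, zero_smul,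
          add_zero]
      by_cases c0 : i = 0
      · rw [c0, Equiv.swap_apply_left, hs, hf 1 0 (by decide), zero_add, one_smul, ← add_assoc, add_self, zero_add]
      by_cases c1 : i = 1
      · rw [c1, Equiv.swap_apply_right, hs, hf 0 1 (by decide), add_zero, one_smul, add_comm (w 0), ← add_assoc,
          add_self, zero_add]
      exact key i c0 c1)
    have h2 : v ∈ LinearMap.eqLocus (lin g : V →ₗ[ZMod 2] V) L := by
      rw [h1]
      exact Submodule.mem_top
    exact h2

/-- the double transpositions -/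
theorem dblP [Finite Y] [Finite V] (h : Geo Y V T U z Om f) {w : Fin 5 → V} (hw : Function.Injective w)
    (hr : Set.range w = Om) (c : Equiv.Perm (Fin 5)) :
    c * (Equiv.swap 0 4 * Equiv.swap 1 3) * c⁻¹ ∈ HH Y w := by
  obtain ⟨b, h2, h0, h4, h1, h3⟩ := h.dbl (w := w ∘ c) (hw.comp c.injective) (by
    rw [Set.range_comp, c.range_eq_univ, Set.image_univ, hr])
  refine ⟨b, fun i => ?_⟩
  obtain ⟨j, rfl⟩ := c.surjective i
  have h5 : (c * (Equiv.swap 0 4 * Equiv.swap 1 3) * c⁻¹ : Equiv.Perm (Fin 5)) (c j) =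
      c ((Equiv.swap 0 4 * Equiv.swap 1 3 : Equiv.Perm (Fin 5)) j) := by
    change c ((Equiv.swap 0 4 * Equiv.swap 1 3 : Equiv.Perm (Fin 5)) (c.symm (c j))) = _
    rw [c.symm_apply_apply]
  rw [h5]
  fin_cases j
  · exact h0
  · exact h1
  · exact h2
  · exact h3
  · exact h4

theorem alt_le [Finite Y] [Finite V] (h : Geo Y V T U z Om f) {w : Fin 5 → V} (hw : Function.Injective w)
    (hr : Set.range w = Om) : alternatingGroup (Fin 5) ≤ HH Y w := by
  have hs : IsSimpleGroup (alternatingGroup (Fin 5)) := alternatingGroup.isSimpleGroup (by simp)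
  have hm : Equiv.swap (0 : Fin 5) 4 * Equiv.swap 1 3 ∈ alternatingGroup (Fin 5) :=
    Equiv.Perm.mem_alternatingGroup.2 (by decide)
  have h1 : normalClosure ({⟨_, hm⟩} : Set (alternatingGroup (Fin 5))) = ⊤ := by
    refine (hs.eq_bot_or_eq_top_of_normal _ normalClosure_normal).resolve_left fun h2 => ?_
    have h3 : (⟨_, hm⟩ : alternatingGroup (Fin 5)) ∈ normalClosure ({⟨_, hm⟩} : Set (alternatingGroup (Fin 5))) :=
      subset_normalClosure rfl
    rw [h2, mem_bot] at h3
    have h4 : Equiv.swap (0 : Fin 5) 4 * Equiv.swap 1 3 = 1 := congrArg Subtype.val h3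
    exact absurd h4 (by decide)
  have h2 : normalClosure ({⟨_, hm⟩} : Set (alternatingGroup (Fin 5))) ≤ (HH Y w).subgroupOf _ := by
    rw [normalClosure, closure_le]
    intro x hx
    rw [Group.mem_conjugatesOfSet_iff] at hx
    obtain ⟨y, hy, hyx⟩ := hx
    rw [Set.mem_singleton_iff] at hy
    obtain ⟨c, hc⟩ := isConj_iff.mp hyx
    rw [SetLike.mem_coe, mem_subgroupOf, ← hc, hy]
    exact h.dblP hw hr c
  intro σ hσ
  have h3 : (⟨σ, hσ⟩ : alternatingGroup (Fin 5)) ∈ (HH Y w).subgroupOf (alternatingGroup (Fin 5)) := by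
    apply h2
    rw [h1]
    exact mem_top _
  exact h3

theorem HH_eq [Finite Y] [Finite V] (h : Geo Y V T U z Om f) {w : Fin 5 → V} (hw : Function.Injective w)
    (hr : Set.range w = Om) : HH Y w = alternatingGroup (Fin 5) := by
  refine le_antisymm (fun σ hσ => ?_) (h.alt_le hw hr)
  by_contra h1
  apply h.no_swap hw hr
  have h2 : σ⁻¹ * Equiv.swap 0 1 ∈ alternatingGroup (Fin 5) := by
    rw [Equiv.Perm.mem_alternatingGroup] at h1 ⊢
    rw [map_mul, map_inv, Equiv.Perm.sign_swap (by decide), (Int.units_eq_one_or _).resolve_left h1]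
    decide
  have h3 := mul_mem hσ (h.alt_le hw hr h2)
  rwa [mul_inv_cancel_left] at h3

theorem exists_perm [Finite Y] [Finite V] (h : Geo Y V T U z Om f) {w : Fin 5 → V} (hw : Function.Injective w)
    (hr : Set.range w = Om) (g : Y) : ∃ σ : Equiv.Perm (Fin 5), ∀ i, g • w i = w (σ i) := by
  have h1 : ∀ i, ∃ j, w j = g • w i := by
    intro i
    have h2 : g • w i ∈ Set.range w := by
      rw [hr]
      refine h.smul g _ ?_
      rw [← hr]
      exact ⟨i, rfl⟩
    exact h2
  choose σ hσ using h1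
  have h2 : Function.Injective σ := by
    intro i j hij
    apply hw
    rw [← inv_smul_smul g (w i), ← hσ, hij, hσ, inv_smul_smul]
  exact ⟨Equiv.ofBijective σ (Finite.injective_iff_bijective.mp h2), fun i => (hσ i).symm⟩

end Geo

/-- **THEOREM BT2** (helper318, bb 13091) -/
theorem Hyp.main [Finite Y] [Finite V] {T : Sylow 2 Y} {U : Subgroup Y} {z : V} {φ : Du V} {B : Subgroup Y}
    (h : Hyp Y V T U z φ B) : ∃ w : Fin 5 → V, FivePts Y z w := by
  have hg := h.geo
  obtain ⟨w, h1, h2, h3, h4, h5⟩ := hg.exists_five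
  refine ⟨w, h1, h2, h3, h4, h5, ?_, fun g => ?_, fun σ hσ => ?_⟩
  · refine hg.span _ fun x hx => ?_
    rw [← h3] at hx
    exact Submodule.subset_span hx
  · obtain ⟨σ, hσ⟩ := hg.exists_perm h1 h3 g
    refine ⟨σ, ?_, hσ⟩
    rw [← hg.HH_eq h1 h3]
    exact ⟨g, hσ⟩
  · rw [← hg.HH_eq h1 h3] at hσ
    exact hσ

end Cfsg.Agent.Omega.NearFF

end

section


/-!
# (BT), `|V/E| = 2`: symmetry, the symplectic form, `B ≤ R_x` (project OMEGA, leaf N1)

Texts: helper318 #13635 (T1), (T2), #13823 (c); helper817 #14271 (SYM); referees helper442 #14015,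
helper960 #14056, #14417.

* `NB.t1` : (T1), an element commuting with `B` acts trivially on `E_x/C_V(B)`;
* `Dat.symm_of` : (SYM), `f` is symmetric if `F₀(z) = ⋂ C_V(B) = ⟨z⟩`;
* `Dat.exists_form` : `f` symmetric ⟹ the nondegenerate symplectic form, `B ≤ R_x`, `|R_x| ≥ 4`, (DO): `Sp`;
* `Dat.five` : `F₀(z) = ⟨z⟩` ⟹ `FivePts`.
-/

set_option autoImplicit false
set_option linter.unusedSectionVars false

namespace Cfsg.Agent.Omega.NearFF

open Subgroup Cfsg.Agent.Omega.Transv

variable {Y : Type*} [Group Y] {V : Type*} [AddCommGroup V] [Module (ZMod 2) V] [DistribMulAction Y V]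

namespace NB

variable {φ : Du V} {B : Subgroup Y} (h : NB φ B)
include h

theorem cm_mem {b : Y} (hb : b ∈ B) (v : V) : φ (cm b v) = 0 := by
  rw [cm, map_add, h.inv b hb, add_self]

/-- `C_V(b) ≤ ker φ` for `b ≠ 1` -/
theorem fix {b : Y} (hb : b ∈ B) (h1 : b ≠ 1) {v : V} (hv : b • v = v) : φ v = 0 := by
  refine eq_zero_of_ne fun h2 => h1 (h.inj v h2 b hb ?_)
  rw [cm_eq_zero.2 hv]
  exact Fx.zero B

/-- `[v, b, b] = 0` -/
theorem smul_cm_self {b : Y} (hb : b ∈ B) (v : V) : b • cm b v = cm b v := by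
  rw [cm, smul_add, smul_smul, h.sq b hb, one_smul, add_comm]

/-- **(T1)** -/
theorem t1 (hφ : φ ≠ 0) {a : Y} (hc : ∀ b ∈ B, a * b = b * a) (ha : ∀ v : V, φ (a • v) = φ v) {e : V}
    (he : φ e = 0) : Fx B (cm a e) := by
  obtain ⟨v, hv⟩ := exists_one hφ
  obtain ⟨b, hb, hd⟩ := h.surj v e hv he
  have h1 : Fx B (cm a (cm b v + e)) := by
    intro c hc'
    rw [smul_cm (hc c hc').symm, hd c hc']
  rw [cm_add, cm_comm (hc b hb), add_comm] at h1
  refine h1.of_add (h.ed _ ?_ b hb)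
  rw [cm, map_add, ha, add_self]

/-- the element `b_y` -/
theorem exists_b (hφ : φ ≠ 0) {y : V} (hy : φ y = 0) :
    ∃ b ∈ B, b • y = y ∧ ∃ v d : V, φ v = 1 ∧ Fx B d ∧ y = cm b v + d := by
  obtain ⟨v, hv⟩ := exists_one hφ
  obtain ⟨b, hb, hd⟩ := h.surj v y hv hy
  have h1 : y = cm b v + (cm b v + y) := by
    rw [← add_assoc, add_self, zero_add]
  refine ⟨b, hb, ?_, v, cm b v + y, hv, hd, h1⟩
  conv_lhs => rw [h1, smul_add, h.smul_cm_self hb, hd b hb]
  exact h1.symm

/-- (SYM') `[V, c] ≤ E_y` for `c` fixing `y`; helper817's symmetry argument. -/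
theorem sym_pair (hφ : φ ≠ 0) {ψ : Du V} {x y : V} {a : Y} (ha : a ∈ B)
    (hax : ∀ e : V, φ e = 0 → cm a e = 0 ∨ cm a e = x) (hne : ∃ e : V, cm a e = x) (hy : φ y = 0)
    (hψ : ∀ c : Y, c • y = y → ∀ v : V, ψ (c • v) = ψ v) : ψ x = 0 := by
  have key : ∀ c : Y, c • y = y → ∀ v : V, ψ (cm c v) = 0 := by
    intro c hc v
    rw [cm, map_add, hψ c hc, add_self]
  by_cases hay : a • y = y
  · obtain ⟨e, rfl⟩ := hne
    exact key a hay e
  · obtain ⟨b, hb, hby, v, d, -, hd, h1⟩ := h.exists_b hφ hy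
    have h2 : cm a y = x := (hax y hy).resolve_left fun h0 => hay (cm_eq_zero.1 h0)
    have h3 : x = cm b (cm a v) := by
      rw [← h2, h1, cm_add, cm_comm (h.comm a ha b hb), cm_eq_zero.2 (hd a ha), add_zero]
    rw [h3]
    exact key b hby _

end NB

/-- a nontrivial element acting trivially on `ker φ` is a transvection -/
theorem eq_one_of_hyper (hf : Faith Y V) (nt : NT Y V) {φ : Du V} {a : Y}
    (h : ∀ e : V, φ e = 0 → cm a e = 0) : a = 1 := by
  by_cases hφ : φ = 0
  · refine hf a fun v => cm_eq_zero.1 (h v ?_)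
    rw [hφ]; rfl
  obtain ⟨v, hv⟩ := exists_one hφ
  have h1 : ∀ u : V, a • u = u + φ u • cm a v := by
    intro u
    rcases zmod_cases (φ u) with h2 | h2
    · rw [h2, zero_smul, add_zero]
      exact cm_eq_zero.1 (h u h2)
    · rw [h2, one_smul, smul_eq_add_cm a u]
      congr 1
      have h3 : cm a (u + v) = 0 := h _ (by rw [map_add, h2, hv, one_add_one])
      rw [cm_add] at h3
      exact eq_of_add h3
  by_cases h2 : cm a v = 0
  · refine hf a fun u => ?_
    rw [h1 u, h2, smul_zero, add_zero]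
  · exact absurd ⟨h2, hφ, h1⟩ (nt a (cm a v) φ)

theorem smul_orbit {z x : V} (hx : x ∈ MulAction.orbit Y z) (g : Y) : g • x ∈ MulAction.orbit Y z := by
  obtain ⟨k, rfl⟩ := hx
  exact ⟨g * k, mul_smul g k z⟩

/-- a form vanishing on `ker φ` -/
theorem eq_of_hyper {φ ψ : Du V} (h : ∀ e : V, φ e = 0 → ψ e = 0) : ψ = 0 ∨ ψ = φ := by
  by_cases hφ : φ = 0
  · left
    refine LinearMap.ext fun e => h e ?_
    rw [hφ]; rfl
  obtain ⟨v, hv⟩ := exists_one hφ
  have h1 : ∀ u : V, ψ u = φ u * ψ v := by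
    intro u
    rcases zmod_cases (φ u) with h2 | h2
    · rw [h u h2, h2, zero_mul]
    · have h3 := h (u + v) (by rw [map_add, h2, hv, one_add_one])
      rw [map_add] at h3
      rw [h2, one_mul]
      exact eq_of_add h3
  rcases zmod_cases (ψ v) with h2 | h2
  · left
    refine LinearMap.ext fun u => ?_
    rw [h1, h2, mul_zero]
    rfl
  · right
    refine LinearMap.ext fun u => ?_
    rw [h1, h2, mul_one]

theorem card_ker [Finite V] {χ : Du V} (h : χ ≠ 0) : 2 * Nat.card {u : V // χ u = 0} = Nat.card V := by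
  obtain ⟨w, hw⟩ := exists_one h
  have h4 : Nat.card {u : V // χ u = 0} = Nat.card {u : V // χ u = 1} := by
    refine Nat.card_congr ⟨fun u => ⟨(u : V) + w, by rw [map_add, u.2, hw, zero_add]⟩,
      fun u => ⟨(u : V) + w, by rw [map_add, u.2, hw, one_add_one]⟩, fun u => ?_, fun u => ?_⟩
    · exact Subtype.ext (add_add_self _ _)
    · exact Subtype.ext (add_add_self _ _)
  rw [h4, card_hyper h]

section KK

variable {φ : Du V} {x : V}

/-- the group `R_x` is elementary abelian -/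
theorem KK_comm (hf : Faith Y V) (nt : NT Y V) {a b : Y} (ha : a ∈ KK Y x φ) (hb : b ∈ KK Y x φ) :
    a * b = b * a := by
  rw [mem_KK_iff] at ha hb
  obtain ⟨ha1, ha2, ha3⟩ := ha
  obtain ⟨hb1, hb2, hb3⟩ := hb
  have h1 : ∀ e : V, φ e = 0 → (a * b) • e = (b * a) • e := by
    intro e he
    have h2 : cm a (cm b e) = 0 := by
      rcases hb3 e he with h | h
      · rw [h, cm_zero]
      · rw [h, cm_eq_zero, ha1]
    have h3 : cm b (cm a e) = 0 := by
      rcases ha3 e he with h | h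
      · rw [h, cm_zero]
      · rw [h, cm_eq_zero, hb1]
    rw [smul_eq_add_cm (a * b), smul_eq_add_cm (b * a), cm_mul, cm_mul, h2, h3, add_zero, add_zero,
      add_comm (cm b e)]
  have h2 : (b * a)⁻¹ * (a * b) = 1 := by
    refine eq_one_of_hyper hf nt (φ := φ) fun e he => cm_eq_zero.2 ?_
    rw [mul_smul, h1 e he, inv_smul_smul]
  exact (inv_mul_eq_one.mp h2).symm

theorem KK_sq (hf : Faith Y V) (nt : NT Y V) {a : Y} (ha : a ∈ KK Y x φ) : a * a = 1 := by
  rw [mem_KK_iff] at ha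
  obtain ⟨ha1, ha2, ha3⟩ := ha
  refine eq_one_of_hyper hf nt (φ := φ) fun e he => ?_
  rw [cm_mul, add_self, zero_add]
  rcases ha3 e he with h | h
  · rw [h, cm_zero]
  · rw [h, cm_eq_zero, ha1]

end KK

namespace Dat

variable {T : Sylow 2 Y} {M : Subgroup Y} {z : V} {f : V → Du V} {Q : V → Subgroup Y}
  {BB : V → Set (Subgroup Y)} (h : Dat T M z f Q BB)
include h

theorem nt [Finite V] : NT Y V := by
  intro g a χ hg
  have hsq := hg.mul_self h.faith
  have hmem : ∀ b ∈ zpowers g, b = 1 ∨ b = g := by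
    intro b hb
    obtain ⟨n, rfl⟩ := mem_zpowers_iff.1 hb
    rcases Int.even_or_odd' n with ⟨k, hk | hk⟩
    · left
      rw [hk, zpow_mul, zpow_two, hsq, one_zpow]
    · right
      rw [hk, zpow_add, zpow_mul, zpow_two, hsq, one_zpow, one_mul, zpow_one]
  have h1 := h.noff (zpowers g) (fun h0 => hg.ne_one (zpowers_eq_bot.1 h0))
    (fun a ha b hb => by
      rcases hmem a ha with rfl | rfl <;> rcases hmem b hb with rfl | rfl <;> simp)
    (fun a ha => by
      rcases hmem a ha with rfl | rfl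
      · exact one_mul 1
      · exact hsq)
  have h2 : Nat.card (zpowers g) = 2 := by
    rw [Nat.card_zpowers]
    exact orderOf_eq_prime (by rw [pow_two, hsq]) hg.ne_one
  have h3 : Nat.card {v : V // Fx (zpowers g) v} = Nat.card {u : V // χ u = 0} := by
    refine Nat.card_congr (Equiv.subtypeEquivRight fun v => ?_)
    rw [← hg.fix_iff]
    constructor
    · intro h4
      exact h4 g (mem_zpowers g)
    · intro h4 b hb
      rcases hmem b hb with rfl | rfl
      · exact one_smul Y v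
      · exact h4
  rw [h2, h3, card_ker hg.nz] at h1
  exact lt_irrefl _ h1

theorem f_fix {x : V} (hx : x ∈ MulAction.orbit Y z) {g : Y} (hg : g • x = x) (v : V) :
    f x (g • v) = f x v := by
  have h1 := h.f_smul g x hx
  rw [hg] at h1
  rw [h1, dua_apply, ← h1, inv_smul_smul]

/-- `B ∩ Z(Q_z) ≠ 1` -/
theorem exists_a [Finite Y] {B : Subgroup Y} (hB : B ∈ BB z) : ∃ a ∈ B, a ≠ 1 ∧ ∀ q ∈ Q z, a * q = q * a := by
  have hne : ∃ n ∈ B, n ∉ (⊥ : Subgroup Y) := by
    by_contra hc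
    push Not at hc
    exact (h.bb B hB).ne ((eq_bot_iff_forall B).2 fun x hx => mem_bot.1 (hc x hx))
  obtain ⟨n, hn, hn1, hn2⟩ := GTwoFour.Tools.exists_fixed_mod (M := ⊥) h.q_two (h.bb_le B hB)
    (fun y hy n hn => h.bb_norm B hB y hy n hn)
    (fun y _ m hm => by
      rw [mem_bot] at hm ⊢
      rw [hm, mul_one, mul_inv_cancel]) hne
  refine ⟨n, hn, fun h0 => hn1 (mem_bot.2 h0), fun q hq => ?_⟩
  have h3 := hn2 q hq
  rw [mem_bot, commutatorElement_eq_one_iff_mul_comm] at h3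
  exact h3.symm

/-- (SYM) at the base point -/
theorem symm_z [Finite Y] [Finite V] (hF : ∀ v : V, (∀ B ∈ BB z, Fx B v) → v = 0 ∨ v = z) {y : V}
    (hy : y ∈ MulAction.orbit Y z) (hzy : f z y = 0) : f y z = 0 := by
  obtain ⟨B, hB⟩ := h.bb_ne
  have hb := h.bb B hB
  obtain ⟨a, ha, ha1, hac⟩ := h.exists_a hB
  have hax : ∀ e : V, f z e = 0 → cm a e = 0 ∨ cm a e = z := by
    intro e he
    refine hF _ fun B' hB' => ?_
    exact (h.bb B' hB').t1 h.f_ne (fun b hb' => hac b (h.bb_le B' hB' hb')) (hb.inv a ha) he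
  refine hb.sym_pair h.f_ne ha hax ?_ hzy fun c hc => h.f_fix hy hc
  by_contra hc
  push Not at hc
  exact ha1 (eq_one_of_hyper h.faith h.nt (φ := f z) fun e he => (hax e he).resolve_right (hc e))

/-- symmetry from the base point -/
theorem symm_of_z (hS : ∀ y ∈ MulAction.orbit Y z, f z y = 0 → f y z = 0) {x y : V}
    (hx : x ∈ MulAction.orbit Y z) (hy : y ∈ MulAction.orbit Y z) : f x y = f y x := by
  have key : ∀ x ∈ MulAction.orbit Y z, ∀ y ∈ MulAction.orbit Y z, f x y = 0 → f y x = 0 := by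
    rintro _ ⟨g, rfl⟩ y hy hxy
    change f y (g • z) = 0
    have h1 : f (g • z) y = f z (g⁻¹ • y) := by
      rw [h.f_smul g z (MulAction.mem_orbit_self z), dua_apply]
    have hy' : g⁻¹ • y ∈ MulAction.orbit Y z := smul_orbit hy g⁻¹
    have h2 := hS _ hy' (h1 ▸ hxy)
    have h3 := h.f_smul g _ hy'
    rw [smul_inv_smul] at h3
    rw [h3, dua_apply, inv_smul_smul]
    exact h2
  rcases zmod_cases (f x y) with h1 | h1
  · rw [h1, key x hx y hy h1]
  · rcases zmod_cases (f y x) with h2 | h2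
    · rw [key y hy x hx h2] at h1
      exact absurd h1 zero_ne_one'
    · rw [h1, h2]

/-- **(SYM)** `f` is symmetric if `F₀(z) = ⟨z⟩` -/
theorem symm_of [Finite Y] [Finite V] (hF : ∀ v : V, (∀ B ∈ BB z, Fx B v) → v = 0 ∨ v = z) {x y : V}
    (hx : x ∈ MulAction.orbit Y z) (hy : y ∈ MulAction.orbit Y z) : f x y = f y x :=
  h.symm_of_z (fun _ hy hzy => h.symm_z hF hy hzy) hx hy

/-- **(T2)**: `f` is symmetric if every point of `E_z` is fixed by some `1 ≠ a ∈ R_z` -/
theorem symm_of_R [Finite V]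
    (hR : ∀ y ∈ MulAction.orbit Y z, f z y = 0 → ∃ a ∈ KK Y z (f z), a ≠ 1 ∧ a • y = y) {x y : V}
    (hx : x ∈ MulAction.orbit Y z) (hy : y ∈ MulAction.orbit Y z) : f x y = f y x := by
  refine h.symm_of_z (fun y hy hzy => ?_) hx hy
  obtain ⟨a, ha, ha1, hay⟩ := hR y hy hzy
  obtain ⟨e, he, hae⟩ : ∃ e : V, f z e = 0 ∧ cm a e = z := by
    by_contra hc
    push Not at hc
    exact ha1 (eq_one_of_hyper h.faith h.nt (φ := f z) fun e he =>
      ((mem_KK_iff.1 ha).2.2 e he).resolve_right (hc e he))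
  rw [← hae, cm, map_add, h.f_fix hy hay, add_self]

/-- **(T2)**: `f` is symmetric if `|R_z| ≥ 4` (`≥ 3`) -/
theorem symm_of_card [Finite Y] [Finite V] (hR : 3 ≤ Nat.card (KK Y z (f z))) {x y : V}
    (hx : x ∈ MulAction.orbit Y z) (hy : y ∈ MulAction.orbit Y z) : f x y = f y x := by
  classical
  refine h.symm_of_R (fun y hy hzy => ?_) hx hy
  by_contra hc
  push Not at hc
  have hnt := h.nt
  have h1 : ∀ a ∈ KK Y z (f z), a ≠ 1 → cm a y = z := fun a ha ha1 =>
    ((mem_KK_iff.1 ha).2.2 y hzy).resolve_left fun h0 => hc a ha ha1 (cm_eq_zero.1 h0)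
  have h2 : ∀ a ∈ KK Y z (f z), a ≠ 1 → ∀ b ∈ KK Y z (f z), b ≠ 1 → a = b := by
    intro a ha ha1 b hb hb1
    by_contra hab
    have h3 : a * b ≠ 1 := by
      intro h0
      apply hab
      rw [eq_inv_of_mul_eq_one_left h0, inv_eq_of_mul_eq_one_left (KK_sq h.faith hnt hb)]
    refine hc _ (mul_mem ha hb) h3 (cm_eq_zero.1 ?_)
    rw [cm_mul, h1 a ha ha1, h1 b hb hb1, add_self, zero_add, cm_eq_zero]
    exact ha.1
  by_cases hb : ∃ b ∈ KK Y z (f z), b ≠ 1
  · obtain ⟨b, hb, hb1⟩ := hb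
    have hf : Function.Injective (fun a : KK Y z (f z) => if (a : Y) = 1 then (0 : Fin 2) else 1) := by
      intro a c hac
      by_cases ha : (a : Y) = 1
      · by_cases hc' : (c : Y) = 1
        · exact Subtype.ext (ha.trans hc'.symm)
        · simp [ha, hc'] at hac
      · by_cases hc' : (c : Y) = 1
        · simp [ha, hc'] at hac
        · exact Subtype.ext (h2 a a.2 ha c c.2 hc')
    have h3 := Nat.card_le_card_of_injective _ hf
    rw [Nat.card_fin] at h3
    omega
  · push Not at hb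
    have h3 : KK Y z (f z) = ⊥ := (eq_bot_iff_forall _).2 hb
    rw [h3, card_bot] at hR
    omega

/-- induction on `V = ⟨Ω⟩` -/
theorem induct {p : V → Prop} (h0 : p 0) (ho : ∀ x ∈ MulAction.orbit Y z, p x)
    (ha : ∀ v w, p v → p w → p (v + w)) (v : V) : p v := by
  have h1 : v ∈ Submodule.span (ZMod 2) (Set.range fun g : Y => g • z) := by
    rw [h.span]; trivial
  induction h1 using Submodule.span_induction with
  | mem x hx => exact ho x hx
  | zero => exact h0
  | add v w _ _ hv hw => exact ha v w hv hw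
  | smul c v _ hv =>
    rcases zmod_cases c with hc | hc
    · rw [hc, zero_smul]; exact h0
    · rw [hc, one_smul]; exact hv

/-- the form -/
theorem exists_lin (hs : ∀ x ∈ MulAction.orbit Y z, ∀ y ∈ MulAction.orbit Y z, f x y = f y x) :
    ∃ β : V →ₗ[ZMod 2] Du V, ∀ x ∈ MulAction.orbit Y z, β x = f x := by
  classical
  let Γ : Submodule (ZMod 2) (V × Du V) :=
    Submodule.span (ZMod 2) {p | ∃ x ∈ MulAction.orbit Y z, p = (x, f x)}
  have hΓ : ∀ p ∈ Γ, ∀ y ∈ MulAction.orbit Y z, p.2 y = f y p.1 := by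
    intro p hp y hy
    induction hp using Submodule.span_induction with
    | mem p hp =>
      obtain ⟨x, hx, rfl⟩ := hp
      exact hs x hx y hy
    | zero => simp
    | add p q _ _ hp hq =>
      rw [Prod.snd_add, Prod.fst_add, LinearMap.add_apply, map_add, hp, hq]
    | smul c p _ hp =>
      rw [Prod.smul_snd, Prod.smul_fst, LinearMap.smul_apply, map_smul, hp]
  have hex : ∀ v : V, ∃ φ : Du V, (v, φ) ∈ Γ := by
    intro v
    refine h.induct (p := fun v => ∃ φ : Du V, (v, φ) ∈ Γ) ⟨0, Γ.zero_mem⟩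
      (fun x hx => ⟨f x, Submodule.subset_span ⟨x, hx, rfl⟩⟩) ?_ v
    rintro v w ⟨φ, hφ⟩ ⟨ψ, hψ⟩
    exact ⟨φ + ψ, Γ.add_mem hφ hψ⟩
  have huniq : ∀ (v : V) (φ ψ : Du V), (v, φ) ∈ Γ → (v, ψ) ∈ Γ → φ = ψ := by
    intro v φ ψ hφ hψ
    refine LinearMap.ext fun w => ?_
    refine h.induct (p := fun w => φ w = ψ w) (by rw [map_zero, map_zero]) ?_ ?_ w
    · intro y hy
      have h1 := hΓ _ hφ y hy
      have h2 := hΓ _ hψ y hy
      exact h1.trans h2.symm
    · intro a b ha hb
      rw [map_add, map_add, ha, hb]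
  choose g hg using hex
  refine ⟨{ toFun := g, map_add' := fun v w => ?_, map_smul' := fun c v => ?_ }, fun x hx => ?_⟩
  · exact huniq (v + w) _ _ (hg _) (Γ.add_mem (hg v) (hg w))
  · exact huniq (c • v) _ _ (hg _) (Γ.smul_mem c (hg v))
  · exact huniq x _ _ (hg x) (Submodule.subset_span ⟨x, hx, rfl⟩)

section form

variable {β : V →ₗ[ZMod 2] Du V} (hs : ∀ x ∈ MulAction.orbit Y z, ∀ y ∈ MulAction.orbit Y z, f x y = f y x)
  (hβ : ∀ x ∈ MulAction.orbit Y z, β x = f x)
include hs hβ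

theorem beta_symm (v w : V) : β v w = β w v := by
  refine h.induct (p := fun v => ∀ w : V, β v w = β w v) ?_ ?_ ?_ v w
  · intro w
    rw [map_zero, map_zero]; rfl
  · intro x hx w
    refine h.induct (p := fun w => β x w = β w x) ?_ ?_ ?_ w
    · rw [map_zero, map_zero]; rfl
    · intro y hy
      rw [hβ x hx, hβ y hy, hs x hx y hy]
    · intro a b ha hb
      rw [map_add, map_add, LinearMap.add_apply, ha, hb]
  · intro a b ha hb w
    rw [map_add, map_add, LinearMap.add_apply, ha, hb]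

omit hs in
theorem beta_inv (g : Y) (v w : V) : β (g • v) (g • w) = β v w := by
  refine h.induct (p := fun v => ∀ w : V, β (g • v) (g • w) = β v w) ?_ ?_ ?_ v w
  · intro w
    rw [smul_zero, map_zero]; rfl
  · intro x hx w
    rw [hβ _ (smul_orbit hx g), h.f_smul g x hx, dua_apply, inv_smul_smul, hβ x hx]
  · intro a b ha hb w
    rw [smul_add, map_add, map_add, LinearMap.add_apply, LinearMap.add_apply, ha, hb]

theorem beta_alt (v : V) : β v v = 0 := by
  refine h.induct (p := fun v => β v v = 0) ?_ ?_ ?_ v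
  · rw [map_zero]
  · rintro _ ⟨g, rfl⟩
    change β (g • z) (g • z) = 0
    rw [h.beta_inv hβ, hβ z (MulAction.mem_orbit_self z), h.f_self]
  · intro a b ha hb
    rw [map_add, map_add, LinearMap.add_apply, LinearMap.add_apply, ha, hb, h.beta_symm hs hβ a b,
      zero_add, add_zero, add_self]

omit hs in
theorem beta_nondeg [Finite Y] [Finite V] (v : V) (hv : β v = 0) : v = 0 := by
  by_contra hne
  have hW : Inv Y (LinearMap.ker β) := by
    intro g w hw
    rw [LinearMap.mem_ker] at hw ⊢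
    refine LinearMap.ext fun u => ?_
    have h1 := h.beta_inv hβ g w (g⁻¹ • u)
    rw [smul_inv_smul] at h1
    rw [h1, hw]
    rfl
  let := subAct hW
  have h1 : (⟨v, hv⟩ : LinearMap.ker β) ≠ 0 := fun h2 => hne (congrArg Subtype.val h2)
  obtain ⟨w0, hw0, hT⟩ := exists_fixed (Q := T) T.isPGroup' h1
  have h2 : (w0 : V) ≠ 0 := fun h3 => hw0 (Subtype.ext h3)
  have h3 := (h.fixT (w0 : V) fun t ht => congrArg Subtype.val (hT ⟨t, ht⟩)).resolve_left h2
  have h4 : β (w0 : V) = 0 := w0.2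
  rw [h3, hβ z (MulAction.mem_orbit_self z)] at h4
  exact h.f_ne h4

omit hs in
theorem beta_adj {g : Y} (hg : g * g = 1) (u w : V) : β (cm g u) w = β u (cm g w) := by
  have h1 := h.beta_inv hβ g (g • u) w
  rw [smul_smul, hg, one_smul] at h1
  rw [cm, cm, map_add, map_add, LinearMap.add_apply, ← h1]

omit hs in
theorem beta_inj [Finite Y] [Finite V] {v w : V} (hv : β v = β w) : v = w := by
  refine eq_of_add (h.beta_nondeg hβ _ ?_)
  rw [map_add, hv]
  exact add_self _

omit hs in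
/-- **(c)**: `[E, B] ≤ ⟨z⟩` -/
theorem cm_eq [Finite Y] [Finite V] {B : Subgroup Y} (hB : B ∈ BB z) {b : Y} (hb : b ∈ B) {e : V}
    (he : f z e = 0) : cm b e = 0 ∨ cm b e = z := by
  have hN := h.bb B hB
  have h1 : ∀ e' : V, f z e' = 0 → β (cm b e) e' = 0 := by
    intro e' he'
    obtain ⟨v, hv⟩ := exists_one h.f_ne
    obtain ⟨b', hb', hd⟩ := hN.surj v e' hv he'
    have h2 : e' = cm b' v + (cm b' v + e') := by
      rw [← add_assoc, add_self, zero_add]
    rw [h2, map_add, ← h.beta_adj hβ (hN.sq b' hb'), cm_eq_zero.2 (hN.ed e he b hb b' hb'), map_zero,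
      h.beta_adj hβ (hN.sq b hb), cm_eq_zero.2 (hd b hb), map_zero, LinearMap.zero_apply, add_zero]
  rcases eq_of_hyper h1 with h2 | h2
  · exact Or.inl (h.beta_nondeg hβ _ h2)
  · right
    rw [← hβ z (MulAction.mem_orbit_self z)] at h2
    exact h.beta_inj hβ h2

omit hs in
/-- **(c)**: `B ≤ R_z` -/
theorem le_KK [Finite Y] [Finite V] {B : Subgroup Y} (hB : B ∈ BB z) : B ≤ KK Y z (f z) := by
  intro b hb
  rw [mem_KK_iff]
  exact ⟨h.q_fix b (h.bb_le B hB hb), (h.bb B hB).inv b hb, fun e he => h.cm_eq hβ hB hb he⟩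

end form

/-- `|B| ≥ 4` -/
theorem four_le [Finite Y] [Finite V] {B : Subgroup Y} (hB : B ∈ BB z) : 4 ≤ Nat.card B := by
  classical
  have hN := h.bb B hB
  obtain ⟨b, hb, hb1⟩ : ∃ b ∈ B, b ≠ 1 := by
    by_contra hc
    push Not at hc
    exact hN.ne ((eq_bot_iff_forall B).2 hc)
  obtain ⟨e, he, hbe⟩ : ∃ e : V, f z e = 0 ∧ cm b e ≠ 0 := by
    by_contra hc
    push Not at hc
    exact hb1 (eq_one_of_hyper h.faith h.nt (φ := f z) hc)
  obtain ⟨v, hv⟩ := exists_one h.f_ne
  obtain ⟨a, ha, hd⟩ := hN.surj v e hv he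
  have h2 : cm b (cm a v) ≠ 0 := by
    intro h0
    apply hbe
    have h3 : e = cm a v + (cm a v + e) := by
      rw [← add_assoc, add_self, zero_add]
    rw [h3, cm_add, h0, cm_eq_zero.2 (hd b hb), add_zero]
  have ha1 : a ≠ 1 := by
    rintro rfl
    exact h2 (by rw [cm_one, cm_zero])
  have hab : a ≠ b := by
    rintro rfl
    exact h2 (cm_eq_zero.2 (hN.smul_cm_self ha v))
  have hab' : a * b ≠ 1 := by
    intro h0
    apply hab
    rw [eq_inv_of_mul_eq_one_left h0, inv_eq_of_mul_eq_one_left (hN.sq b hb)]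
  have hf : Function.Injective (![⟨1, one_mem B⟩, ⟨a, ha⟩, ⟨b, hb⟩, ⟨a * b, mul_mem ha hb⟩] : Fin 4 → B) := by
    intro i j hij
    have hij' := congrArg Subtype.val hij
    fin_cases i <;> fin_cases j <;> simp at hij' ⊢
    all_goals first
      | exact absurd hij'.symm ha1
      | exact absurd hij' ha1
      | exact absurd hij'.symm hb1
      | exact absurd hij' hb1
      | exact absurd hij' hab
      | exact absurd hij'.symm hab
      | exact absurd hij' hab'
      | exact absurd hij'.symm hab'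
  have h5 := Nat.card_le_card_of_injective _ hf
  rwa [Nat.card_fin] at h5

/-- **`f` symmetric ⟹ the symplectic datum `Sp`** (hypotheses of BT4). -/
theorem exists_sp [Finite Y] [Finite V]
    (hs : ∀ x ∈ MulAction.orbit Y z, ∀ y ∈ MulAction.orbit Y z, f x y = f y x) :
    ∃ β : V →ₗ[ZMod 2] Du V, Sp T M z β ∧ ∀ x ∈ MulAction.orbit Y z, β x = f x := by
  obtain ⟨β, hβ⟩ := h.exists_lin hs
  have hz := MulAction.mem_orbit_self (M := Y) z
  obtain ⟨B, hB⟩ := h.bb_ne
  refine ⟨β, ⟨h.faith, h.le, h.ne, h.max, h.z_ne, h.z_fix, h.fixT, h.span, h.noff, h.beta_symm hs hβ,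
    h.beta_alt hs hβ, h.beta_nondeg hβ, h.beta_inv hβ, ?_, ?_⟩, hβ⟩
  · rintro _ ⟨g, rfl⟩
    have h1 : β (g • z) = dua g (β z) := by
      rw [hβ _ (smul_orbit hz g), h.f_smul g z hz, hβ z hz]
    change 4 ≤ Nat.card (KK Y (g • z) (β (g • z)))
    rw [h1, card_KK_conj, hβ z hz]
    exact (h.four_le hB).trans (Nat.card_le_card_of_injective _ (inclusion_injective (h.le_KK hβ hB)))
  · have key : ∀ y ∈ MulAction.orbit Y z, Fx (KK Y z (β z)) y → y = z := by
      intro y hy hfx
      have h1 : Fx B y := fun b hb => hfx b (by rw [hβ z hz]; exact h.le_KK hβ hB hb)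
      have h2 := h.star B hB y hy h1
      rw [← hβ y hy, ← hβ z hz] at h2
      exact h.beta_inj hβ h2
    rintro _ ⟨g, rfl⟩ y hy hfx
    change y = g • z
    have h1 : β (g • z) = dua g (β z) := by
      rw [hβ _ (smul_orbit hz g), h.f_smul g z hz, hβ z hz]
    have h2 : g⁻¹ • y = z := by
      refine key _ (smul_orbit hy g⁻¹) fun b hb => ?_
      have h3 : g * b * g⁻¹ ∈ KK Y (g • z) (β (g • z)) := by
        rw [h1]
        exact conj_mem_KK hb g
      have h4 := hfx _ h3
      rw [mul_smul, mul_smul] at h4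
      rw [eq_inv_smul_iff.mpr h4]
    rw [← h2, smul_inv_smul]

/-- `F₀(z) = ⟨z⟩` ⟹ `[V, R_z] + ⟨z⟩ = E`: the hypotheses of BT2 -/
theorem hyp [Finite Y] [Finite V] (hF : ∀ v : V, (∀ B ∈ BB z, Fx B v) → v = 0 ∨ v = z) :
    Hyp Y V T M z (f z) (KK Y z (f z)) := by
  have hnt := h.nt
  have hz := MulAction.mem_orbit_self (M := Y) z
  have hs := fun x hx y hy => h.symm_of hF (x := x) (y := y) hx hy
  obtain ⟨β, hβ⟩ := h.exists_lin hs
  obtain ⟨v, hv⟩ := exists_one h.f_ne
  refine ⟨h.faith, h.le, h.ne, h.max, h.z_ne, h.z_fix, h.fixT, h.span, h.f_ne, h.f_self,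
    fun g hg => h.f_fix hz hg, fun a ha b hb => KK_comm h.faith hnt ha hb, fun b hb => KK_sq h.faith hnt hb,
    fun b hb => hb.2.1, fun b hb => hb.2.2, ?_, hnt, ?_⟩
  · -- the subspace `[v, R_z] + ⟨z⟩`
    let W : Submodule (ZMod 2) V :=
      { carrier := {w | ∃ a ∈ KK Y z (f z), w = cm a v ∨ w = cm a v + z}
        zero_mem' := ⟨1, one_mem _, Or.inl (cm_one v).symm⟩
        add_mem' := by
          rintro w w' ⟨a, ha, hw⟩ ⟨b, hb, hw'⟩
          have h1 : cm a (cm b v) = 0 ∨ cm a (cm b v) = z := by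
            refine (mem_KK_iff.1 ha).2.2 _ ?_
            rw [cm, map_add, hb.2.1, add_self]
          have h2 := cm_mul a b v
          refine ⟨a * b, mul_mem ha hb, ?_⟩
          rw [h2]
          have h3 : z + z = 0 := add_self z
          rcases h1 with h1 | h1 <;> rcases hw with rfl | rfl <;> rcases hw' with rfl | rfl <;>
            rw [h1]
          · left; abel
          · right; abel
          · right; abel
          · left
            have : cm a v + z + (cm b v + z) = cm a v + cm b v + (z + z) := by abel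
            rw [this, h3]
          · right
            have : cm a v + cm b v + z + z = cm a v + cm b v + (z + z) := by abel
            rw [this, h3, add_zero]
          · left; abel
          · left; abel
          · right
            have : cm a v + z + (cm b v + z) = cm a v + cm b v + z + z := by abel
            rw [this]
        smul_mem' := by
          rintro c w ⟨a, ha, hw⟩
          rcases zmod_cases c with hc | hc
          · exact ⟨1, one_mem _, Or.inl (by rw [hc, zero_smul, cm_one])⟩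
          · exact ⟨a, ha, by rw [hc, one_smul]; exact hw⟩ }
    have hWE : ∀ e : V, f z e = 0 → e ∈ W := by
      intro e he
      by_contra hcon
      obtain ⟨ψ, hψ, hψW⟩ := Submodule.exists_le_ker_of_notMem hcon
      obtain ⟨u, rfl⟩ : ∃ u, β u = ψ := by
        have h1 : Function.Injective β := fun a b hab => h.beta_inj hβ hab
        have h2 : Function.Surjective β :=
          (LinearMap.injective_iff_surjective_of_finrank_eq_finrank
            (Subspace.dual_finrank_eq (K := ZMod 2) (V := V)).symm).1 h1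
        exact h2 ψ
      have hperp : ∀ w ∈ W, β u w = 0 := fun w hw => hψW hw
      have hzW : β u z = 0 := hperp z ⟨1, one_mem _, Or.inr (by rw [cm_one, zero_add])⟩
      have huE : f z u = 0 := by
        rw [← hβ z hz, h.beta_symm hs hβ]
        exact hzW
      have h1 : u = 0 ∨ u = z := by
        refine hF u fun B hB b hb => ?_
        have hbK := h.le_KK hβ hB hb
        have h2 : β (cm b u) v = 0 := by
          rw [h.beta_adj hβ ((h.bb B hB).sq b hb)]
          exact hperp _ ⟨b, hbK, Or.inl rfl⟩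
        rcases h.cm_eq hβ hB hb huE with h3 | h3
        · exact cm_eq_zero.1 h3
        · rw [h3, hβ z hz, hv] at h2
          exact absurd h2 one_ne
      rcases h1 with rfl | rfl
      · exact hψ (by rw [map_zero]; rfl)
      · exact hψ (by rw [hβ u hz]; exact he)
    let F : KK Y z (f z) × ZMod 2 → {u : V // f z u = 0} := fun p =>
      ⟨cm (p.1 : Y) v + p.2 • z, by
        rw [map_add, map_smul, h.f_self, smul_zero, add_zero, cm, map_add, p.1.2.2.1, add_self]⟩
    have hF1 : Function.Injective F := by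
      rintro ⟨⟨a, ha⟩, c⟩ ⟨⟨b, hb⟩, d⟩ hab
      have h1 : cm a v + c • z = cm b v + d • z := congrArg Subtype.val hab
      have h2 : cm (a * b) v + cm a (cm b v) = (c + d) • z := by
        have h3 : cm a v = cm b v + d • z + c • z := by
          rw [← h1, add_add_self]
        rw [cm_mul, add_add_self, h3, add_smul]
        have h4 : cm b v + d • z + c • z + cm b v = c • z + d • z + (cm b v + cm b v) := by abel
        rw [h4, add_self, add_zero]
      have hz2 : ∀ c : ZMod 2, c • z = 0 ∨ c • z = z := by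
        intro c
        rcases zmod_cases c with hc | hc
        · left; rw [hc, zero_smul]
        · right; rw [hc, one_smul]
      have hbE : f z (cm b v) = 0 := by rw [cm, map_add, hb.2.1, add_self]
      have habK : a * b ∈ KK Y z (f z) := mul_mem ha hb
      have h3 : cm (a * b) v = 0 ∨ cm (a * b) v = z := by
        have h4 : cm (a * b) v = (c + d) • z + cm a (cm b v) := by
          rw [← h2, add_add_self]
        rw [h4]
        rcases hz2 (c + d) with h5 | h5 <;> rcases (mem_KK_iff.1 ha).2.2 _ hbE with h6 | h6 <;>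
          rw [h5, h6]
        · left; rw [add_zero]
        · right; rw [zero_add]
        · right; rw [add_zero]
        · left; exact add_self z
      have h4 : a * b = 1 := by
        refine eq_one_of h.faith hnt h.z_ne fun u => ?_
        rcases zmod_cases (f z u) with h5 | h5
        · exact habK.2.2 u h5
        · have h6 : f z (u + v) = 0 := by rw [map_add, h5, hv, one_add_one]
          have h7 : cm (a * b) u = cm (a * b) (u + v) + cm (a * b) v := by
            rw [cm_add, add_add_self]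
          have h8 : cm (a * b) u = 0 ∨ cm (a * b) u = z := by
            rw [h7]
            rcases (mem_KK_iff.1 habK).2.2 _ h6 with h9 | h9 <;> rcases h3 with h10 | h10 <;>
              rw [h9, h10]
            · left; rw [add_zero]
            · right; rw [zero_add]
            · right; rw [add_zero]
            · left; exact add_self z
          rcases h8 with h9 | h9
          · left; exact cm_eq_zero.1 h9
          · right; rw [smul_eq_add_cm, h9]
      have h5 : a = b := by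
        rw [eq_inv_of_mul_eq_one_left h4, inv_eq_of_mul_eq_one_left (KK_sq h.faith hnt hb)]
      subst h5
      have h6 : c • z = d • z := add_left_cancel h1
      have h7 : c = d := by
        by_contra hcd
        have h8 : (c - d) • z = 0 := by rw [sub_smul, h6, sub_self]
        rw [eq_one_of_ne (sub_ne_zero.2 hcd), one_smul] at h8
        exact h.z_ne h8
      subst h7
      rfl
    have hF2 : Function.Surjective F := by
      rintro ⟨e, he⟩
      obtain ⟨a, ha, hw | hw⟩ := hWE e he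
      · refine ⟨⟨⟨a, ha⟩, 0⟩, Subtype.ext ?_⟩
        change cm a v + (0 : ZMod 2) • z = e
        rw [zero_smul, add_zero, hw]
      · refine ⟨⟨⟨a, ha⟩, 1⟩, Subtype.ext ?_⟩
        change cm a v + (1 : ZMod 2) • z = e
        rw [one_smul, hw]
    have h1 := Nat.card_congr (Equiv.ofBijective F ⟨hF1, hF2⟩)
    rw [Nat.card_prod, Nat.card_zmod] at h1
    have h2 := card_ker h.f_ne
    omega
  · intro A hA hsq hcard
    have h1 := h.noff A (fun h0 => by rw [h0, card_bot] at hA; omega) (fun a ha b hb => by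
      have h1 := hsq _ (mul_mem ha hb)
      rw [eq_inv_of_mul_eq_one_left h1, mul_inv_rev, inv_eq_of_mul_eq_one_left (hsq a ha),
        inv_eq_of_mul_eq_one_left (hsq b hb)]) hsq
    rw [hA, hcard] at h1
    exact lt_irrefl _ h1

/-- **`F₀(z) = ⟨z⟩` ⟹ the five points** -/
theorem five [Finite Y] [Finite V] (hF : ∀ v : V, (∀ B ∈ BB z, Fx B v) → v = 0 ∨ v = z) :
    ∃ w : Fin 5 → V, FivePts Y z w := (h.hyp hF).main

end Dat

end Cfsg.Agent.Omega.NearFF

end

section


/-!
# (BT), `|V/E| = 2`: the KEY LEMMA of helper620 (#16277) (project OMEGA, leaf N1)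

`β(b, a) = [v, b, a]` (`v ∉ E_z`).  `A ⊆ B` is good if for all `b ∈ B` either `β(b, A) = 0` or
`β(B, A) ≤ ⟨β(b, A)⟩`.

* `Dat.symm_of_good` : (C4), a good `A ≠ 1` ⟹ `f` is symmetric;
* `Dat.symm_of_two` : KEY LEMMA, `|[E, b]| = 2` for some `b ∈ B ∈ BB z` ⟹ `f` is symmetric.
-/

set_option autoImplicit false
set_option linter.unusedSectionVars false

namespace Cfsg.Agent.Omega.NearFF

open Subgroup Cfsg.Agent.Omega.Transv

variable {Y : Type*} [Group Y] {V : Type*} [AddCommGroup V] [Module (ZMod 2) V] [DistribMulAction Y V]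

/-- `A ⊆ B` is good -/
structure Good (φ : Du V) (B : Subgroup Y) (A : Set Y) : Prop where
  sub : ∀ a ∈ A, a ∈ B
  good : ∀ v : V, φ v = 1 → ∀ b ∈ B, (∀ a ∈ A, cm a (cm b v) = 0) ∨
    ∀ a ∈ A, ∀ b' ∈ B, cm a (cm b' v) ∈ Submodule.span (ZMod 2) {w : V | ∃ a' ∈ A, w = cm a' (cm b v)}

theorem smul_cm_inv (g b : Y) (v : V) : cm (g * b * g⁻¹) v = g • cm b (g⁻¹ • v) := by
  rw [smul_cm_conj, smul_inv_smul]

theorem Good.conj {φ : Du V} {B : Subgroup Y} {A : Set Y} (h : Good φ B A) {g : Y}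
    (hg : ∀ v : V, φ (g • v) = φ v) :
    Good φ (B.map (MulAut.conj g).toMonoidHom) ((fun a => g * a * g⁻¹) '' A) where
  sub := by
    rintro _ ⟨a, ha, rfl⟩
    exact ⟨a, h.sub a ha, rfl⟩
  good := by
    intro v hv b hb
    obtain ⟨b0, hb0, hbb⟩ := hb
    obtain rfl : g * b0 * g⁻¹ = b := hbb
    have hv' : φ (g⁻¹ • v) = 1 := by rw [← hg, smul_inv_smul, hv]
    have key : ∀ a c : Y, cm (g * a * g⁻¹) (cm (g * c * g⁻¹) v) = g • cm a (cm c (g⁻¹ • v)) := by
      intro a c
      rw [smul_cm_inv g c, ← smul_cm_conj]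
    rcases h.good _ hv' b0 hb0 with h1 | h1
    · left
      rintro _ ⟨a, ha, rfl⟩
      change cm (g * a * g⁻¹) (cm (g * b0 * g⁻¹) v) = 0
      rw [key, h1 a ha, smul_zero]
    · right
      rintro _ ⟨a, ha, rfl⟩ b' hb'
      obtain ⟨b1, hb1, hbb'⟩ := hb'
      obtain rfl : g * b1 * g⁻¹ = b' := hbb'
      change cm (g * a * g⁻¹) (cm (g * b1 * g⁻¹) v) ∈ _
      rw [key]
      have h2 : Submodule.span (ZMod 2) {w : V | ∃ a' ∈ A, w = cm a' (cm b0 (g⁻¹ • v))} ≤
          (Submodule.span (ZMod 2) {w : V | ∃ a' ∈ (fun a => g * a * g⁻¹) '' A,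
            w = cm a' (cm (g * b0 * g⁻¹) v)}).comap (lin g) := by
        rw [Submodule.span_le]
        rintro _ ⟨a', ha', rfl⟩
        refine Submodule.subset_span ⟨g * a' * g⁻¹, ⟨a', ha', rfl⟩, ?_⟩
        change g • cm a' (cm b0 (g⁻¹ • v)) = _
        rw [key]
      exact h2 (h1 a ha b1 hb1)

/-- `f_y` vanishes on `β(B, A)` -/
theorem NB.good {φ : Du V} {B : Subgroup Y} (h : NB φ B) {A : Set Y} (hA : Good φ B A) {ψ : Du V}
    {y : V} (hy : φ y = 0) (hψ : ∀ c : Y, c • y = y → ∀ v : V, ψ (c • v) = ψ v) {v : V} (hv : φ v = 1)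
    {a b : Y} (ha : a ∈ A) (hb : b ∈ B) : ψ (cm a (cm b v)) = 0 := by
  have key : ∀ c : Y, c • y = y → ∀ v : V, ψ (cm c v) = 0 := by
    intro c hc v
    rw [cm, map_add, hψ c hc, add_self]
  obtain ⟨c, hc, hd⟩ := h.surj v y hv hy
  have h1 : y = cm c v + (cm c v + y) := by
    rw [← add_assoc, add_self, zero_add]
  have hcy : c • y = y := by
    conv_lhs => rw [h1, smul_add, h.smul_cm_self hc, hd c hc]
    exact h1.symm
  rcases hA.good v hv c hc with h2 | h2
  · -- `A` fixes `y`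
    have h3 : a • y = y := by
      rw [← cm_eq_zero, h1, cm_add, h2 a ha, cm_eq_zero.2 (hd a (hA.sub a ha)), add_zero]
    exact key a h3 _
  · have h3 : Submodule.span (ZMod 2) {w : V | ∃ a' ∈ A, w = cm a' (cm c v)} ≤ LinearMap.ker ψ := by
      rw [Submodule.span_le]
      rintro _ ⟨a', ha', rfl⟩
      change ψ (cm a' (cm c v)) = 0
      rw [cm_comm (h.comm a' (hA.sub a' ha') c hc)]
      exact key c hcy _
    exact h3 (h2 a ha b hb)

namespace Dat

variable {T : Sylow 2 Y} {M : Subgroup Y} {z : V} {f : V → Du V} {Q : V → Subgroup Y}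
  {BB : V → Set (Subgroup Y)} (h : Dat T M z f Q BB)
include h

/-- a `T`-invariant subspace `≠ 0` contains `z` -/
theorem z_mem [Finite Y] [Finite V] {W : Submodule (ZMod 2) V} (hW : ∀ t ∈ T, ∀ w ∈ W, t • w ∈ W) {w : V}
    (hw : w ∈ W) (hw0 : w ≠ 0) : z ∈ W := by
  let : DistribMulAction T W :=
    { smul := fun t w => ⟨(t : Y) • (w : V), hW t t.2 w w.2⟩
      one_smul := fun w => Subtype.ext (one_smul Y (w : V))
      mul_smul := fun s t w => Subtype.ext (mul_smul (s : Y) (t : Y) (w : V))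
      smul_zero := fun t => Subtype.ext (smul_zero (t : Y))
      smul_add := fun t v w => Subtype.ext (smul_add (t : Y) (v : V) (w : V)) }
  have h1 : (⟨w, hw⟩ : W) ≠ 0 := fun h2 => hw0 (congrArg Subtype.val h2)
  obtain ⟨w0, hw1, hT⟩ := exists_fixed (Q := T) T.isPGroup' h1
  have h2 : (w0 : V) ≠ 0 := fun h3 => hw1 (Subtype.ext h3)
  have h3 := (h.fixT (w0 : V) fun t ht => congrArg Subtype.val (hT ⟨t, ht⟩)).resolve_left h2
  rw [← h3]
  exact w0.2

/-- **(C4)** of #16277 -/
theorem symm_of_good [Finite Y] [Finite V] {B : Subgroup Y} (hB : B ∈ BB z) {A : Set Y}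
    (hA : Good (f z) B A) {a : Y} (ha : a ∈ A) (ha1 : a ≠ 1) {x y : V}
    (hx : x ∈ MulAction.orbit Y z) (hy : y ∈ MulAction.orbit Y z) : f x y = f y x := by
  refine h.symm_of_z (fun y hy hzy => ?_) hx hy
  have hz := MulAction.mem_orbit_self (M := Y) z
  let W : Submodule (ZMod 2) V := Submodule.span (ZMod 2) {w : V | ∃ B ∈ BB z, ∃ A : Set Y,
    Good (f z) B A ∧ ∃ a ∈ A, ∃ b ∈ B, ∃ v : V, f z v = 1 ∧ w = cm a (cm b v)}
  have hW : ∀ t ∈ T, ∀ w ∈ W, t • w ∈ W := by
    intro t ht w hw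
    have htz : t • z = z := h.z_fix t ht
    have h1 : W ≤ W.comap (lin t) := by
      rw [Submodule.span_le]
      rintro _ ⟨B, hB, A, hA, a, ha, b, hb, v, hv, rfl⟩
      have h2 := h.bb_smul t z hz B hB
      rw [htz] at h2
      refine Submodule.subset_span ⟨_, h2, _, hA.conj (g := t) fun v => h.f_fix hz htz v,
        t * a * t⁻¹, ⟨a, ha, rfl⟩, t * b * t⁻¹, ⟨b, hb, rfl⟩, t • v, ?_, ?_⟩
      · rw [h.f_fix hz htz, hv]
      · change t • cm a (cm b v) = _
        rw [smul_cm_conj, smul_cm_conj]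
    exact h1 hw
  have hker : W ≤ LinearMap.ker (f y) := by
    rw [Submodule.span_le]
    rintro _ ⟨B, hB, A, hA, a, ha, b, hb, v, hv, rfl⟩
    exact (h.bb B hB).good hA hzy (fun c hc => h.f_fix hy hc) hv ha hb
  -- `β(a, B) ≠ 0`
  have hN := h.bb B hB
  obtain ⟨v, hv⟩ := exists_one h.f_ne
  obtain ⟨e, he, hae⟩ : ∃ e : V, f z e = 0 ∧ cm a e ≠ 0 := by
    by_contra hc
    push Not at hc
    exact ha1 (eq_one_of_hyper h.faith h.nt (φ := f z) hc)
  obtain ⟨b, hb, hd⟩ := hN.surj v e hv he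
  have h2 : cm a (cm b v) ≠ 0 := by
    intro h0
    apply hae
    have h3 : e = cm b v + (cm b v + e) := by
      rw [← add_assoc, add_self, zero_add]
    rw [h3, cm_add, h0, cm_eq_zero.2 (hd a (hA.sub a ha)), add_zero]
  exact hker (h.z_mem hW (Submodule.subset_span ⟨B, hB, A, hA, a, ha, b, hb, v, hv, rfl⟩) h2)

/-- **KEY LEMMA** of #16277: `|[E, b]| = 2` for some `1 ≠ b ∈ B` ⟹ `f` symmetric -/
theorem symm_of_two [Finite Y] [Finite V] {B : Subgroup Y} (hB : B ∈ BB z) {b : Y} (hb : b ∈ B)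
    (hb1 : b ≠ 1) {w : V} (hw : ∀ e : V, f z e = 0 → cm b e = 0 ∨ cm b e = w) {x y : V}
    (hx : x ∈ MulAction.orbit Y z) (hy : y ∈ MulAction.orbit Y z) : f x y = f y x := by
  refine h.symm_of_good hB (A := {b}) ⟨?_, ?_⟩ (Set.mem_singleton b) hb1 hx hy
  · rintro a rfl
    exact hb
  · intro v hv c hc
    have hcv : ∀ c ∈ B, cm b (cm c v) = 0 ∨ cm b (cm c v) = w := fun c hc =>
      hw _ ((h.bb B hB).cm_mem hc v)
    rcases hcv c hc with h1 | h1
    · left
      rintro a rfl
      exact h1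
    · right
      rintro a rfl b' hb'
      rcases hcv b' hb' with h2 | h2
      · rw [h2]
        exact Submodule.zero_mem _
      · rw [h2]
        exact Submodule.subset_span ⟨a, Set.mem_singleton a, h1.symm⟩

end Dat

end Cfsg.Agent.Omega.NearFF

end

section


/-!
# (BT), `|V/E| = 2`: (UP) of #14096 (helper620) and #15976 (0) (helper897) (project OMEGA, leaf N1)

* `Dat.stab_le` : `C_Y(f_z) ≤ M`;
* `Dat.fix_f` : `B ∈ BB z` fixes exactly one member of `f^Y`;
* `Dat.up` : `B ∈ BB z` lies in exactly one conjugate of `M`;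
* `Dat.exists_pt` : a 2-group fixing `f_x` fixes some `y ∈ Ω` with `f_y = f_x`;
* `Dat.arrow` : `C_B(f_y) ≠ 1 ⟺` some `y' ∈ Ω ∩ E_z` has `f_{y'} = f_y`.
-/

set_option autoImplicit false
set_option linter.unusedSectionVars false

namespace Cfsg.Agent.Omega.NearFF

open Subgroup Cfsg.Agent.Omega.Transv

variable {Y : Type*} [Group Y] {V : Type*} [AddCommGroup V] [Module (ZMod 2) V] [DistribMulAction Y V]

theorem dua_one (φ : Du V) : dua (1 : Y) φ = φ := by
  ext v
  rw [dua_apply, inv_one, one_smul]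

theorem dua_mul (g k : Y) (φ : Du V) : dua (g * k) φ = dua g (dua k φ) := by
  ext v
  rw [dua_apply, dua_apply, dua_apply, mul_inv_rev, mul_smul]

/-- the stabiliser of a form -/
def stabF (Y : Type*) {V : Type*} [Group Y] [AddCommGroup V] [Module (ZMod 2) V] [DistribMulAction Y V]
    (φ : Du V) : Subgroup Y where
  carrier := {g | dua g φ = φ}
  one_mem' := dua_one φ
  mul_mem' := by
    rintro a b ha hb
    change dua (a * b) φ = φ
    rw [dua_mul, hb, ha]
  inv_mem' := by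
    rintro a ha
    change dua a⁻¹ φ = φ
    conv_lhs => rw [← (show dua a φ = φ from ha), dua_inv]

theorem mem_stabF {φ : Du V} {g : Y} : g ∈ stabF Y φ ↔ dua g φ = φ := Iff.rfl

theorem stabF_apply {φ : Du V} {g : Y} (hg : g ∈ stabF Y φ) (v : V) : φ (g • v) = φ v := by
  have h1 : dua g φ (g • v) = φ (g • v) := by rw [mem_stabF.1 hg]
  rw [dua_apply, inv_smul_smul] at h1
  exact h1.symm

namespace Dat

variable {T : Sylow 2 Y} {M : Subgroup Y} {z : V} {f : V → Du V} {Q : V → Subgroup Y}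
  {BB : V → Set (Subgroup Y)} (h : Dat T M z f Q BB)
include h

theorem f_orbit (g : Y) : f (g • z) = dua g (f z) := h.f_smul g z (MulAction.mem_orbit_self z)

theorem T_le_stab : (T : Subgroup Y) ≤ stabF Y (f z) := by
  intro t ht
  rw [mem_stabF, ← h.f_orbit, h.z_fix t ht]

/-- `C_Y(f_z) ≤ M` -/
theorem stab_le : stabF Y (f z) ≤ M := by
  refine (h.max _ h.T_le_stab).resolve_right fun htop => ?_
  apply h.f_ne
  refine LinearMap.ext fun v => ?_
  refine h.induct (p := fun v => f z v = 0) (map_zero _) ?_ ?_ v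
  · rintro _ ⟨g, rfl⟩
    change f z (g • z) = 0
    rw [stabF_apply (htop ▸ mem_top g), h.f_self]
  · intro a b ha hb
    rw [map_add, ha, hb, add_zero]

/-- a 2-group inside a subgroup over `T` is conjugate there into `T` -/
theorem exists_conj [Finite Y] {K : Subgroup Y} (hK : (T : Subgroup Y) ≤ K) {R : Subgroup Y}
    (hR : IsPGroup 2 R) (hRK : R ≤ K) : ∃ k ∈ K, ∀ r ∈ R, k⁻¹ * r * k ∈ T := by
  have : Fact (Nat.Prime 2) := ⟨Nat.prime_two⟩
  let TK : Sylow 2 K := T.subtype hK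
  have hRK' : IsPGroup 2 (R.subgroupOf K) := hR.comap_of_injective K.subtype Subtype.coe_injective
  obtain ⟨P, hP⟩ := hRK'.exists_le_sylow
  obtain ⟨k, hk⟩ := MulAction.exists_smul_eq K TK P
  refine ⟨k, k.2, fun r hr => ?_⟩
  have h1 : (⟨r, hRK hr⟩ : K) ∈ (P : Subgroup K) := hP hr
  rw [← hk, Sylow.coe_subgroup_smul, Subgroup.mem_pointwise_smul_iff_inv_smul_mem] at h1
  have h2 : ((k⁻¹ * ⟨r, hRK hr⟩ * k : K)) ∈ (TK : Subgroup K) := by
    have h3 : (MulAut.conj k)⁻¹ • (⟨r, hRK hr⟩ : K) = k⁻¹ * ⟨r, hRK hr⟩ * k := by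
      rw [← map_inv, MulAut.smul_def, MulAut.conj_apply, inv_inv]
    rwa [h3] at h1
  exact h2

/-- a 2-group fixing `f (g • z)` fixes some `y ∈ Ω` with `f y = f (g • z)` -/
theorem exists_pt [Finite Y] {R : Subgroup Y} (hR : IsPGroup 2 R) {g : Y}
    (hf : R ≤ stabF Y (f (g • z))) : ∃ k ∈ stabF Y (f (g • z)), Fx R ((k * g) • z) ∧
      f ((k * g) • z) = f (g • z) := by
  let R' : Subgroup Y := R.map (MulAut.conj g⁻¹).toMonoidHom
  have hR' : IsPGroup 2 R' := hR.map _
  have hle : R' ≤ stabF Y (f z) := by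
    rintro _ ⟨r, hr, rfl⟩
    change dua (g⁻¹ * r * g⁻¹⁻¹) (f z) = f z
    rw [inv_inv, dua_mul, dua_mul, ← h.f_orbit, mem_stabF.1 (hf hr), h.f_orbit, dua_inv]
  obtain ⟨k, hk, hkT⟩ := h.exists_conj h.T_le_stab hR' hle
  have hk2 : g * k * g⁻¹ ∈ stabF Y (f (g • z)) := by
    rw [mem_stabF, dua_mul, dua_mul, h.f_orbit, dua_inv, mem_stabF.1 hk]
  refine ⟨g * k * g⁻¹, hk2, fun r hr => ?_, ?_⟩
  · rw [inv_mul_cancel_right]
    have h1 := h.z_fix _ (hkT _ ⟨r, hr, rfl⟩)
    change (k⁻¹ * (g⁻¹ * r * g⁻¹⁻¹) * k) • z = z at h1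
    rw [inv_inv, mul_smul, mul_smul, inv_smul_eq_iff, mul_smul, mul_smul, inv_smul_eq_iff] at h1
    rw [mul_smul]
    exact h1
  · rw [inv_mul_cancel_right, h.f_orbit, dua_mul, mem_stabF.1 hk, ← h.f_orbit]

theorem B_two {B : Subgroup Y} (hB : B ∈ BB z) : IsPGroup 2 B := h.q_two.to_le (h.bb_le B hB)

/-- **(UP)** `B ∈ BB z` fixes exactly one member of `f^Y` -/
theorem fix_f [Finite Y] {B : Subgroup Y} (hB : B ∈ BB z) {g : Y} (hf : B ≤ stabF Y (f (g • z))) :
    f (g • z) = f z := by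
  obtain ⟨k, -, h1, h2⟩ := h.exists_pt (h.B_two hB) hf
  rw [← h2]
  exact h.star B hB _ ⟨k * g, rfl⟩ h1

/-- **(UP)** `B ∈ BB z` lies in exactly one conjugate of `M` -/
theorem up [Finite Y] {B : Subgroup Y} (hB : B ∈ BB z) {g : Y} (hg : ∀ b ∈ B, g⁻¹ * b * g ∈ M) : g ∈ M := by
  let R : Subgroup Y := B.map (MulAut.conj g⁻¹).toMonoidHom
  have hR : IsPGroup 2 R := (h.B_two hB).map _
  have hRM : R ≤ M := by
    rintro _ ⟨b, hb, rfl⟩
    change g⁻¹ * b * g⁻¹⁻¹ ∈ M
    rw [inv_inv]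
    exact hg b hb
  obtain ⟨k, hk, hkT⟩ := h.exists_conj h.le hR hRM
  have h1 : Fx B ((g * k) • z) := by
    intro b hb
    have h2 := h.z_fix _ (hkT _ ⟨b, hb, rfl⟩)
    change (k⁻¹ * (g⁻¹ * b * g⁻¹⁻¹) * k) • z = z at h2
    rw [inv_inv, mul_smul, mul_smul, inv_smul_eq_iff, mul_smul, mul_smul, inv_smul_eq_iff] at h2
    rw [mul_smul]
    exact h2
  have h2 := h.star B hB _ ⟨g * k, rfl⟩ h1
  rw [h.f_orbit] at h2
  have h3 : g * k ∈ M := h.stab_le h2
  exact (mul_mem_cancel_right hk).1 h3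

/-- the members of `BB` at `f^g` -/
theorem bb_fix [Finite Y] {B : Subgroup Y} {k : Y} (hB : B ∈ BB (k • z)) {g : Y}
    (hf : B ≤ stabF Y (f (g • z))) : f (g • z) = f (k • z) := by
  have h1 := h.bb_smul k⁻¹ _ (smul_orbit (MulAction.mem_orbit_self z) k) B hB
  rw [inv_smul_smul] at h1
  have h2 : B.map (MulAut.conj k⁻¹).toMonoidHom ≤ stabF Y (f ((k⁻¹ * g) • z)) := by
    rintro _ ⟨b, hb, rfl⟩
    change dua (k⁻¹ * b * k⁻¹⁻¹) (f ((k⁻¹ * g) • z)) = f ((k⁻¹ * g) • z)
    rw [h.f_orbit, dua_mul k⁻¹ g, dua_mul, dua_mul, dua_inv, ← h.f_orbit, mem_stabF.1 (hf hb)]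
  have h3 := h.fix_f h1 h2
  rw [h.f_orbit, dua_mul, ← h.f_orbit g] at h3
  have h4 : dua k (dua k⁻¹ (f (g • z))) = dua k (f z) := by rw [h3]
  rw [← dua_mul, mul_inv_cancel, dua_one] at h4
  rw [h4, h.f_orbit k]

/-- `C_Y(f_y) ∩ B ≠ 1` for `y ∈ E_z` -/
theorem exists_by [Finite Y] {B : Subgroup Y} (hB : B ∈ BB z) {y : V} (hzy : f z y = 0) :
    ∃ b ∈ B, b ≠ 1 ∧ b • y = y := by
  have hN := h.bb B hB
  by_cases hy : Fx B y
  · have hne : ∃ b ∈ B, b ≠ 1 := by
      by_contra hc
      push Not at hc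
      exact hN.ne ((eq_bot_iff_forall B).2 hc)
    obtain ⟨b, hb, hb1⟩ := hne
    exact ⟨b, hb, hb1, hy b hb⟩
  · obtain ⟨b, hb, hby, v, d, -, hd, h1⟩ := hN.exists_b h.f_ne hzy
    refine ⟨b, hb, ?_, hby⟩
    rintro rfl
    apply hy
    rw [h1, cm_one, zero_add]
    exact hd

/-- **(0)** of #15976 : `C_B(f_y) ≠ 1 ⟺` some `y' ∈ Ω ∩ E_z` has `f_{y'} = f_y` -/
theorem arrow [Finite Y] {B : Subgroup Y} (hB : B ∈ BB z) (g : Y) :
    (∃ b ∈ B, b ≠ 1 ∧ b ∈ stabF Y (f (g • z))) ↔
      ∃ y ∈ MulAction.orbit Y z, f y = f (g • z) ∧ f z y = 0 := by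
  constructor
  · rintro ⟨b, hb, hb1, hbf⟩
    have hN := h.bb B hB
    have h2 : IsPGroup 2 (zpowers b) := (h.B_two hB).to_le (zpowers_le.2 hb)
    obtain ⟨k, -, h3, h4⟩ := h.exists_pt h2 (g := g) (zpowers_le.2 hbf)
    exact ⟨_, ⟨k * g, rfl⟩, h4, hN.fix hb hb1 (h3 b (mem_zpowers b))⟩
  · rintro ⟨y, ⟨k, rfl⟩, hy, hzy⟩
    obtain ⟨b, hb, hb1, hby⟩ := h.exists_by hB hzy
    refine ⟨b, hb, hb1, ?_⟩
    rw [← hy, mem_stabF]
    change dua b (f (k • z)) = f (k • z)
    rw [← h.f_smul b _ ⟨k, rfl⟩]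
    exact congrArg f hby

end Dat

end Cfsg.Agent.Omega.NearFF

end

section


/-!
# (BT), `|V/E| = 2`: minimal pairs, the submodule (G) (project OMEGA, leaf N1)

Text: helper132 (bb OMEGA, 05:30Z).  `MP φ B L w`: `L = ⟨B, B^x⟩` for all `x ∈ L` moving `φ`, `w ∈ C_V(T_L)`.

* `MP.key` : (G), `[D_{B^x} ∩ E_φ, B] ≤ D_B ∩ E_{φ^x}`;
* `MP.case2` : `⟨w^L⟩ ≤ E_φ` unless `|[E, b]| = 2` for some `1 ≠ b ∈ B`.
-/

set_option autoImplicit false
set_option linter.unusedSectionVars false

namespace Cfsg.Agent.Omega.NearFF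

open Subgroup Cfsg.Agent.Omega.Transv

variable {Y : Type*} [Group Y] {V : Type*} [AddCommGroup V] [Module (ZMod 2) V] [DistribMulAction Y V]

/-- `|[E, b]| ≥ 4` for all `1 ≠ b ∈ B` -/
def Big (φ : Du V) (B : Subgroup Y) : Prop :=
  ∀ b ∈ B, b ≠ 1 → ∀ w : V, ∃ e : V, φ e = 0 ∧ cm b e ≠ 0 ∧ cm b e ≠ w

/-- A minimal pair: `L = ⟨B, B^x⟩` for all `x ∈ L` moving `φ`, and `w` is fixed by a Sylow 2-subgroup of `L`
containing `B`. -/
structure MP (φ : Du V) (B L : Subgroup Y) (w : V) : Prop where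
  faith : Faith Y V
  ne : φ ≠ 0
  nb : NB φ B
  le : B ≤ L
  ex : ∃ x ∈ L, dua x φ ≠ φ
  min : ∀ x ∈ L, dua x φ ≠ φ → ∀ H : Subgroup Y, B ≤ H → (∀ b ∈ B, x * b * x⁻¹ ∈ H) → L ≤ H
  fixw : Fx B w
  stab : ∀ l ∈ L, l • w = w → dua l φ = φ
  syl : ∀ x ∈ L, ∀ b ∈ B, dua b (dua x φ) = dua x φ →
    ∃ y ∈ L, dua y φ = dua x φ ∧ b • (y • w) = y • w
  core : ∀ b ∈ B, (∀ x ∈ L, dua b (dua x φ) = dua x φ) → ∀ x ∈ L, b • (x • w) = x • w
  noff : ∀ A : Subgroup Y, A ≠ ⊥ → (∀ a ∈ A, ∀ b ∈ A, a * b = b * a) → (∀ a ∈ A, a * a = 1) →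
    Nat.card A * Nat.card {v : V // Fx A v} < Nat.card V

namespace MP

variable {φ : Du V} {B L : Subgroup Y} {w : V} (h : MP φ B L w)
include h

theorem dua_B {b : Y} (hb : b ∈ B) : dua b φ = φ := by
  ext v
  rw [dua_apply, h.nb.inv _ (inv_mem hb)]

theorem inv_B {b : Y} (hb : b ∈ B) : b⁻¹ = b := inv_eq_of_mul_eq_one_left (h.nb.sq b hb)

/-- generation by `B^x` and an element `b` moving `φ^x` -/
theorem gen {x : Y} (hx : x ∈ L) {b : Y} (hb : b ∈ L) (hne : dua b (dua x φ) ≠ dua x φ) (H : Subgroup Y)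
    (h1 : ∀ c ∈ B, x * c * x⁻¹ ∈ H) (h2 : b ∈ H) : L ≤ H := by
  have h3 : dua (x⁻¹ * b * x) φ ≠ φ := by
    intro h0
    apply hne
    rw [dua_mul, dua_mul] at h0
    rw [← dua_mul, show b * x = x * (x⁻¹ * b * x) by group, dua_mul, dua_mul, dua_mul, h0]
  have h4 := h.min _ (mul_mem (mul_mem (inv_mem hx) hb) hx) h3 (H.comap (MulAut.conj x).toMonoidHom)
    (fun c hc => h1 c hc) (fun c hc => by
      change x * (x⁻¹ * b * x * c * (x⁻¹ * b * x)⁻¹) * x⁻¹ ∈ H
      rw [show x * (x⁻¹ * b * x * c * (x⁻¹ * b * x)⁻¹) * x⁻¹ = b * (x * c * x⁻¹) * b⁻¹ by group]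
      exact mul_mem (mul_mem h2 (h1 c hc)) (inv_mem h2))
  intro l hl
  have h5 : x * (x⁻¹ * l * x) * x⁻¹ ∈ H := h4 (mul_mem (mul_mem (inv_mem hx) hl) hx)
  rwa [show x * (x⁻¹ * l * x) * x⁻¹ = l by group] at h5

omit h in
theorem fx_conj {x : Y} {u : V} : Fx B (x⁻¹ • u) ↔ ∀ c ∈ B, (x * c * x⁻¹) • u = u := by
  refine forall₂_congr fun c _ => ?_
  rw [mul_smul, mul_smul]
  constructor
  · intro h1
    rw [h1, smul_inv_smul]
  · intro h1
    rw [eq_inv_smul_iff, h1]

/-- a vector fixed by `B^x` and by an element moving `φ^x` is fixed by `L` -/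
theorem fix_of {x : Y} (hx : x ∈ L) {u : V} (hu : Fx B (x⁻¹ • u)) {b : Y} (hb : b ∈ L) (hbu : b • u = u)
    (hne : dua b (dua x φ) ≠ dua x φ) : Fx L u := fun _ hl =>
  h.gen hx hb hne (MulAction.stabilizer Y u) (fun c hc => fx_conj.1 hu c hc) hbu hl

theorem fix_of2 {x : Y} (hx : x ∈ L) (hne : dua x φ ≠ φ) {u : V} (h1 : Fx B u) (h2 : Fx B (x⁻¹ • u)) :
    Fx L u := fun _ hl =>
  h.min x hx hne (MulAction.stabilizer Y u) (fun c hc => h1 c hc) (fun c hc => fx_conj.1 h2 c hc) hl

omit h in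
theorem fx_smul {l : Y} (hl : l ∈ L) {u : V} : Fx L (l • u) ↔ Fx L u := by
  constructor
  · intro h1 k hk
    have h2 := h1 (l * k * l⁻¹) (mul_mem (mul_mem hl hk) (inv_mem hl))
    rw [mul_smul, mul_smul, inv_smul_smul, smul_left_cancel_iff] at h2
    exact h2
  · intro h1 k hk
    rw [h1 l hl, h1 k hk]

theorem fix_of3 {x y : Y} (hx : x ∈ L) (hy : y ∈ L) (hne : dua x φ ≠ dua y φ) {u : V}
    (h1 : Fx B (x⁻¹ • u)) (h2 : Fx B (y⁻¹ • u)) : Fx L u := by
  rw [← fx_smul (inv_mem hx)]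
  refine h.fix_of2 (x := x⁻¹ * y) (mul_mem (inv_mem hx) hy) ?_ h1 ?_
  · intro h0
    apply hne
    rw [← h0, ← dua_mul, mul_inv_cancel_left]
    rw [h0]
  · rw [mul_inv_rev, inv_inv, mul_smul, smul_inv_smul]
    exact h2

theorem w_not : ¬ Fx L w := by
  intro h0
  obtain ⟨x, hx, hne⟩ := h.ex
  exact hne (h.stab x hx (h0 x hx))

/-- **(G)** -/
theorem key {x : Y} (hx : x ∈ L) {u : V} (hu : φ u = 0) (hf : Fx B (x⁻¹ • u)) {b : Y} (hb : b ∈ B) :
    Fx B (cm b u) ∧ dua x φ (cm b u) = 0 := by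
  refine ⟨h.nb.ed u hu b hb, ?_⟩
  by_cases hL : Fx L u
  · rw [cm_eq_zero.2 (hL b (h.le hb)), map_zero]
  · obtain ⟨c, hc, hcu, v, d, -, hd, h1⟩ := h.nb.exists_b h.ne hu
    have h2 : dua c (dua x φ) = dua x φ := by
      by_contra hne
      exact hL (h.fix_of hx hf (h.le hc) hcu hne)
    have h3 : cm b u = cm c (cm b v) := by
      rw [h1, cm_add, cm_eq_zero.2 (hd b hb), add_zero, cm_comm (h.nb.comm b hb c hc)]
    rw [h3, cm_def, map_add]
    have h4 : dua x φ (c • cm b v) = dua x φ (cm b v) := stabF_apply (mem_stabF.2 h2) _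
    rw [h4, add_self]

/-- invariance under `L` from invariance under `B` and `B^x` -/
theorem inv_of {x : Y} (hx : x ∈ L) (hne : dua x φ ≠ φ) (p : V → Prop)
    (h1 : ∀ b ∈ B, ∀ u, p u → p (b • u)) (h2 : ∀ b ∈ B, ∀ u, p u → p ((x * b * x⁻¹) • u)) :
    ∀ l ∈ L, ∀ u, p u → p (l • u) := by
  let H : Subgroup Y :=
    { carrier := {k | ∀ u, p (k • u) ↔ p u}
      one_mem' := fun u => by rw [one_smul]
      mul_mem' := by
        intro a b ha hb u
        rw [mul_smul, ha, hb]
      inv_mem' := by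
        intro a ha u
        rw [← ha, smul_inv_smul] }
  have hB : B ≤ H := by
    intro b hb u
    refine ⟨fun h3 => ?_, h1 b hb u⟩
    have h4 := h1 b hb _ h3
    rwa [smul_smul, h.nb.sq b hb, one_smul] at h4
  have hx' : ∀ b ∈ B, x * b * x⁻¹ ∈ H := by
    intro b hb u
    refine ⟨fun h3 => ?_, h2 b hb u⟩
    have h4 := h2 b hb _ h3
    rwa [smul_smul, show x * b * x⁻¹ * (x * b * x⁻¹) = x * (b * b) * x⁻¹ by group, h.nb.sq b hb, mul_one,
      mul_inv_cancel, one_smul] at h4
  intro l hl u hu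
  exact (h.min x hx hne H hB hx' hl u).2 hu

/-- **CASE 2** -/
theorem case2 (hbig : Big φ B) : ∀ l ∈ L, φ (l • w) = 0 := by
  by_contra hc
  push Not at hc
  obtain ⟨y₀, hy₀, hy₁⟩ := hc
  -- a
  have ha : ∀ x ∈ L, dua x φ ≠ φ → φ (x • w) = 1 := by
    intro x hx hne
    refine eq_one_of_ne fun h0 => hy₁ ?_
    let p : V → Prop := fun u => ∃ g g' : V, u = g + g' ∧ (φ g = 0 ∧ Fx B (x⁻¹ • g)) ∧
      (Fx B g' ∧ dua x φ g' = 0)
    have hne' : dua x⁻¹ φ ≠ φ := by
      intro h1
      apply hne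
      conv_lhs => rw [← h1, ← dua_mul, mul_inv_cancel, dua_one]
    have hp := h.inv_of hx hne p ?_ ?_
    · obtain ⟨g, g', h1, ⟨h2, -⟩, h3, -⟩ := hp (y₀ * x⁻¹) (mul_mem hy₀ (inv_mem hx)) (x • w)
        ⟨x • w, 0, (add_zero _).symm, ⟨h0, by rw [inv_smul_smul]; exact h.fixw⟩, Fx.zero B, map_zero _⟩
      rw [mul_smul, inv_smul_smul] at h1
      rw [h1, map_add, h2, zero_add]
      obtain ⟨b, hb, hb1⟩ : ∃ b ∈ B, b ≠ 1 := by
        by_contra hc
        push Not at hc
        exact h.nb.ne ((eq_bot_iff_forall B).2 hc)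
      exact h.nb.fix hb hb1 (h3 b hb)
    · rintro b hb _ ⟨g, g', rfl, ⟨h1, h2⟩, h3, h4⟩
      obtain ⟨h5, h6⟩ := h.key hx h1 h2 hb
      refine ⟨g, cm b g + g', ?_, ⟨h1, h2⟩, h5.add h3, by rw [map_add, h6, h4, add_zero]⟩
      rw [smul_add, h3 b hb, smul_eq_add_cm b g, add_assoc]
    · rintro b hb _ ⟨g, g', rfl, ⟨h1, h2⟩, h3, h4⟩
      obtain ⟨h5, h6⟩ := h.key (inv_mem hx) (u := x⁻¹ • g') (b := b) h4
        (by rw [inv_inv, smul_inv_smul]; exact h3) hb
      have h7 : x⁻¹ • cm (x * b * x⁻¹) g' = cm b (x⁻¹ • g') := by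
        rw [smul_cm_conj]
        congr 1
        group
      rw [← h7] at h5 h6
      refine ⟨cm (x * b * x⁻¹) g' + g, g', ?_, ⟨?_, ?_⟩, h3, h4⟩
      · rw [smul_add, fx_conj.1 h2 b hb, smul_eq_add_cm _ g']
        abel
      · rw [map_add, h1, add_zero]
        rwa [dua_apply, inv_inv, smul_inv_smul] at h6
      · rw [smul_add]
        exact h5.add h2
  -- b
  have hb' : ∀ x ∈ L, dua x φ ≠ φ → ∀ b ∈ B, b ≠ 1 → dua b (dua x φ) ≠ dua x φ := by
    intro x hx hne b hb hb1 h0
    obtain ⟨y, hy, h1, h2⟩ := h.syl x hx b hb h0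
    have h3 := h.nb.fix hb hb1 h2
    rw [ha y hy (by rw [h1]; exact hne)] at h3
    exact one_ne h3
  obtain ⟨x, hx, hne⟩ := h.ex
  have hw0 : φ w = 0 := by
    obtain ⟨b, hb, hb1⟩ : ∃ b ∈ B, b ≠ 1 := by
      by_contra hc
      push Not at hc
      exact h.nb.ne ((eq_bot_iff_forall B).2 hc)
    exact h.nb.fix hb hb1 (h.fixw b hb)
  have h1 : ∀ b ∈ B, b ≠ 1 → dua x φ (cm b (x • w)) = 1 := by
    intro b hb hb1
    rw [cm_def, map_add, dua_apply, dua_apply, inv_smul_smul, hw0, add_zero, smul_smul, smul_smul]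
    refine ha _ (mul_mem (mul_mem (inv_mem hx) (h.le hb)) hx) fun h0 => hb' x hx hne b hb hb1 ?_
    rw [dua_mul, dua_mul] at h0
    have h2 : dua x (dua x⁻¹ (dua b (dua x φ))) = dua x φ := by rw [h0]
    rwa [← dua_mul, mul_inv_cancel, dua_one] at h2
  have h2 : ∀ a ∈ B, ∀ b ∈ B, a ≠ 1 → b ≠ 1 → a * b ≠ 1 → dua x φ (cm a (cm b (x • w))) = 1 := by
    intro a ha' b hb ha1 hb1 hab
    have h3 := h1 _ (mul_mem ha' hb) hab
    rw [cm_mul, map_add, map_add, h1 a ha' ha1, h1 b hb hb1, one_add_one, zero_add] at h3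
    exact h3
  obtain ⟨a, ha', ha1⟩ : ∃ a ∈ B, a ≠ 1 := by
    by_contra hc
    push Not at hc
    exact h.nb.ne ((eq_bot_iff_forall B).2 hc)
  have hv : φ (x • w) = 1 := ha x hx hne
  obtain ⟨e₁, he₁, h3, -⟩ := hbig a ha' ha1 0
  obtain ⟨e₂, he₂, h4, h5⟩ := hbig a ha' ha1 (cm a e₁)
  obtain ⟨b₁, hb₁, hd₁⟩ := h.nb.surj _ e₁ hv he₁
  obtain ⟨b₂, hb₂, hd₂⟩ := h.nb.surj _ e₂ hv he₂
  have e1 : cm a e₁ = cm a (cm b₁ (x • w)) := by
    have h6 := cm_eq_zero.2 (hd₁ a ha')
    rw [cm_add] at h6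
    exact (eq_of_add h6).symm
  have e2 : cm a e₂ = cm a (cm b₂ (x • w)) := by
    have h6 := cm_eq_zero.2 (hd₂ a ha')
    rw [cm_add] at h6
    exact (eq_of_add h6).symm
  have e3 : cm a (cm (b₁ * b₂) (x • w)) = cm a e₁ + cm a e₂ := by
    rw [cm_mul, cm_add, cm_add, e1, e2,
      cm_eq_zero.2 (h.nb.ed _ (h.nb.cm_mem hb₂ _) b₁ hb₁ a ha'), add_zero]
  have key : ∀ c ∈ B, cm a (cm c (x • w)) ≠ 0 → dua x φ (cm a (cm c (x • w))) = 1 := by
    intro c hc hn
    refine h2 a ha' c hc ha1 ?_ ?_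
    · rintro rfl
      exact hn (by rw [cm_one, cm_zero])
    · intro h0
      have h6 : a = c := by rw [eq_inv_of_mul_eq_one_left h0, h.inv_B hc]
      subst h6
      exact hn (cm_eq_zero.2 (h.nb.smul_cm_self ha' _))
  have k1 := key b₁ hb₁ (by rwa [← e1])
  have k2 := key b₂ hb₂ (by rwa [← e2])
  have k3 := key (b₁ * b₂) (mul_mem hb₁ hb₂) (by
    rw [e3]
    intro h0
    exact h5 (eq_of_add h0).symm)
  rw [e3, e1, e2, map_add, k1, k2, one_add_one] at k3
  exact one_ne k3.symm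

end MP

end Cfsg.Agent.Omega.NearFF

end

section


/-!
# (BT), `|V/E| = 2`: minimal pairs, Case 1 (project OMEGA, leaf N1)

Text: helper132, bb OMEGA #17318.  `MP.false_of_big` : there is no minimal pair with `|[E, b]| ≥ 4` for all `b`.
-/

set_option autoImplicit false
set_option linter.unusedSectionVars false

namespace Cfsg.Agent.Omega.NearFF

open Subgroup Cfsg.Agent.Omega.Transv

variable {Y : Type*} [Group Y] {V : Type*} [AddCommGroup V] [Module (ZMod 2) V] [DistribMulAction Y V]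

/-- the fixed space of `L` -/
def VL (V : Type*) [AddCommGroup V] [Module (ZMod 2) V] [DistribMulAction Y V] (L : Subgroup Y) :
    Submodule (ZMod 2) V where
  carrier := {v | Fx L v}
  zero_mem' := Fx.zero L
  add_mem' := fun h1 h2 => Fx.add h1 h2
  smul_mem' := by
    intro c v hv
    rcases zmod_cases c with h1 | h1
    · rw [h1, zero_smul]
      exact Fx.zero L
    · rw [h1, one_smul]
      exact hv

theorem mem_VL {L : Subgroup Y} {v : V} : v ∈ VL V L ↔ Fx L v := Iff.rfl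

/-- `⟨w^L⟩ + C_V(L)` -/
def PW (L : Subgroup Y) (w : V) : Submodule (ZMod 2) V :=
  Submodule.span (ZMod 2) (Set.range fun l : L => (l : Y) • w) ⊔ VL V L

theorem PW_induct {L : Subgroup Y} {w : V} {p : V → Prop} (h1 : ∀ l ∈ L, p (l • w)) (h2 : ∀ v, Fx L v → p v)
    (h3 : ∀ u v, p u → p v → p (u + v)) {u : V} (hu : u ∈ PW L w) : p u := by
  obtain ⟨a, ha, b, hb, rfl⟩ := Submodule.mem_sup.1 hu
  refine h3 _ _ ?_ (h2 b hb)
  clear hu
  induction ha using Submodule.span_induction with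
  | mem x hx =>
    obtain ⟨l, rfl⟩ := hx
    exact h1 l l.2
  | zero => exact h2 0 (Fx.zero L)
  | add x y _ _ hx hy => exact h3 _ _ hx hy
  | smul c x _ hx =>
    rcases zmod_cases c with h4 | h4
    · rw [h4, zero_smul]
      exact h2 0 (Fx.zero L)
    · rw [h4, one_smul]
      exact hx

theorem orb_mem_PW {L : Subgroup Y} {w : V} {l : Y} (hl : l ∈ L) : l • w ∈ PW L w :=
  Submodule.mem_sup_left (Submodule.subset_span ⟨⟨l, hl⟩, rfl⟩)

theorem VL_le_PW {L : Subgroup Y} {w v : V} (hv : Fx L v) : v ∈ PW L w :=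
  Submodule.mem_sup_right hv

theorem smul_mem_PW {L : Subgroup Y} {w : V} {l : Y} (hl : l ∈ L) {u : V} (hu : u ∈ PW L w) :
    l • u ∈ PW L w := by
  refine PW_induct (p := fun u => l • u ∈ PW L w) ?_ ?_ ?_ hu
  · intro k hk
    rw [smul_smul]
    exact orb_mem_PW (mul_mem hl hk)
  · intro v hv
    rw [hv l hl]
    exact VL_le_PW hv
  · intro u v h1 h2
    rw [smul_add]
    exact add_mem h1 h2

theorem cm_mem_PW {L : Subgroup Y} {w : V} {l : Y} (hl : l ∈ L) {u : V} (hu : u ∈ PW L w) :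
    cm l u ∈ PW L w := add_mem (smul_mem_PW hl hu) hu

/-- the elements fixing all `φ^x`, `x ∈ L` -/
def KL (L : Subgroup Y) (φ : Du V) : Subgroup Y where
  carrier := {g | ∀ x ∈ L, dua g (dua x φ) = dua x φ}
  one_mem' := fun x _ => dua_one _
  mul_mem' := by
    intro a b ha hb x hx
    rw [dua_mul, hb x hx, ha x hx]
  inv_mem' := by
    intro a ha x hx
    conv_lhs => rw [← ha x hx, dua_inv]

theorem mem_KL {L : Subgroup Y} {φ : Du V} {g : Y} : g ∈ KL L φ ↔ ∀ x ∈ L, dua g (dua x φ) = dua x φ :=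
  Iff.rfl

theorem card_two_le {H K : Subgroup Y} [Finite Y] (h1 : H ≤ K) {k : Y} (hk : k ∈ K) (hk' : k ∉ H) :
    2 * Nat.card H ≤ Nat.card K := by
  obtain ⟨m, hm⟩ := Subgroup.card_dvd_of_le h1
  have h2 : Nat.card H ≠ Nat.card K := by
    intro h0
    exact hk' (Subgroup.eq_of_le_of_card_ge h1 h0.ge ▸ hk)
  have h3 : 0 < Nat.card K := Nat.card_pos
  have h4 : m ≠ 0 := by
    rintro rfl
    rw [mul_zero] at hm
    omega
  have h5 : m ≠ 1 := by
    rintro rfl
    rw [mul_one] at hm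
    exact h2 hm.symm
  have h6 : 2 ≤ m := by omega
  rw [hm, mul_comm]
  exact Nat.mul_le_mul_left _ h6

namespace MP

variable {φ : Du V} {B L : Subgroup Y} {w : V} (h : MP φ B L w)
include h

theorem exists_B : ∃ b ∈ B, b ≠ 1 := by
  by_contra hc
  push Not at hc
  exact h.nb.ne ((eq_bot_iff_forall B).2 hc)

theorem phi_of_fx {v : V} (hv : Fx B v) : φ v = 0 := by
  obtain ⟨b, hb, hb1⟩ := h.exists_B
  exact h.nb.fix hb hb1 (hv b hb)

theorem fx_B {v : V} (hv : Fx L v) : Fx B v := fun b hb => hv b (h.le hb)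

theorem phi_PW (hE : ∀ l ∈ L, φ (l • w) = 0) {u : V} (hu : u ∈ PW L w) : φ u = 0 := by
  refine PW_induct (p := fun u => φ u = 0) hE (fun v hv => h.phi_of_fx (h.fx_B hv)) ?_ hu
  intro u v h1 h2
  rw [map_add, h1, h2, add_zero]

/-- (1) -/
theorem split (hE : ∀ l ∈ L, φ (l • w) = 0) {x : Y} (hx : x ∈ L) (hne : dua x φ ≠ φ) {u : V}
    (hu : u ∈ PW L w) :
    ∃ u₁ ∈ PW L w, ∃ u₂ ∈ PW L w, u = u₁ + u₂ ∧ Fx B u₁ ∧ Fx B (x⁻¹ • u₂) := by
  let p : V → Prop := fun u => ∃ u₁ ∈ PW L w, ∃ u₂ ∈ PW L w, u = u₁ + u₂ ∧ Fx B u₁ ∧ Fx B (x⁻¹ • u₂)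
  have hp := h.inv_of hx hne p ?_ ?_
  · refine PW_induct (p := p) ?_ ?_ ?_ hu
    · intro l hl
      refine hp l hl w ⟨w, ?_, 0, zero_mem _, (add_zero w).symm, h.fixw, ?_⟩
      · have h1 := orb_mem_PW (w := w) (one_mem L)
        rwa [one_smul] at h1
      · rw [smul_zero]
        exact Fx.zero B
    · intro v hv
      refine ⟨v, VL_le_PW hv, 0, zero_mem _, (add_zero v).symm, h.fx_B hv, ?_⟩
      rw [smul_zero]
      exact Fx.zero B
    · rintro _ _ ⟨a₁, h1, a₂, h2, rfl, h3, h4⟩ ⟨b₁, k1, b₂, k2, rfl, k3, k4⟩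
      refine ⟨a₁ + b₁, add_mem h1 k1, a₂ + b₂, add_mem h2 k2, by abel, h3.add k3, ?_⟩
      rw [smul_add]
      exact h4.add k4
  · rintro b hb _ ⟨a₁, h1, a₂, h2, rfl, h3, h4⟩
    refine ⟨a₁ + cm b a₂, add_mem h1 (cm_mem_PW (h.le hb) h2), a₂, h2, ?_,
      h3.add (h.nb.ed _ (h.phi_PW hE h2) b hb), h4⟩
    rw [smul_add, h3 b hb, smul_eq_add_cm b a₂]
    abel
  · rintro b hb _ ⟨a₁, h1, a₂, h2, rfl, h3, h4⟩
    have hc : x * b * x⁻¹ ∈ L := mul_mem (mul_mem hx (h.le hb)) (inv_mem hx)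
    refine ⟨a₁, h1, a₂ + cm (x * b * x⁻¹) a₁, add_mem h2 (cm_mem_PW hc h1), ?_, h3, ?_⟩
    · rw [smul_add, fx_conj.1 h4 b hb, smul_eq_add_cm _ a₁]
      abel
    · rw [smul_add]
      refine h4.add ?_
      have h7 : x⁻¹ • cm (x * b * x⁻¹) a₁ = cm b (x⁻¹ • a₁) := by
        rw [smul_cm_conj]
        congr 1
        group
      rw [h7]
      exact h.nb.ed _ (h.phi_PW hE (smul_mem_PW (inv_mem hx) h1)) b hb

/-- (2) -/
theorem two {x : Y} (hx : x ∈ L) {u : V} (hu : Fx B (x⁻¹ • u)) {a : Y} (ha : a ∈ L) (hau : Fx L (cm a u))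
    (hne : dua a (dua x φ) ≠ dua x φ) : Fx L u := by
  let H : Subgroup Y :=
    { carrier := {k | k ∈ L ∧ Fx L (cm k u)}
      one_mem' := ⟨one_mem L, by rw [cm_one]; exact Fx.zero L⟩
      mul_mem' := by
        rintro a b ⟨ha, ha'⟩ ⟨hb, hb'⟩
        refine ⟨mul_mem ha hb, ?_⟩
        rw [cm_mul, cm_eq_zero.2 (hb' a ha), add_zero]
        exact ha'.add hb'
      inv_mem' := by
        rintro a ⟨ha, ha'⟩
        refine ⟨inv_mem ha, ?_⟩
        have h1 : cm a⁻¹ u = cm a u := by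
          rw [← ha' a⁻¹ (inv_mem ha), cm, cm, smul_add, inv_smul_smul, add_comm]
        rw [h1]
        exact ha' }
  have h1 : L ≤ H := by
    refine h.gen hx ha hne H (fun c hc => ⟨mul_mem (mul_mem hx (h.le hc)) (inv_mem hx), ?_⟩) ⟨ha, hau⟩
    rw [cm_eq_zero.2 (fx_conj.1 hu c hc)]
    exact Fx.zero L
  have h2 : ∀ l ∈ L, ∀ b ∈ B, (l * b * l⁻¹) • u = u := by
    intro l hl b hb
    have h3 : Fx L (cm (x * l⁻¹) u) := (h1 (mul_mem hx (inv_mem hl))).2
    have h4 : (x * l⁻¹) • u = u + cm (x * l⁻¹) u := smul_eq_add_cm _ _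
    have h5 : l * b * l⁻¹ = (x * l⁻¹)⁻¹ * (x * b * x⁻¹) * (x * l⁻¹) := by group
    have h6 : x * b * x⁻¹ ∈ L := mul_mem (mul_mem hx (h.le hb)) (inv_mem hx)
    rw [h5, mul_smul, mul_smul, inv_smul_eq_iff, h4, smul_add, fx_conj.1 hu b hb, h3 _ h6]
  obtain ⟨y, hy, hy'⟩ := h.ex
  refine fun l hl => h.min y hy hy' (MulAction.stabilizer Y u) (fun b hb => ?_) (fun b hb => h2 y hy b hb) hl
  have h3 := h2 1 (one_mem L) b hb
  rwa [one_mul, inv_one, mul_one] at h3

/-- (3) -/
theorem three (hE : ∀ l ∈ L, φ (l • w) = 0) {y : Y} (hy : y ∈ L) (hne : dua y φ ≠ φ) {a : Y} (ha : a ∈ B)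
    (hay : dua a (dua y φ) = dua y φ) : a ∈ KL L φ := by
  intro x hx
  by_contra hxa
  have hx1 : dua x φ ≠ φ := by
    intro h0
    apply hxa
    rw [h0]
    exact h.dua_B ha
  obtain ⟨y', hy', h1, h2⟩ := h.syl y hy a ha hay
  obtain ⟨t₁, -, t₂, -, h3, h4, h5⟩ := h.split hE hx hx1 (orb_mem_PW (w := w) hy')
  have h6 : a • t₂ = t₂ := by
    rw [h3, smul_add, h4 a ha, add_right_inj] at h2
    exact h2
  have h7 : Fx L t₂ := h.two hx h5 (h.le ha) (by rw [cm_eq_zero.2 h6]; exact Fx.zero L) hxa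
  have h8 : Fx B (y' • w) := by
    rw [h3]
    exact h4.add (h.fx_B h7)
  have h9 : Fx L (y' • w) := h.fix_of2 hy' (by rw [h1]; exact hne) h8 (by
    rw [inv_smul_smul]
    exact h.fixw)
  exact h.w_not ((fx_smul hy').1 h9)

/-- `B₀ = B ∩ K₀` centralises `⟨w^L⟩ + C_V(L)` -/
theorem fix_PW {b : Y} (hb : b ∈ B) (hb' : b ∈ KL L φ) {u : V} (hu : u ∈ PW L w) : b • u = u := by
  refine PW_induct (p := fun u => b • u = u) (fun l hl => h.core b hb hb' l hl)
    (fun v hv => hv b (h.le hb)) ?_ hu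
  intro u v h1 h2
  rw [smul_add, h1, h2]

/-- `[v, H] + C_V(B)` -/
theorem card_VH {v : V} (hv : φ v = 1) {H : Subgroup Y} (hH : H ≤ B) :
    ∃ E : AddSubgroup V, (∀ u, u ∈ E ↔ ∃ b ∈ H, Fx B (cm b v + u)) ∧
      Nat.card E = Nat.card H * Nat.card {d : V // Fx B d} := by
  let E : AddSubgroup V :=
    { carrier := {u | ∃ b ∈ H, Fx B (cm b v + u)}
      zero_mem' := ⟨1, one_mem H, by rw [cm_one, zero_add]; exact Fx.zero B⟩
      add_mem' := by
        rintro u u' ⟨b, hb, h1⟩ ⟨b', hb', h2⟩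
        refine ⟨b * b', mul_mem hb hb', ?_⟩
        have h3 := h.nb.ed _ (h.nb.cm_mem (hH hb') v) b (hH hb)
        rw [cm_mul, show cm b v + cm b' v + cm b (cm b' v) + (u + u') =
          (cm b v + u) + (cm b' v + u') + cm b (cm b' v) by abel]
        exact (h1.add h2).add h3
      neg_mem' := by
        rintro u ⟨b, hb, h1⟩
        rw [neg_eq]
        exact ⟨b, hb, h1⟩ }
  refine ⟨E, fun u => Iff.rfl, ?_⟩
  rw [← Nat.card_prod]
  refine (Nat.card_congr (Equiv.ofBijective
    (fun p : H × {d : V // Fx B d} => (⟨cm (p.1 : Y) v + p.2, p.1, p.1.2, by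
      rw [← add_assoc, add_self, zero_add]; exact p.2.2⟩ : E)) ⟨?_, ?_⟩)).symm
  · rintro ⟨⟨b, hb⟩, d, hd⟩ ⟨⟨b', hb'⟩, d', hd'⟩ h1
    have h2 : cm b v + d = cm b' v + d' := congrArg Subtype.val h1
    have h3 : Fx B (cm (b * b') v) := by
      rw [cm_mul]
      refine Fx.add ?_ (h.nb.ed _ (h.nb.cm_mem (hH hb') v) b (hH hb))
      have h4 : cm b v + cm b' v = d + d' := by
        have h5 : cm b v = cm b' v + d' + d := by rw [← h2, add_add_self]
        rw [h5]
        have h6 : cm b' v + d' + d + cm b' v = (cm b' v + cm b' v) + (d + d') := by abel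
        rw [h6, add_self, zero_add]
      rw [h4]
      exact Fx.add hd hd'
    have h5 := h.nb.inj v hv _ (mul_mem (hH hb) (hH hb')) h3
    have h6 : b = b' := by rw [eq_inv_of_mul_eq_one_left h5, h.inv_B (hH hb')]
    subst h6
    have h7 : d = d' := add_left_cancel h2
    subst h7
    rfl
  · rintro ⟨u, b, hb, h1⟩
    refine ⟨(⟨b, hb⟩, ⟨cm b v + u, h1⟩), Subtype.ext ?_⟩
    change cm b v + (cm b v + u) = u
    rw [← add_assoc, add_self, zero_add]

theorem card_V [Finite V] : Nat.card V = 2 * (Nat.card B * Nat.card {d : V // Fx B d}) := by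
  obtain ⟨v, hv⟩ := exists_one h.ne
  obtain ⟨E, hE, hc⟩ := h.card_VH hv (le_refl B)
  rw [← hc, ← card_ker h.ne]
  congr 1
  refine Nat.card_congr (Equiv.subtypeEquivRight fun u => ?_)
  rw [← SetLike.mem_coe, SetLike.mem_coe, hE]
  constructor
  · intro h1
    obtain ⟨b, hb, h2⟩ := h.nb.surj v u hv h1
    exact ⟨b, hb, h2⟩
  · rintro ⟨b, hb, h1⟩
    have h2 := h.phi_of_fx h1
    rwa [map_add, h.nb.cm_mem hb, zero_add] at h2

end MP

end Cfsg.Agent.Omega.NearFF

end

section


/-!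
# (BT), `|V/E| = 2`: minimal pairs, Case 1, the group `A` (project OMEGA, leaf N1)

Text: helper132, bb OMEGA #17318, Case 1 (4).
-/

set_option autoImplicit false
set_option linter.unusedSectionVars false

namespace Cfsg.Agent.Omega.NearFF

open Subgroup Cfsg.Agent.Omega.Transv

variable {Y : Type*} [Group Y] {V : Type*} [AddCommGroup V] [Module (ZMod 2) V] [DistribMulAction Y V]

/-- the output of Case 1 (4) -/
structure Out (φ : Du V) (B L : Subgroup Y) (w : V) (x : Y) (v : V) (A : Subgroup Y) : Prop where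
  le : A ≤ B
  KL : ∀ a ∈ A, a ∈ KL L φ
  ne : ∃ a ∈ A, a ≠ 1
  perp0 : ∀ a ∈ A, ∀ b ∈ B, b ∈ NearFF.KL L φ → cm b (cm a v) = 0
  perp1 : ∀ a ∈ A, a ≠ 1 → ∀ b ∈ B, cm b (cm a v) = 0 → b ∈ NearFF.KL L φ
  card : Nat.card A * Nat.card ((B ⊓ NearFF.KL L φ : Subgroup Y)) = Nat.card B
  surj : ∀ u ∈ PW L w, Fx B (x⁻¹ • u) → ¬ Fx L u → ∀ t ∈ PW L w, Fx B t → ∃ b ∈ B, Fx L (cm b u + t)

namespace MP

variable {φ : Du V} {B L : Subgroup Y} {w : V} (h : MP φ B L w)
include h

theorem cm_cm_of_fx {v u : V} {a b : Y} (hb : b ∈ B) (hu : Fx B (cm a v + u)) : cm b (cm a v) = cm b u := by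
  have h1 := cm_eq_zero.2 (hu b hb)
  rw [cm_add] at h1
  exact eq_of_add h1

theorem perp0 {v u : V} {a b : Y} (hb : b ∈ B) (hb' : b ∈ KL L φ) (hu : u ∈ PW L w)
    (hau : Fx B (cm a v + u)) : cm b (cm a v) = 0 := by
  rw [h.cm_cm_of_fx hb hau, cm_eq_zero.2 (h.fix_PW hb hb' hu)]

theorem perp1 (hE : ∀ l ∈ L, φ (l • w) = 0) {x : Y} (hx : x ∈ L) (hne : dua x φ ≠ φ) {v u : V}
    (hv : φ v = 1) {a b : Y} (ha : a ∈ B) (ha1 : a ≠ 1) (hux : Fx B (x⁻¹ • u)) (hau : Fx B (cm a v + u))
    (hb : b ∈ B) (h0 : cm b (cm a v) = 0) : b ∈ KL L φ := by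
  refine h.three hE hx hne hb ?_
  by_contra hbx
  rw [h.cm_cm_of_fx hb hau] at h0
  have h1 : Fx L u := h.two hx hux (h.le hb) (by rw [h0]; exact Fx.zero L) hbx
  exact ha1 (h.nb.inj v hv a ha (hau.of_add (h.fx_B h1)))

/-- `|P ∩ D_{B^x}| = |A| |C_V(L)|` -/
theorem card_C2 {x : Y} (hx : x ∈ L) (hne : dua x φ ≠ φ) {v : V} (hv : φ v = 1)
    (hE : ∀ l ∈ L, φ (l • w) = 0) {A : Subgroup Y}
    (hA : ∀ a, a ∈ A ↔ a ∈ B ∧ ∃ u ∈ PW L w, Fx B (x⁻¹ • u) ∧ Fx B (cm a v + u)) :
    Nat.card {u : V // u ∈ PW L w ∧ Fx B (x⁻¹ • u)} = Nat.card A * Nat.card (VL V L) := by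
  classical
  choose s hs1 hs2 hs3 using fun a : A => ((hA a).1 a.2).2
  rw [← Nat.card_prod]
  refine (Nat.card_congr (Equiv.ofBijective
    (fun p : A × VL V L => (⟨s p.1 + p.2, add_mem (hs1 p.1) (VL_le_PW p.2.2), by
      rw [smul_add]
      exact (hs2 p.1).add (h.fx_B ((fx_smul (inv_mem hx)).2 p.2.2))⟩ :
      {u : V // u ∈ PW L w ∧ Fx B (x⁻¹ • u)})) ⟨?_, ?_⟩)).symm
  · rintro ⟨a, n, hn⟩ ⟨a', n', hn'⟩ h1
    have h2 : s a + n = s a' + n' := congrArg Subtype.val h1
    have haB := ((hA a).1 a.2).1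
    have haB' := ((hA a').1 a'.2).1
    have h3 : Fx B (cm ((a : Y) * a') v) := by
      rw [cm_mul]
      refine Fx.add ?_ (h.nb.ed _ (h.nb.cm_mem haB' v) a haB)
      have h4 := ((hs3 a).add (hs3 a')).add ((h.fx_B hn).add (h.fx_B hn'))
      have h5 : cm (a : Y) v + s a + (cm (a' : Y) v + s a') + (n + n') =
          (cm (a : Y) v + cm (a' : Y) v) + ((s a + n) + (s a' + n')) := by abel
      rw [h5, h2, add_self, add_zero] at h4
      exact h4
    have h5 := h.nb.inj v hv _ (mul_mem haB haB') h3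
    have h6 : (a : Y) = a' := by rw [eq_inv_of_mul_eq_one_left h5, h.inv_B haB']
    have h7 : a = a' := Subtype.ext h6
    subst h7
    have h8 : n = n' := add_left_cancel h2
    subst h8
    rfl
  · rintro ⟨u, hu, hux⟩
    obtain ⟨b, hb, hd⟩ := h.nb.surj v u hv (h.phi_PW hE hu)
    let a : A := ⟨b, (hA b).2 ⟨hb, u, hu, hux, hd⟩⟩
    have h1 : Fx B (u + s a) := by
      have h4 := hd.add (hs3 a)
      have h5 : cm b v + u + (cm (a : Y) v + s a) = (cm b v + cm b v) + (u + s a) := by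
        change cm b v + u + (cm b v + s a) = _
        abel
      rw [h5, add_self, zero_add] at h4
      exact h4
    have h2 : Fx B (x⁻¹ • (u + s a)) := by
      rw [smul_add]
      exact hux.add (hs2 a)
    refine ⟨(a, ⟨u + s a, h.fix_of2 hx hne h1 h2⟩), Subtype.ext ?_⟩
    change s a + (u + s a) = u
    rw [add_comm, add_add_self]

/-- `b ↦ [u, b] + C_V(L)` -/
theorem exists_R (hE : ∀ l ∈ L, φ (l • w) = 0) {x : Y} (hx : x ∈ L) (hne : dua x φ ≠ φ) {u : V}
    (hu : u ∈ PW L w) (hux : Fx B (x⁻¹ • u)) (huL : ¬ Fx L u) :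
    ∃ R : AddSubgroup V, (∀ n, n ∈ R ↔ ∃ b ∈ B, Fx L (cm b u + n)) ∧
      Nat.card R * Nat.card ((B ⊓ KL L φ : Subgroup Y)) = Nat.card B * Nat.card (VL V L) := by
  classical
  have hu0 := h.phi_PW hE hu
  have hcc : ∀ b ∈ B, ∀ c ∈ B, cm b (cm c u) = 0 := fun b hb c hc =>
    cm_eq_zero.2 (h.nb.ed u hu0 c hc b hb)
  let R : AddSubgroup V :=
    { carrier := {n | ∃ b ∈ B, Fx L (cm b u + n)}
      zero_mem' := ⟨1, one_mem B, by rw [cm_one, zero_add]; exact Fx.zero L⟩
      add_mem' := by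
        rintro n n' ⟨b, hb, h1⟩ ⟨b', hb', h2⟩
        refine ⟨b * b', mul_mem hb hb', ?_⟩
        rw [cm_mul, hcc b hb b' hb', add_zero, show cm b u + cm b' u + (n + n') =
          (cm b u + n) + (cm b' u + n') by abel]
        exact h1.add h2
      neg_mem' := by
        rintro n ⟨b, hb, h1⟩
        rw [neg_eq]
        exact ⟨b, hb, h1⟩ }
  refine ⟨R, fun n => Iff.rfl, ?_⟩
  have hfix : ∀ b ∈ B, Fx L (cm b u) → b ∈ KL L φ := by
    intro b hb h1
    refine h.three hE hx hne hb ?_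
    by_contra hbx
    exact huL (h.two hx hux (h.le hb) h1 hbx)
  choose s hs1 hs2 using fun n : R => (n.2 : ∃ b ∈ B, Fx L (cm b u + n))
  rw [← Nat.card_prod, ← Nat.card_prod]
  have hmul : ∀ n : R, ∀ b : (B ⊓ KL L φ : Subgroup Y), cm (s n * b) u = cm (s n) u := by
    intro n b
    rw [cm_mul, hcc _ (hs1 n) _ b.2.1, add_zero, cm_eq_zero.2 (h.fix_PW b.2.1 b.2.2 hu), add_zero]
  refine Nat.card_congr (Equiv.ofBijective
    (fun p : R × (B ⊓ KL L φ : Subgroup Y) => ((⟨s p.1 * p.2, mul_mem (hs1 p.1) p.2.2.1⟩,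
      ⟨cm (s p.1) u + p.1, hs2 p.1⟩) : B × VL V L)) ⟨?_, ?_⟩)
  · rintro ⟨n, b⟩ ⟨n', b'⟩ h1
    have h2 : s n * b = s n' * b' := congrArg (fun p => (p.1 : Y)) h1
    have h3 : cm (s n) u + (n : V) = cm (s n') u + n' := congrArg (fun p => (p.2 : V)) h1
    have h4 : cm (s n) u = cm (s n') u := by rw [← hmul n b, ← hmul n' b', h2]
    rw [h4] at h3
    have h5 : n = n' := Subtype.ext (add_left_cancel h3)
    subst h5
    have h6 : b = b' := Subtype.ext (mul_left_cancel h2)
    subst h6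
    rfl
  · rintro ⟨⟨b, hb⟩, m, hm⟩
    have hR : cm b u + m ∈ R := ⟨b, hb, by
      rw [← add_assoc, add_self, zero_add]
      exact hm⟩
    let n : R := ⟨cm b u + m, hR⟩
    have h1 := hs2 n
    have h2 : cm (s n * b) u = cm (s n) u + (n : V) + m := by
      rw [cm_mul, hcc _ (hs1 n) _ hb, add_zero]
      change _ = cm (s n) u + (cm b u + m) + m
      rw [add_assoc, add_assoc, add_self, add_zero]
    have h3 : s n * b ∈ KL L φ := by
      refine hfix _ (mul_mem (hs1 n) hb) ?_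
      rw [h2]
      exact h1.add hm
    have h4 : cm (s n * b) u = 0 := cm_eq_zero.2 (h.fix_PW (mul_mem (hs1 n) hb) h3 hu)
    rw [h2] at h4
    refine ⟨(n, ⟨s n * b, mul_mem (hs1 n) hb, h3⟩), Prod.ext (Subtype.ext ?_) (Subtype.ext ?_)⟩
    · change s n * (s n * b) = b
      rw [← mul_assoc, h.nb.sq _ (hs1 n), one_mul]
    · exact eq_of_add h4

theorem exists_out [Finite Y] [Finite V] (hE : ∀ l ∈ L, φ (l • w) = 0) {x : Y} (hx : x ∈ L)
    (hne : dua x φ ≠ φ) {v : V} (hv : φ v = 1) : ∃ A : Subgroup Y, Out φ B L w x v A := by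
  classical
  let A : Subgroup Y :=
    { carrier := {a | a ∈ B ∧ ∃ u ∈ PW L w, Fx B (x⁻¹ • u) ∧ Fx B (cm a v + u)}
      one_mem' := ⟨one_mem B, 0, zero_mem _, by rw [smul_zero]; exact Fx.zero B, by
        rw [cm_one, zero_add]
        exact Fx.zero B⟩
      mul_mem' := by
        rintro a b ⟨ha, u, hu, hux, h1⟩ ⟨hb, u', hu', hux', h2⟩
        refine ⟨mul_mem ha hb, u + u', add_mem hu hu', by rw [smul_add]; exact hux.add hux', ?_⟩
        have h3 := h.nb.ed _ (h.nb.cm_mem hb v) a ha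
        rw [cm_mul, show cm a v + cm b v + cm a (cm b v) + (u + u') =
          (cm a v + u) + (cm b v + u') + cm a (cm b v) by abel]
        exact (h1.add h2).add h3
      inv_mem' := by
        rintro a ⟨ha, h1⟩
        rw [h.inv_B ha]
        exact ⟨ha, h1⟩ }
  have hA : ∀ a, a ∈ A ↔ a ∈ B ∧ ∃ u ∈ PW L w, Fx B (x⁻¹ • u) ∧ Fx B (cm a v + u) := fun a => Iff.rfl
  have hxw : x • w ∈ PW L w := orb_mem_PW hx
  have hxw' : Fx B (x⁻¹ • (x • w)) := by
    rw [inv_smul_smul]
    exact h.fixw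
  have hxwL : ¬ Fx L (x • w) := fun h0 => h.w_not ((fx_smul hx).1 h0)
  have hAne : ∃ a ∈ A, a ≠ 1 := by
    obtain ⟨a, ha, hd⟩ := h.nb.surj v (x • w) hv (h.phi_PW hE hxw)
    refine ⟨a, ⟨ha, x • w, hxw, hxw', hd⟩, ?_⟩
    rintro rfl
    rw [cm_one, zero_add] at hd
    exact hxwL (h.fix_of2 hx hne hd hxw')
  have hp0 : ∀ a ∈ A, ∀ b ∈ B, b ∈ KL L φ → cm b (cm a v) = 0 := by
    rintro a ⟨-, u, hu, -, h1⟩ b hb hb'
    exact h.perp0 hb hb' hu h1
  have hp1 : ∀ a ∈ A, a ≠ 1 → ∀ b ∈ B, cm b (cm a v) = 0 → b ∈ KL L φ := by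
    rintro a ⟨ha, u, -, hux, h1⟩ ha1 b hb h0
    exact h.perp1 hE hx hne hv ha ha1 hux h1 hb h0
  have hAK : ∀ a ∈ A, a ∈ KL L φ := by
    intro a ha
    by_cases ha1 : a = 1
    · rw [ha1]
      exact one_mem _
    · exact hp1 a ha ha1 a ha.1 (cm_eq_zero.2 (h.nb.smul_cm_self ha.1 v))
  -- no offender
  have hlt : Nat.card A * Nat.card ((B ⊓ KL L φ : Subgroup Y)) < 2 * Nat.card B := by
    obtain ⟨E, hE', hc⟩ := h.card_VH hv (inf_le_left : B ⊓ KL L φ ≤ B)
    have h1 : Nat.card E ≤ Nat.card {v : V // Fx A v} := by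
      refine Nat.card_le_card_of_injective (fun u : E => (⟨u, ?_⟩ : {v : V // Fx A v})) ?_
      · intro a ha
        obtain ⟨b, hb, h1⟩ := (hE' u).1 u.2
        rw [← cm_eq_zero, ← h.cm_cm_of_fx ha.1 h1, cm_comm (h.nb.comm a ha.1 b hb.1)]
        exact hp0 a ha b hb.1 hb.2
      · intro u u' h2
        exact Subtype.ext (congrArg (fun p : {v : V // Fx A v} => (p : V)) h2)
    have h2 := h.noff A (by
      rintro h0
      obtain ⟨a, ha, ha1⟩ := hAne
      rw [h0, mem_bot] at ha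
      exact ha1 ha) (fun a ha b hb => h.nb.comm a ha.1 b hb.1) (fun a ha => h.nb.sq a ha.1)
    rw [h.card_V] at h2
    have h3 := lt_of_le_of_lt (Nat.mul_le_mul_left (Nat.card A) h1) h2
    rw [hc, ← mul_assoc, ← mul_assoc] at h3
    exact lt_of_mul_lt_mul_right h3 (Nat.zero_le _)
  have hC2 := h.card_C2 hx hne hv hE hA
  let C : AddSubgroup V :=
    { carrier := {u | u ∈ PW L w ∧ Fx B u}
      zero_mem' := ⟨zero_mem _, Fx.zero B⟩
      add_mem' := fun h1 h2 => ⟨add_mem h1.1 h2.1, h1.2.add h2.2⟩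
      neg_mem' := by
        intro u hu
        rw [neg_eq]
        exact hu }
  have hC : Nat.card C = Nat.card A * Nat.card (VL V L) := by
    rw [← hC2]
    refine Nat.card_congr ⟨fun u => ⟨x • u, smul_mem_PW hx u.2.1, by rw [inv_smul_smul]; exact u.2.2⟩,
      fun u => ⟨x⁻¹ • u, smul_mem_PW (inv_mem hx) u.2.1, u.2.2⟩, fun u => Subtype.ext ?_,
      fun u => Subtype.ext ?_⟩
    · exact inv_smul_smul x _
    · exact smul_inv_smul x _
  have hpos : 0 < Nat.card ((B ⊓ KL L φ : Subgroup Y)) := Nat.card_pos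
  have hpos' : 0 < Nat.card (VL V L) := Nat.card_pos
  have main : ∀ u ∈ PW L w, Fx B (x⁻¹ • u) → ¬ Fx L u →
      (∀ t ∈ PW L w, Fx B t → ∃ b ∈ B, Fx L (cm b u + t)) ∧
      Nat.card A * Nat.card ((B ⊓ KL L φ : Subgroup Y)) = Nat.card B := by
    intro u hu hux huL
    obtain ⟨R, hR, hRc⟩ := h.exists_R hE hx hne hu hux huL
    have hRC : R ≤ C := by
      intro n hn
      obtain ⟨b, hb, h1⟩ := (hR n).1 hn
      have h2 : n = cm b u + (cm b u + n) := by rw [← add_assoc, add_self, zero_add]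
      rw [h2]
      exact ⟨add_mem (cm_mem_PW (h.le hb) hu) (VL_le_PW h1),
        (h.nb.ed u (h.phi_PW hE hu) b hb).add (h.fx_B h1)⟩
    have h1 : Nat.card C < 2 * Nat.card R := by
      have h2 : Nat.card C * Nat.card ((B ⊓ KL L φ : Subgroup Y)) <
          2 * Nat.card R * Nat.card ((B ⊓ KL L φ : Subgroup Y)) := by
        rw [hC, mul_assoc 2, hRc]
        calc Nat.card A * Nat.card (VL V L) * Nat.card ((B ⊓ KL L φ : Subgroup Y))
            = Nat.card A * Nat.card ((B ⊓ KL L φ : Subgroup Y)) * Nat.card (VL V L) := by ring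
          _ < 2 * Nat.card B * Nat.card (VL V L) := Nat.mul_lt_mul_of_pos_right hlt hpos'
          _ = 2 * (Nat.card B * Nat.card (VL V L)) := by ring
      exact lt_of_mul_lt_mul_right h2 (Nat.zero_le _)
    obtain ⟨m, hm⟩ := AddSubgroup.card_dvd_of_le hRC
    have hCpos : 0 < Nat.card C := Nat.card_pos
    have hm1 : m = 1 := by
      have h3 : m ≠ 0 := by
        rintro rfl
        rw [mul_zero] at hm
        omega
      have h4 : m < 2 := by
        by_contra hc
        have h5 : 2 ≤ m := by omega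
        have h6 := Nat.mul_le_mul_left (Nat.card R) h5
        rw [← hm] at h6
        omega
      omega
    rw [hm1, mul_one] at hm
    have hRC' : R = C := AddSubgroup.eq_of_le_of_card_ge hRC hm.le
    refine ⟨fun t ht htB => ?_, ?_⟩
    · have h3 : t ∈ R := by
        rw [hRC']
        exact ⟨ht, htB⟩
      exact (hR t).1 h3
    · rw [← hm, hC] at hRc
      have h4 : Nat.card A * Nat.card ((B ⊓ KL L φ : Subgroup Y)) * Nat.card (VL V L) =
          Nat.card B * Nat.card (VL V L) := by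
        rw [← hRc]
        ring
      exact Nat.eq_of_mul_eq_mul_right hpos' h4
  exact ⟨A, fun a ha => ha.1, hAK, hAne, hp0, hp1, (main _ hxw hxw' hxwL).2,
    fun u hu hux huL => (main u hu hux huL).1⟩

end MP

end Cfsg.Agent.Omega.NearFF

end
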