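import Cfsg.Agent.Mrg.Omega.NearFF.Geo
import Cfsg.Agent.Mrg.Omega.NearFF.Symp
import Cfsg.Agent.Omega.NearFF.SymPlus
import Cfsg.Agent.Mrg.Omega.Transv.Basic
import Cfsg.Agent.Mrg.Omega.NearFF.Case1End

section


/-!
# (BT), `|V/E| = 2`: `Sp ⟹ (+)` (helper276 #14522, on helper132's structure `Sp`)

* `Sp.data` : the structure `SymPlus.Data`;
* `Sp.plus` : `β z (g • z) = 0 → g ∈ M`.
-/

set_option autoImplicit false

namespace Cfsg.Agent.Omega.NearFF

open Subgroup Cfsg.Agent.Omega.Transv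

variable {Y : Type*} [Group Y] {V : Type*} [AddCommGroup V] [Module (ZMod 2) V] [DistribMulAction Y V]

namespace Sp

variable {T : Sylow 2 Y} {M : Subgroup Y} {z : V} {β : V →ₗ[ZMod 2] Du V} (h : Sp T M z β)
include h

/-- the form -/
def frm : SymPlus.IFrm Y V where
  b v w := β v w
  add_left u v w := by rw [map_add, LinearMap.add_apply]
  symm := h.symm
  alt := h.alt
  nondeg v hv := h.nondeg v (LinearMap.ext fun w => by rw [hv]; rfl)
  inv := h.inv
  faith := h.faith

theorem R_eq (x : V) : h.frm.R x = KK Y x (β x) := by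
  ext r
  rw [SymPlus.IFrm.mem_R, mem_KK]
  constructor
  · rintro ⟨h1, h2⟩
    refine ⟨h1, fun v => ?_, h2⟩
    have h3 := h.inv r x v
    rwa [h1] at h3
  · rintro ⟨h1, _, h2⟩
    exact ⟨h1, h2⟩

theorem lt_ker [Finite V] {g : Y} {x : V} (hx : x ≠ 0) (hg : ∀ v, g • v = v + β v x • x) : False := by
  have hβx : β x ≠ 0 := fun h0 => hx (h.nondeg x h0)
  have hg' : ∀ v, g • v = v + β x v • x := fun v => by rw [hg, h.symm]
  have htv : Tv g x (β x) := ⟨hx, hβx, hg'⟩
  have hsq := htv.mul_self h.faith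
  have hmem : ∀ b ∈ zpowers g, b = 1 ∨ b = g := by
    intro b hb
    obtain ⟨n, rfl⟩ := mem_zpowers_iff.1 hb
    rcases Int.even_or_odd' n with ⟨k, hk | hk⟩
    · left
      rw [hk, zpow_mul, zpow_two, hsq, one_zpow]
    · right
      rw [hk, zpow_add, zpow_mul, zpow_two, hsq, one_zpow, one_mul, zpow_one]
  have h1 := h.noff (zpowers g) (fun h0 => htv.ne_one (zpowers_eq_bot.1 h0))
    (fun a ha b hb => by
      rcases hmem a ha with rfl | rfl <;> rcases hmem b hb with rfl | rfl <;> simp)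
    (fun a ha => by
      rcases hmem a ha with rfl | rfl
      · exact one_mul 1
      · exact hsq)
  have h2 : Nat.card (zpowers g) = 2 := by
    rw [Nat.card_zpowers]
    exact orderOf_eq_prime (by rw [pow_two, hsq]) htv.ne_one
  have h3 : Nat.card {v : V // Fx (zpowers g) v} = Nat.card {u : V // β x u = 0} := by
    refine Nat.card_congr (Equiv.subtypeEquivRight fun v => ?_)
    rw [← htv.fix_iff]
    constructor
    · intro h4
      exact h4 g (mem_zpowers g)
    · intro h4 b hb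
      rcases hmem b hb with rfl | rfl
      · exact one_smul Y v
      · exact h4
  have h4 : Nat.card {u : V // β x u = 0} = Nat.card {u : V // β x u = 1} := by
    obtain ⟨w, hw⟩ := exists_one hβx
    refine Nat.card_congr ⟨fun u => ⟨(u : V) + w, by rw [map_add, u.2, hw, zero_add]⟩,
      fun u => ⟨(u : V) + w, by rw [map_add, u.2, hw, one_add_one]⟩, fun u => ?_, fun u => ?_⟩
    · exact Subtype.ext (add_add_self _ _)
    · exact Subtype.ext (add_add_self _ _)
  rw [h2, h3, h4, card_hyper hβx] at h1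
  exact lt_irrefl _ h1

theorem nf [Finite V] {g k : Y} {x y : V} (hx : x ≠ 0) (hy : y ≠ 0) (hxy : x ≠ y) (hb : β x y = 0)
    (hg : ∀ v, g • v = v + β v y • y + β v (x + y) • (x + y))
    (hk : ∀ v, k • v = v + β v x • x + β v (x + y) • (x + y)) : False := by
  have hs0 : x + y ≠ 0 := fun h0 => hxy (eq_of_add h0)
  have hxs : x ≠ x + y := fun h0 => hy (by simpa using h0.symm)
  have hys : y ≠ x + y := fun h0 => hx (by simpa using h0.symm)
  have hβx : β x ≠ 0 := fun h0 => hx (h.nondeg x h0)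
  have hβy : β y ≠ 0 := fun h0 => hy (h.nondeg y h0)
  have hyx : β y x = 0 := by rw [h.symm, hb]
  have hg' : ∀ v, g • v = v + β y v • y + β (x + y) v • (x + y) := fun v => by
    rw [hg, h.symm v y, h.symm v (x + y)]
  have hk' : ∀ v, k • v = v + β x v • x + β (x + y) v • (x + y) := fun v => by
    rw [hk, h.symm v x, h.symm v (x + y)]
  have a1 : β x x = 0 := h.alt x
  have a2 : β y y = 0 := h.alt y
  have a3 : β (x + y) (x + y) = 0 := h.alt _
  have a4 : β x (x + y) = 0 := by rw [map_add, a1, hb, add_zero]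
  have a5 : β y (x + y) = 0 := by rw [map_add, a2, hyx, add_zero]
  have a6 : β (x + y) x = 0 := by rw [h.symm, a4]
  have a7 : β (x + y) y = 0 := by rw [h.symm, a5]
  have e1 : g * g = 1 := comp_self h.faith hg' a2 a5 a7 a3
  have e2 : k * k = 1 := comp_self h.faith hk' a1 a4 a6 a3
  have e3 : g * k = k * g := comp_comm h.faith hg' hk' hyx a5 a6 a3 hb a4 a7 a3
  have m1 := comp_fix hy hs0 hys hg'
  have m2 := comp_fix hx hs0 hxs hk'
  obtain ⟨v, hv⟩ := exists_one hβy
  obtain ⟨w, hw⟩ := exists_one hβx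
  have n1 : g ≠ 1 := fun h1 => by
    have h2 := (m1 v).mp (by rw [h1, one_smul])
    rw [hv] at h2
    exact one_ne h2.1
  have n2 : k ≠ 1 := fun h1 => by
    have h2 := (m2 w).mp (by rw [h1, one_smul])
    rw [hw] at h2
    exact one_ne h2.1
  have n3 : g ≠ k := fun h1 => by
    have h2 := hg' v
    rw [h1, hk' v, hv, one_smul] at h2
    rcases zmod_cases (β x v) with h3 | h3
    · rw [h3, zero_smul, add_zero] at h2
      have h4 := add_right_cancel h2
      exact hy (by simpa using h4.symm)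
    · rw [h3, one_smul] at h2
      have h4 := add_left_cancel (add_right_cancel h2)
      exact hxy h4
  have h1 := h.noff (NearFF.four e1 e2 e3) (fun h0 => n1 (by
      have : g ∈ NearFF.four e1 e2 e3 := Or.inr (Or.inl rfl)
      rw [h0] at this
      exact mem_bot.1 this)) (by
    rintro a (rfl | rfl | rfl | rfl) b (rfl | rfl | rfl | rfl)
    all_goals first
      | rfl
      | rw [one_mul, mul_one]
      | exact e3
      | exact e3.symm
      | skip
    · rw [← mul_assoc, e1, one_mul, e3, mul_assoc, e1, mul_one]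
    · rw [← mul_assoc, ← e3, mul_assoc, e2, mul_one]
    · rw [mul_assoc, ← e3, ← mul_assoc]
    · rw [mul_assoc, e2, mul_one, ← mul_assoc, ← e3, mul_assoc, e2, mul_one]) (by
    rintro a (rfl | rfl | rfl | rfl)
    · exact one_mul 1
    · exact e1
    · exact e2
    · rw [mul_assoc, ← mul_assoc k, ← e3, mul_assoc g, e2, mul_one, e1])
  have hne : β x ≠ β y := fun h0 => hxy (eq_of_add (h.nondeg _ (by rw [map_add, h0]; exact add_self _)))
  have h2 := card_two hβx hβy hne (fixS V (NearFF.four e1 e2 e3)) (fun u => by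
    rw [mem_fixS]
    constructor
    · intro h1
      have h2 := (m1 u).mp (h1 _ (Or.inr (Or.inl rfl)))
      have h3 := (m2 u).mp (h1 _ (Or.inr (Or.inr (Or.inl rfl))))
      exact ⟨h3.1, h2.1⟩
    · rintro ⟨h1, h2⟩
      have h5 : β (x + y) u = 0 := by rw [map_add, LinearMap.add_apply, h1, h2, add_zero]
      have h3 := (m1 u).mpr ⟨h2, h5⟩
      have h4 := (m2 u).mpr ⟨h1, h5⟩
      rintro n (rfl | rfl | rfl | rfl)
      · exact one_smul _ u
      · exact h3
      · exact h4
      · rw [mul_smul, h4, h3])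
  rw [card_four n1 n2 n3] at h1
  have h3 : Nat.card {v : V // Fx (NearFF.four e1 e2 e3) v} = Nat.card (fixS V (NearFF.four e1 e2 e3)) := rfl
  rw [h3, ← h2] at h1
  exact lt_irrefl _ h1

/-- the structure `SymPlus.Data` -/
def data [Finite V] : SymPlus.Data Y V where
  toIFrm := h.frm
  z := z
  z_ne := h.z_ne
  span := by
    rw [eq_top_iff]
    intro v _
    have h1 : v ∈ Submodule.span (ZMod 2) (Set.range fun g : Y => g • z) := by rw [h.span]; trivial
    induction h1 using Submodule.span_induction with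
    | mem x hx => exact AddSubgroup.subset_closure hx
    | zero => exact zero_mem _
    | add a b _ _ ha hb => exact add_mem (ha trivial) (hb trivial)
    | smul c a _ ha =>
      rcases zmod_cases c with rfl | rfl
      · rw [zero_smul]; exact zero_mem _
      · rw [one_smul]; exact ha trivial
  T := T
  M := M
  T_two := T.isPGroup'
  T_max := fun Q hQ hTQ => T.is_maximal' hQ hTQ
  T_fix := h.z_fix
  T_only := h.fixT
  M_only := fun H hT hH => (h.max H hT).resolve_right hH
  card4 := by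
    rw [h.R_eq]
    exact h.four z (MulAction.mem_orbit_self z)
  DO := fun y hy hr => h.only z (MulAction.mem_orbit_self z) y hy (by
    rw [← h.R_eq]
    exact hr)
  NT := fun g x hx hg => h.lt_ker hx hg
  NF := fun g k x y hx hy hxy hb hg hk => h.nf hx hy hxy hb hg hk

/-- **#14522**: (+) -/
theorem plus [Finite V] {g : Y} (hg : β z (g • z) = 0) : g ∈ M := h.data.plus hg

end Sp

end Cfsg.Agent.Omega.NearFF

end

section


/-!
# (BT), `|V/E| = 2`: the symmetric case on `Dat` (project OMEGA, leaf N1)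

* `Dat.plus_of_symm` : `f` symmetric ⟹ (+);
* `Dat.plus_of_Fz` : `F₀(z) = ⟨z⟩` ⟹ (+);
* `Dat.plus_of_card` : `|R_z| ≥ 3` ⟹ (+);
* `Dat.plus_of_good`, `Dat.plus_of_two` : a good `A ≠ 1`, resp. `|[E, b]| = 2` ⟹ (+);
* `Dat.five_of_plus` : (+) ⟹ `|Ω| = 5`.
-/

set_option autoImplicit false
set_option linter.unusedSectionVars false

namespace Cfsg.Agent.Omega.NearFF

open Subgroup Cfsg.Agent.Omega.Transv

variable {Y : Type*} [Group Y] {V : Type*} [AddCommGroup V] [Module (ZMod 2) V] [DistribMulAction Y V]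

namespace Dat

variable {T : Sylow 2 Y} {M : Subgroup Y} {z : V} {f : V → Du V} {Q : V → Subgroup Y}
  {BB : V → Set (Subgroup Y)} [Finite Y] [Finite V] (h : Dat T M z f Q BB)
include h

/-- `f` symmetric ⟹ (+) -/
theorem plus_of_symm (hs : ∀ x ∈ MulAction.orbit Y z, ∀ y ∈ MulAction.orbit Y z, f x y = f y x) :
    ∀ g : Y, f z (g • z) = 0 → g ∈ M := by
  obtain ⟨β, hβ, hf⟩ := h.exists_sp hs
  intro g hg
  refine hβ.plus ?_
  rw [hf z (MulAction.mem_orbit_self z)]
  exact hg

/-- `F₀(z) = ⟨z⟩` ⟹ (+) -/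
theorem plus_of_Fz (hF : ∀ v : V, (∀ B ∈ BB z, Fx B v) → v = 0 ∨ v = z) :
    ∀ g : Y, f z (g • z) = 0 → g ∈ M :=
  h.plus_of_symm fun _ hx _ hy => h.symm_of hF hx hy

/-- `|R_z| ≥ 3` ⟹ (+) -/
theorem plus_of_card (hR : 3 ≤ Nat.card (KK Y z (f z))) : ∀ g : Y, f z (g • z) = 0 → g ∈ M :=
  h.plus_of_symm fun _ hx _ hy => h.symm_of_card hR hx hy

/-- a good `A ≠ 1` ⟹ (+) -/
theorem plus_of_good {B : Subgroup Y} (hB : B ∈ BB z) {A : Set Y} (hA : Good (f z) B A) {a : Y}
    (ha : a ∈ A) (ha1 : a ≠ 1) : ∀ g : Y, f z (g • z) = 0 → g ∈ M :=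
  h.plus_of_symm fun _ hx _ hy => h.symm_of_good hB hA ha ha1 hx hy

/-- `|[E, b]| = 2` for some `1 ≠ b ∈ B ∈ BB z` ⟹ (+) -/
theorem plus_of_two {B : Subgroup Y} (hB : B ∈ BB z) {b : Y} (hb : b ∈ B) (hb1 : b ≠ 1) {w : V}
    (hw : ∀ e : V, f z e = 0 → cm b e = 0 ∨ cm b e = w) : ∀ g : Y, f z (g • z) = 0 → g ∈ M :=
  h.plus_of_symm fun _ hx _ hy => h.symm_of_two hB hb hb1 hw hx hy

/-- (+) ⟹ `|Ω| = 5` -/
theorem five_of_plus (plus : ∀ g : Y, f z (g • z) = 0 → g ∈ M) : Nat.card (MulAction.orbit Y z) = 5 :=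
  PlusFam.five h plus

end Dat

end Cfsg.Agent.Omega.NearFF

end

section


/-!
# (BT), `|V/E| = 2`: (+) (project OMEGA, leaf N1)

Text: helper132, bb OMEGA #17318.

* `Dat.plusAbs` : (+);
* `btAbs` : `NO1.Two.BTAbs`;
* `Dat.five` : `|Ω| = 5`.
-/

set_option autoImplicit false
set_option linter.unusedSectionVars false

namespace Cfsg.Agent.Omega.NearFF

open Subgroup Cfsg.Agent.Omega.Transv

variable {Y : Type*} [Group Y] {V : Type*} [AddCommGroup V] [Module (ZMod 2) V] [DistribMulAction Y V]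

/-- **(+)** for `|V/E| = 2` -/
theorem Dat.plusAbs [Finite Y] [Finite V] {T : Sylow 2 Y} {M : Subgroup Y} {z : V} {f : V → Du V}
    {Q : V → Subgroup Y} {BB : V → Set (Subgroup Y)} (h : Dat T M z f Q BB) :
    ∀ g : Y, f z (g • z) = 0 → g ∈ M := by
  obtain ⟨B, hB⟩ := h.bb_ne
  obtain ⟨B', L, w, hB', hmp⟩ := h.exists_mp hB
  by_cases hbig : Big (f z) B'
  · exact (hmp.false_of_big hbig).elim
  · unfold Big at hbig
    push Not at hbig
    obtain ⟨b, hb, hb1, w', hw⟩ := hbig
    refine h.plus_of_two hB' hb hb1 (w := w') fun e he => ?_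
    by_cases h0 : cm b e = 0
    · exact Or.inl h0
    · exact Or.inr (hw e he h0)

/-- `|Ω| = 5` -/
theorem Dat.five_pts [Finite Y] [Finite V] {T : Sylow 2 Y} {M : Subgroup Y} {z : V} {f : V → Du V}
    {Q : V → Subgroup Y} {BB : V → Set (Subgroup Y)} (h : Dat T M z f Q BB) :
    Nat.card (MulAction.orbit Y z) = 5 := h.five_of_plus h.plusAbs

/-- **(BT), `|V/E| = 2`, abstract form** -/
theorem btAbs.{u} : NO1.Two.BTAbs.{u} := by
  intro Y V _ _ _ _ _ _ T M z f Q BB h
  exact h.plusAbs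

end Cfsg.Agent.Omega.NearFF

end
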